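import Groth.Agent.AVIdx.TorsDense
import Groth.Agent.AVFac.Tate
import Groth.Agent.GrpSchLib.FibreDimGrp

/-!
A homomorphism of abelian varieties killing the torsion of prime power order is trivial.
-/

set_option linter.style.haveILetI false
set_option backward.isDefEq.respectTransparency false
set_option backward.isDefEq.respectTransparency.types false

universe u

open CategoryTheory CategoryTheory.Limits MonoidalCategory CartesianMonoidalCategory MonObj GrpObj AlgebraicGeometry TopologicalSpace

namespace Groth.Agent.AVIdx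

open Groth.Agent Groth.Agent.AVAmple

variable {k : Type u} [Field k]

theorem exists_dim (A : Over (Spec (CommRingCat.of k))) [GrpObj A] [LocallyOfFiniteType A.hom] :
    ∃ g : ℕ, topologicalKrullDim A.left = g := by
  obtain ⟨n, hn⟩ := GrpSchLib.FibreDimGrp.exists_nat A (IsLocalRing.closedPoint k)
  have huniv : A.hom ⁻¹' {IsLocalRing.closedPoint k} = Set.univ :=
    Set.eq_univ_of_forall fun x => @Subsingleton.elim (Spec (CommRingCat.of k)) inferInstance _ _
  rw [huniv, (Homeomorph.Set.univ A.left).isHomeomorph.topologicalKrullDim_eq] at hn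
  exact ⟨n, hn⟩

/-- The union of the torsion points of prime power order is dense. -/
theorem dense_iUnion_torsion [IsAlgClosed k] (A : Over (Spec (CommRingCat.of k))) [GrpObj A] [IsCommMonObj A]
    [IsProper A.hom] [GeometricallyIntegral A.hom] (l : ℕ) [Fact l.Prime] (hl : (l : k) ≠ 0) :
    Dense (pt '' {a : 𝟙_ (Over (Spec (CommRingCat.of k))) ⟶ A | ∃ n, a ^ (l ^ n) = 1}) := by
  obtain ⟨g, hg⟩ := exists_dim A
  exact dense_torsion l hl g hg

/-- Homomorphisms which kill the torsion of prime power order are trivial. -/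
theorem eq_one_of_kills_torsion [IsAlgClosed k] {A B : Over (Spec (CommRingCat.of k))}
    [GrpObj A] [IsCommMonObj A] [IsProper A.hom] [GeometricallyIntegral A.hom]
    [GrpObj B] [IsSeparated B.hom] [LocallyOfFiniteType B.hom] (l : ℕ) [Fact l.Prime] (hl : (l : k) ≠ 0)
    (φ : A ⟶ B) [IsMonHom φ]
    (h : ∀ (n : ℕ) (a : 𝟙_ (Over (Spec (CommRingCat.of k))) ⟶ A), a ^ (l ^ n) = 1 → a ≫ φ = 1) : φ = 1 := by
  haveI : IsIntegral A.left := GeometricallyIntegral.isIntegral_of_subsingleton A.hom
  haveI : IsReduced (Spec (CommRingCat.of k)) := inferInstance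
  let e : pullback (CartesianMonoidalCategory.lift φ 1).left (CartesianMonoidalCategory.lift (𝟙 B) (𝟙 B)).left ⟶
      A.left := pullback.fst _ _
  haveI : IsClosedImmersion (CartesianMonoidalCategory.lift (𝟙 B) (𝟙 B)).left := by
    have : IsSeparated (fst B B).left := inferInstanceAs (IsSeparated (pullback.fst B.hom B.hom))
    have h1 : (CartesianMonoidalCategory.lift (𝟙 B) (𝟙 B)).left ≫ (fst B B).left = 𝟙 _ := by
      rw [← Over.comp_left, lift_fst]; rfl
    haveI : IsClosedImmersion ((CartesianMonoidalCategory.lift (𝟙 B) (𝟙 B)).left ≫ (fst B B).left) := by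
      rw [h1]; infer_instance
    exact IsClosedImmersion.of_comp _ (fst B B).left
  have hsub : pt '' {a : 𝟙_ (Over (Spec (CommRingCat.of k))) ⟶ A | ∃ n, a ^ (l ^ n) = 1} ⊆ Set.range e := by
    rintro _ ⟨a, ⟨n, hn⟩, rfl⟩
    refine ⟨(pullback.lift a.left (a ≫ φ).left ?_ : Spec (CommRingCat.of k) ⟶ _) (IsLocalRing.closedPoint k), ?_⟩
    · rw [← Over.comp_left, ← Over.comp_left]
      congr 1
      rw [comp_lift, comp_lift, MonObj.comp_one, Category.comp_id, h n a hn]
    · rw [← Scheme.Hom.comp_apply]
      exact congrArg (fun t : Spec (CommRingCat.of k) ⟶ A.left => t (IsLocalRing.closedPoint k))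
        (pullback.lift_fst _ _ _)
  haveI : Surjective e := ⟨fun x => by
    have := closure_minimal hsub e.isClosedEmbedding.isClosed_range
    exact this ((dense_iUnion_torsion A l hl) x)⟩
  haveI : IsClosedImmersion e := inferInstanceAs (IsClosedImmersion (pullback.fst _ _))
  haveI := isIso_of_isClosedImmersion_of_surjective e
  let q : pullback (CartesianMonoidalCategory.lift φ 1).left (CartesianMonoidalCategory.lift (𝟙 B) (𝟙 B)).left ⟶
      B.left := pullback.snd _ _
  have hφ : φ.left = inv e ≫ q ∧ (1 : A ⟶ B).left = inv e ≫ q := by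
    have h0 := pullback.condition (f := (CartesianMonoidalCategory.lift φ (1 : A ⟶ B)).left)
      (g := (CartesianMonoidalCategory.lift (𝟙 B) (𝟙 B)).left)
    have hf : (CartesianMonoidalCategory.lift (𝟙 B) (𝟙 B)).left ≫ (fst B B).left = 𝟙 _ := by
      rw [← Over.comp_left, lift_fst]; rfl
    have hs : (CartesianMonoidalCategory.lift (𝟙 B) (𝟙 B)).left ≫ (snd B B).left = 𝟙 _ := by
      rw [← Over.comp_left, lift_snd]; rfl
    constructor
    · rw [IsIso.eq_inv_comp]
      have := congrArg (· ≫ (fst B B).left) h0
      simp only [Category.assoc, hf, Category.comp_id, ← Over.comp_left, lift_fst] at this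
      exact this
    · rw [IsIso.eq_inv_comp]
      have := congrArg (· ≫ (snd B B).left) h0
      simp only [Category.assoc, hs, Category.comp_id, ← Over.comp_left, lift_snd] at this
      exact this
  exact Over.OverMorphism.ext (hφ.1.trans hφ.2.symm)

end Groth.Agent.AVIdx
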