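import Groth.Agent.AVIdx.GeomPts
import Groth.Prelude.Def_EndTate
import Mathlib.AlgebraicGeometry.Group.Abelian
import Mathlib.LinearAlgebra.Charpoly.Basic

/-!
The Tate module of geometric points is the Tate module of rational points of the base change.
-/

set_option linter.style.haveILetI false
set_option backward.isDefEq.respectTransparency false
set_option backward.isDefEq.respectTransparency.types false

universe u

open CategoryTheory CategoryTheory.Limits MonoidalCategory CartesianMonoidalCategory MonObj GrpObj AlgebraicGeometry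

namespace Groth.Agent.AVIdx.TateBc

noncomputable section

variable {S S' : Scheme.{u}} (σ : S' ⟶ S)

/-- Base change of homomorphisms as endomorphisms. -/
def bcEnd (A : Over S) [GrpObj A] [IsCommMonObj A] [IsCommMonObj (Red.bc σ A)] :
    EndAV.End A →+* EndAV.End (Red.bc σ A) where
  toFun φ := EndAV.End.of ((Over.pullback σ).map φ.toHom)
  map_one' := EndAV.End.ext (by simp [EndAV.End.toHom_one])
  map_mul' φ ψ := EndAV.End.ext (by
    simp only [EndAV.End.toHom_mul, EndAV.End.toHom_of, Functor.map_comp])
  map_zero' := EndAV.End.ext (by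
    simp only [EndAV.End.toHom_zero, EndAV.End.toHom_of]
    exact Functor.map_one (F := Over.pullback σ))
  map_add' φ ψ := EndAV.End.ext (by
    simp only [EndAV.End.toHom_add, EndAV.End.toHom_of]
    exact Functor.map_mul (F := Over.pullback σ) _ _)

variable (A : Over S) [GrpObj A] [IsCommMonObj A] [IsCommMonObj (Red.bc σ A)] (l : ℕ)

/-- The bijection of Tate modules. -/
def toBc : AbDual.TateMod A l (Over.mk σ) →+ AbDual.TateMod (Red.bc σ A) l (𝟙_ (Over S')) where
  toFun x := ⟨fun n => Additive.ofMul (GeomPts.equiv σ A ((x : ℕ → Additive (Over.mk σ ⟶ A)) n).toMul),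
    fun n => congrArg Additive.ofMul ((map_pow (GeomPts.equiv σ A) _ _).symm.trans
      ((congrArg (GeomPts.equiv σ A) (congrArg Additive.toMul (x.torsion n))).trans (map_one _))),
    fun n => congrArg Additive.ofMul ((map_pow (GeomPts.equiv σ A) _ _).symm.trans
      (congrArg (GeomPts.equiv σ A) (congrArg Additive.toMul (x.compat n))))⟩
  map_zero' := AbDual.TateMod.ext fun _ => congrArg Additive.ofMul (map_one _)
  map_add' x y := AbDual.TateMod.ext fun _ => congrArg Additive.ofMul (map_mul _ _ _)

theorem bijective_toBc : Function.Bijective (toBc σ A l) := by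
  refine ⟨fun x y h => AbDual.TateMod.ext fun n => ?_, fun y => ?_⟩
  · have := congrArg (fun z : AbDual.TateMod (Red.bc σ A) l (𝟙_ (Over S')) =>
      ((z : ℕ → Additive (𝟙_ (Over S') ⟶ Red.bc σ A)) n).toMul) h
    exact congrArg Additive.ofMul ((GeomPts.equiv σ A).injective this)
  · let e := (GeomPts.equiv σ A).symm
    refine ⟨⟨fun n => Additive.ofMul (e ((y : ℕ → Additive (𝟙_ (Over S') ⟶ Red.bc σ A)) n).toMul),
      fun n => congrArg Additive.ofMul ((map_pow e _ _).symm.trans
        ((congrArg e (congrArg Additive.toMul (y.torsion n))).trans (map_one e))),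
      fun n => congrArg Additive.ofMul ((map_pow e _ _).symm.trans
        (congrArg e (congrArg Additive.toMul (y.compat n))))⟩, AbDual.TateMod.ext fun n => ?_⟩
    exact congrArg Additive.ofMul ((GeomPts.equiv σ A).apply_symm_apply _)

/-- The linear identification of Tate modules. -/
def equiv [Fact l.Prime] :
    AbDual.TateMod A l (Over.mk σ) ≃ₗ[ℤ_[l]] AbDual.TateMod (Red.bc σ A) l (𝟙_ (Over S')) :=
  LinearEquiv.ofBijective { toBc σ A l with
    map_smul' := fun _ _ => AbDual.TateMod.ext fun _ => congrArg Additive.ofMul (map_pow _ _ _) }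
    (bijective_toBc σ A l)

theorem equiv_tateRep [Fact l.Prime] (φ : EndAV.End A) (x : AbDual.TateMod A l (Over.mk σ)) :
    equiv σ A l (EndAV.End.tateRep l (Over.mk σ) φ x) =
      EndAV.End.tateRep l (𝟙_ (Over S')) (bcEnd σ A φ) (equiv σ A l x) :=
  AbDual.TateMod.ext fun _ => congrArg Additive.ofMul (GeomPts.equiv_comp σ A φ.toHom _).symm

/-- Conjugation of the representations. -/
theorem tateRep_eq [Fact l.Prime] (φ : EndAV.End A) :
    EndAV.End.tateRep l (𝟙_ (Over S')) (bcEnd σ A φ) = (equiv σ A l).conj (EndAV.End.tateRep l (Over.mk σ) φ) := by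
  refine LinearMap.ext fun y => ?_
  obtain ⟨x, rfl⟩ := (equiv σ A l).surjective y
  rw [LinearEquiv.conj_apply_apply, LinearEquiv.symm_apply_apply, equiv_tateRep]

end

end Groth.Agent.AVIdx.TateBc
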