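import Groth.Agent.HilbPoly.Poly
import Groth.Agent.VarBase.Decomp

/-!
Iterated differences of additive invariants which vanish on modules with finite support.
-/

set_option linter.style.haveILetI false
set_option backward.isDefEq.respectTransparency false
set_option backward.isDefEq.respectTransparency.types false

universe u

open CategoryTheory CategoryTheory.Limits AlgebraicGeometry TopologicalSpace Opposite

noncomputable section

namespace Groth.Agent.AVIdx

open Groth.Agent Groth.Agent.HilbPoly

variable {X : Scheme.{u}}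

/-- An additive invariant killing the reduced points kills modules with finite support. -/
theorem eq_zero_of_dimLT_one [IsNoetherian X] {φ : X.Modules → ℤ} (hφ : Additive φ)
    (hpt : ∀ ξ : X, IsClosed ({ξ} : Set X) → ∃ (Z : Scheme.{u}) (i : Z ⟶ X), IsClosedImmersion i ∧ IsIntegral Z ∧
      Set.range i = {ξ} ∧ φ ((Coh.push i).obj (Coh.structureModule Z)) = 0)
    {F : X.Modules} (hF : Coh.IsCoh F) (hd : DimLT F 1) : φ F = 0 := by
  classical
  have hsmall : ∀ M : X.Modules, Coh.IsCoh M → topologicalKrullDim ↥(CohB1.support M) < ((0 : ℕ) : WithBot ℕ∞) →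
      φ M = 0 := fun M hM h => hφ.zero_of_isZero
    (CurveCohLib.isZero_of_subsingleton_stalks fun x => not_not.1 fun hx =>
      Set.eq_empty_iff_forall_notMem.1 (support_eq_empty_of_dimLT_zero h) x hx)
  rw [VarBase.eq_compSum φ hφ.iso 0 hφ.add hsmall hF (le_of_lt_succ hd)]
  refine finsum_eq_zero_of_forall_eq_zero fun ξ => ?_
  split_ifs with hξ
  swap
  · rfl
  have hcl : closure ({ξ} : Set X) = {ξ} := by
    refine Set.eq_singleton_iff_unique_mem.2 ⟨subset_closure rfl, fun y hy => ?_⟩
    by_contra hne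
    have hsub : closure ({y} : Set X) ⊆ closure {ξ} :=
      isClosed_closure.closure_subset_iff.2 (Set.singleton_subset_iff.2 hy)
    have h := dim_lt_closure hξ.le isClosed_closure hsub fun hm =>
      hne ((specializes_iff_mem_closure.2 hy).antisymm (specializes_iff_mem_closure.2 hm)).eq.symm
    rw [Nat.cast_zero] at h
    exact absurd (VarBase.dim_nonneg_of_nonempty (T := closure ({y} : Set X)) ⟨y, subset_closure rfl⟩) (not_le_of_gt h)
  obtain ⟨Z, i, _, _, hr, hzero⟩ := hpt ξ (hcl ▸ isClosed_closure)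
  have hgen : i (genericPoint Z) = ξ := by
    simpa [hr] using (Set.mem_range_self (f := i) (genericPoint Z))
  have hsupp : CohB1.support ((Coh.push i).obj (Coh.structureModule Z)) ⊆ {ξ} :=
    hr ▸ QCoh.support_push_subset i QCoh.isQCoh_structureModule
  have key := VarBase.eq_compSum φ hφ.iso 0 hφ.add hsmall (QCoh.isCoh_push_structure i)
    ((H23.TopDim.dim_le_dim_of_subset (hsupp.trans hcl.ge)).trans hξ.le)
  rw [hzero, VarBase.compSum, finsum_eq_single _ ξ (fun ζ hζ => ?_), if_pos hξ] at key
  · have h1 := VarBase.lenAt_push_structure i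
    rw [hgen] at h1
    rw [h1, one_smul] at key
    rw [← key, smul_zero]
  · split_ifs
    · rw [VarBase.lenAt_eq_zero (fun h => hζ (hsupp h)), zero_smul]
    · rfl

/-- `r`-fold differences of an additive invariant killing finite supports kill dimension `≤ r`. -/
theorem iterD_eq_zero_succ [IsNoetherian X] : ∀ (r : ℕ) {φ : X.Modules → ℤ}, Additive φ →
    (∀ F : X.Modules, Coh.IsCoh F → DimLT F 1 → φ F = 0) →
    ∀ (l : List X.Modules), l.length = r → (∀ N ∈ l, PicF.IsInvertible N) →
      ∀ F : X.Modules, Coh.IsCoh F → DimLT F (r + 1) → iterD l φ F = 0 := by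
  intro r
  induction r with
  | zero =>
    intro φ hφ h0 l hl hinv F hF hd
    rw [List.length_eq_zero_iff.1 hl]
    exact h0 F hF hd
  | succ r ih =>
    intro φ hφ h0 l hl hinv F hF hd
    obtain ⟨N, l, rfl⟩ := List.exists_cons_of_length_eq_add_one hl
    have hinv' : ∀ M ∈ l, PicF.IsInvertible M := fun M hM => hinv M (List.mem_cons_of_mem _ hM)
    have hN := hinv N List.mem_cons_self
    have hG := additive_iterD hφ hinv'
    have hA := additive_iterD hφ hinv
    have hl' : l.length = r := by simpa using hl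
    refine QCoh.devissage (fun M => iterD (N :: l) φ M = 0)
      (fun M M' e h => (hA.iso M M' e).symm.trans h) (fun M hM => hA.zero_of_isZero hM)
      (CohB1.support F) (fun S hS h₁ h₂ h₃ _ e₁ e₃ => by rw [hA.add S hS h₁ h₂ h₃, e₁, e₃, add_zero])
      (fun ξ hξ _ Z i _ _ hr => ?_)
      (fun S hS h₁ h₂ h₃ _ e₂ e₃ => by
        have := hA.add S hS h₁ h₂ h₃
        rw [e₂, e₃, add_zero] at this
        exact this.symm) hF subset_rfl
    obtain ⟨C₁, C₂, hC₁, hC₂, hs₁, hx₁, hs₂, hx₂, hC⟩ := exists_step i hr hN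
    have hcl : topologicalKrullDim ↥(closure ({ξ} : Set X)) ≤ ((r + 1 : ℕ) : WithBot ℕ∞) :=
      le_of_lt_succ ((H23.TopDim.dim_le_dim_of_subset hξ).trans_lt hd)
    have h1 := ih hφ h0 l hl' hinv' C₁ hC₁ (dim_lt_closure hcl (QCoh.isClosed_support_of_isFT hC₁.1 hC₁.2) hs₁ hx₁)
    have h2 := ih hφ h0 l hl' hinv' C₂ hC₂ (dim_lt_closure hcl (QCoh.isClosed_support_of_isFT hC₂.1 hC₂.2) hs₂ hx₂)
    have h3 := hC _ hG
    rw [h1, h2, add_zero, add_zero] at h3
    exact sub_eq_zero.2 h3

end Groth.Agent.AVIdx
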