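import Groth.Agent.AVIdx.FixedSub
import Groth.Agent.AVIdx.DegenVanish
import Groth.Agent.HilbPoly.Pos
import Groth.Agent.Lib.AVProj
import Groth.Agent.AVSupp.Fixing
import Groth.Agent.S12131
import Groth.Agent.VarBase.Restrict
import Groth.Agent.QCoh.RpushStalk
import Groth.Agent.AssLib.Apply

/-!
The Euler characteristic of a degenerate line bundle vanishes.
-/

set_option linter.style.haveILetI false
set_option linter.unusedSectionVars false
set_option backward.isDefEq.respectTransparency false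
set_option backward.isDefEq.respectTransparency.types false

universe u

open CategoryTheory CategoryTheory.Limits MonoidalCategory CartesianMonoidalCategory MonObj GrpObj AlgebraicGeometry TopologicalSpace

namespace Groth.Agent.AVIdx

open Groth.Agent Groth.Agent.H23 Groth.Agent.AVCube Groth.Agent.AVAmple Groth.Agent.AVPair
open scoped Groth.Agent.H23.PicMul

noncomputable section

variable {k : Type u} [Field k]

instance isProper_tensor (A B : Over (Spec (CommRingCat.of k))) [IsProper A.hom] [IsProper B.hom] :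
    IsProper (A ⊗ B).hom :=
  inferInstanceAs (IsProper (pullback.fst A.hom B.hom ≫ A.hom))

/-- The dimension of an abelian variety is a natural number. -/
theorem exists_dim_av (A : Over (Spec (CommRingCat.of k))) [IsProper A.hom] [GeometricallyIntegral A.hom] :
    ∃ g : ℕ, topologicalKrullDim A.left = g := by
  haveI : IsIntegral A.left := GeometricallyIntegral.isIntegral_of_subsingleton A.hom
  obtain ⟨n, hn⟩ := exists_dim_le A.hom
  have h0 : (0 : WithBot ℕ∞) ≤ topologicalKrullDim A.left := by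
    haveI : Nonempty (IrreducibleCloseds A.left) :=
      ⟨⟨Set.univ, (irreducibleSpace_def _).1 inferInstance, isClosed_univ⟩⟩
    exact Order.krullDim_nonneg
  generalize topologicalKrullDim A.left = d at hn h0
  rcases d with _ | _ | m
  · exact absurd h0 (not_le_of_gt (WithBot.bot_lt_coe _))
  · exact absurd hn (not_le_of_gt (WithBot.coe_lt_coe.2 (ENat.natCast_lt_top n)))
  · exact ⟨m, rfl⟩

/-- An abelian variety of dimension zero is a point. -/
theorem finite_of_dim_zero (B : Over (Spec (CommRingCat.of k))) [IsProper B.hom] [GeometricallyIntegral B.hom]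
    (h : topologicalKrullDim B.left = (0 : ℕ)) : Finite ↥B.left := by
  haveI : IsIntegral B.left := GeometricallyIntegral.isIntegral_of_subsingleton B.hom
  suffices Subsingleton ↥B.left from inferInstance
  suffices ∀ x : B.left, x = genericPoint B.left from ⟨fun x y => (this x).trans (this y).symm⟩
  intro x
  by_contra hne
  have hle : topologicalKrullDim ↥(closure ({genericPoint B.left} : Set B.left)) ≤ ((0 : ℕ) : WithBot ℕ∞) :=
    (topologicalKrullDim_subspace_le _ _).trans h.le
  have := HilbPoly.dim_lt_closure hle (isClosed_closure (s := ({x} : Set B.left)))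
    (isClosed_closure.closure_subset_iff.2 (Set.singleton_subset_iff.2 (genericPoint_specializes x).mem_closure))
    (fun hm => hne ((specializes_iff_mem_closure.2 hm).antisymm (genericPoint_specializes x)).eq)
  rw [Nat.cast_zero] at this
  exact absurd (VarBase.dim_nonneg_of_nonempty (T := closure ({x} : Set B.left)) ⟨x, subset_closure rfl⟩) (not_le_of_gt this)

theorem chiCl_eq_zero_of_pullback {A B : Over (Spec (CommRingCat.of k))} [GrpObj A] [IsProper A.hom] [GeometricallyIntegral A.hom]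
    [GrpObj B] [IsProper B.hom] [GeometricallyIntegral B.hom] {h : ℕ} (hh : topologicalKrullDim B.left = h)
    (h1 : 1 ≤ h) {c : PicF.Cl A.left} (hc : PicF.IsInvertibleCl c) :
    @chiCl k _ (A ⊗ B).left ⟨(A ⊗ B).hom⟩ (pu (fst A B) c) = 0 := by
  haveI : GeometricallyIntegral (A ⊗ B).hom := MaxAbelian.geometricallyIntegral_tensor A B
  let f : B ⟶ B := 𝟙 B ^ 2
  obtain ⟨hfin, hflat, -⟩ := AVDegLib.zpow_props (A := B) ((2 : ℕ) : ℤ) (by norm_num)
  have hfr := AVDegLib.finrank_zpow (A := B) hh ((2 : ℕ) : ℤ) (by norm_num)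
  rw [zpow_natCast] at hfin hflat
  simp only [zpow_natCast, Int.natAbs_natCast] at hfr
  have hsq : IsPullback (A ◁ f) (snd A B) (snd A B) f := by
    refine ⟨⟨whiskerLeft_snd A f⟩, ⟨PullbackCone.IsLimit.mk _ (fun s => lift (s.fst ≫ fst A B) s.snd) ?_ ?_ ?_⟩⟩
    · intro s
      refine CartesianMonoidalCategory.hom_ext _ _ ?_ ?_
      · simp [PullbackCone.mk]
      · simpa [PullbackCone.mk] using s.condition.symm
    · intro s
      simp [PullbackCone.mk]
    · intro s m h1 h2
      refine CartesianMonoidalCategory.hom_ext _ _ ?_ ?_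
      · rw [lift_fst, ← h1]; simp [PullbackCone.mk]
      · rw [lift_snd, ← h2]
  have hsq' : IsPullback (A ◁ f).left (snd A B).left (snd A B).left f.left := hsq.map (Over.forget _)
  haveI : IsFinite (A ◁ f).left := MorphismProperty.of_isPullback hsq'.flip hfin
  haveI : Flat (A ◁ f).left := MorphismProperty.of_isPullback hsq'.flip hflat
  haveI : IsFinite f.left := hfin
  haveI : Flat f.left := hflat
  have hd : ∀ y, Scheme.Hom.finrank (A ◁ f).left y = 2 ^ (2 * h) := fun y => by
    rw [Scheme.Hom.finrank_of_isPullback _ _ _ _ hsq'.flip]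
    exact hfr _
  obtain ⟨L, hLc, hL⟩ := isInv_pl (fst A B) hc
  haveI : IsLocallyNoetherian (A ⊗ B).left := LocallyOfFiniteType.isLocallyNoetherian (A ⊗ B).hom
  have key := euler_pullback_av (A ⊗ B) (A ⊗ B) (A ◁ f) _ hd (F := L) (AmpleVan.isCoh_invertible hL)
  have e : @chiCl k _ (A ⊗ B).left ⟨(A ⊗ B).hom⟩ (pu (A ◁ f) (PicF.cl L)) =
      ((2 ^ (2 * h) : ℕ) : ℤ) * @chiCl k _ (A ⊗ B).left ⟨(A ⊗ B).hom⟩ (PicF.cl L) := key
  rw [hLc, pu_pu, whiskerLeft_fst] at e
  have h2 : (2 : ℤ) ≤ ((2 ^ (2 * h) : ℕ) : ℤ) := by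
    exact_mod_cast (Nat.le_self_pow (by omega) 2 : 2 ≤ 2 ^ (2 * h))
  nlinarith [e, h2]

/-- An isomorphism does not change Euler characteristics. -/
theorem chiCl_pu_iso {X Y : Over (Spec (CommRingCat.of k))} [GrpObj X] [IsProper X.hom] [GeometricallyIntegral X.hom]
    [GrpObj Y] [IsProper Y.hom] (σ : X ⟶ Y) [IsIso σ] {c : PicF.Cl Y.left} (hc : PicF.IsInvertibleCl c) :
    @chiCl k _ X.left ⟨X.hom⟩ (pu σ c) = @chiCl k _ Y.left ⟨Y.hom⟩ c := by
  obtain ⟨L, rfl, hL⟩ := hc
  haveI : IsIso σ.left := inferInstanceAs (IsIso ((Over.forget _).map σ))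
  haveI : IsLocallyNoetherian Y.left := LocallyOfFiniteType.isLocallyNoetherian Y.hom
  have h := euler_pullback_av X Y σ 1 (fun y => by rw [Scheme.Hom.finrank_eq_one_of_isIso]; rfl)
    (F := L) (AmpleVan.isCoh_invertible hL)
  rwa [Nat.cast_one, _root_.one_mul] at h

theorem exists_euler_ne_zero {B : Over (Spec (CommRingCat.of k))} [IsProper B.hom] [GeometricallyIntegral B.hom]
    {N : B.left.Modules} (hN : CohB1.IsAmple N) :
    ∃ m : ℕ, @chiCl k _ B.left ⟨B.hom⟩ (PicF.cl N ^ m) ≠ 0 := by
  letI : B.left.Over (Spec (CommRingCat.of k)) := ⟨B.hom⟩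
  haveI : IsProper (B.left ↘ Spec (CommRingCat.of k)) := ‹IsProper B.hom›
  haveI := CurveCohLib.isNoetherian_of_proper (k := k) (X := B.left)
  obtain ⟨h, hh⟩ := exists_dim_av B
  let O := Coh.structureModule B.left
  have hsupp : CohB1.support O = Set.univ := Set.eq_univ_of_forall fun x hsub => by
    obtain ⟨e⟩ := AssLib.nonempty_stalkUnitEquiv (X := B.left) x
    exact not_subsingleton (B.left.presheaf.stalk x) (@Equiv.subsingleton _ _ e.toEquiv hsub)
  have hdim : topologicalKrullDim ↥(CohB1.support O) = (h : WithBot ℕ∞) := by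
    rw [hsupp, ← hh]
    exact IsHomeomorph.topologicalKrullDim_eq _ (Homeomorph.Set.univ B.left).isHomeomorph
  have hpos := (HilbPoly.mult_nonneg_and_pos (k := k) hN h O QCoh.isCoh_structureModule' hdim.le).2 hdim
  by_contra hall
  push Not at hall
  have hcl : ∀ F : B.left.Modules, Curv2.euler k B.left F = chiCl k B.left (PicF.cl F) := fun F => rfl
  have hf : ∀ m, Curv2.euler k B.left (HilbPoly.pw N O m) = 0 := fun m => by
    rw [hcl, show PicF.cl (HilbPoly.pw N O m) = PicF.cl N ^ m from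
      (PicMul.cl_tensor _ _).trans (by rw [← PicMul.one_def, _root_.one_mul, PicMul.cl_tensorPow]), hall]
  have h0 := (HilbPoly.additive_lead (HilbPoly.additive_euler (X := B.left) k) hN.1 h).iso
    (HilbPoly.pw N O 0) O ⟨AmpleVan.twUnit.app O⟩
  unfold HilbPoly.mult at hpos
  rw [← h0, HilbPoly.lead, HilbPoly.iterD_replicate_pw (HilbPoly.additive_euler k) hN.1,
    show (fun m => Curv2.euler k B.left (HilbPoly.pw N O m)) = (0 : ℕ → ℤ) from funext hf] at hpos
  have : ∀ j, (fwdDiff (1 : ℕ))^[j] (0 : ℕ → ℤ) = 0 := fun j => by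
    induction j with
    | zero => rfl
    | succ j ih => rw [Function.iterate_succ_apply', ih]; funext m; simp [fwdDiff]
  rw [this] at hpos
  exact lt_irrefl _ hpos

/-- The twist of a class by a translation is additive. -/
theorem exists_add_translate [IsAlgClosed k] {A : Over (Spec (CommRingCat.of k))} [GrpObj A] [IsProper A.hom] [GeometricallyIntegral A.hom]
    {c : PicF.Cl A.left} (hc : PicF.IsInvertibleCl c) (x : 𝟙_ (Over (Spec (CommRingCat.of k))) ⟶ A) :
    ∃ d, PicF.IsInvertibleCl d ∧ IsAdd d ∧ pl (tr x) c = c * d := by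
  obtain ⟨e, he, hce⟩ := exists_inv hc
  refine ⟨pl (tr x) c * e, PicMul.isInvertibleCl_mul (isInv_pl _ hc) he, fun T f g => ?_,
    by rw [← _root_.mul_assoc, _root_.mul_comm c, _root_.mul_assoc, hce, _root_.mul_one]⟩
  obtain ⟨L, rfl, hL⟩ := hc
  let a : T ⟶ A := toUnit T ≫ x
  have h := congrArg Units.val (AVCube.cube_rel hL f g a)
  simp only [Units.val_mul, val_pc'] at h
  have ha : pu a (PicF.cl L) = 1 := pl_const ⟨L, rfl, hL⟩ x
  have hi : ∀ v : T ⟶ A, pu v (PicF.cl L) * pu v e = 1 := fun v => by rw [← map_mul, hce, map_one]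
  change pu (f * g * a) (PicF.cl L) * pu f (PicF.cl L) * pu g (PicF.cl L) * pu a (PicF.cl L) =
    pu (f * g) (PicF.cl L) * pu (f * a) (PicF.cl L) * pu (g * a) (PicF.cl L) at h
  rw [ha, _root_.mul_one] at h
  simp only [map_mul, pl_pl]
  rw [comp_tr, comp_tr, comp_tr]
  show pu (f * g * a) (PicF.cl L) * pu (f * g) e =
    pu (f * a) (PicF.cl L) * pu f e * (pu (g * a) (PicF.cl L) * pu g e)
  calc pu (f * g * a) (PicF.cl L) * pu (f * g) e
      = (pu (f * g * a) (PicF.cl L) * pu (f * g) e) *
        ((pu f (PicF.cl L) * pu f e) * (pu g (PicF.cl L) * pu g e)) := by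
        rw [hi, hi, _root_.one_mul, _root_.mul_one]
    _ = (pu (f * g * a) (PicF.cl L) * pu f (PicF.cl L) * pu g (PicF.cl L)) * (pu (f * g) e * pu f e * pu g e) := by
        ac_rfl
    _ = (pu (f * g) (PicF.cl L) * pu (f * a) (PicF.cl L) * pu (g * a) (PicF.cl L)) *
        (pu (f * g) e * pu f e * pu g e) := congrArg (· * _) h
    _ = (pu (f * a) (PicF.cl L) * pu f e * (pu (g * a) (PicF.cl L) * pu g e)) *
        (pu (f * g) (PicF.cl L) * pu (f * g) e) := by ac_rfl
    _ = _ := by rw [hi, _root_.mul_one]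

/-- The Euler characteristic of a class with infinite stabilizer vanishes. -/
theorem chiCl_eq_zero_of_infinite [IsAlgClosed k] {A : Over (Spec (CommRingCat.of k))} [GrpObj A] [IsProper A.hom]
    [GeometricallyIntegral A.hom] {c : PicF.Cl A.left} (hc : PicF.IsInvertibleCl c)
    (hinf : Set.Infinite {a : 𝟙_ (Over (Spec (CommRingCat.of k))) ⟶ A | pl (tr a) c = c}) :
    @chiCl k _ A.left ⟨A.hom⟩ c = 0 := by
  classical
  obtain ⟨B, _, incl, _, _, _, _, hBinf, hfix⟩ := exists_fixed_subvariety hc hinf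
  haveI : IsCommMonObj A := isCommMonObj_of_isProper_of_geometricallyIntegral A
  haveI : IsCommMonObj B := isCommMonObj_of_isProper_of_geometricallyIntegral B
  obtain ⟨g, hg⟩ := exists_dim_av A
  obtain ⟨h, hh⟩ := exists_dim_av B
  have h1 : 1 ≤ h := Nat.one_le_iff_ne_zero.2 fun h0 => by
    subst h0
    exact (finite_of_dim_zero B hh).false
  haveI : GeometricallyIntegral (A ⊗ B).hom := MaxAbelian.geometricallyIntegral_tensor A B
  obtain ⟨g', hg'⟩ := exists_dim_av (A ⊗ B)
  letI : A.left.Over (Spec (CommRingCat.of k)) := ⟨A.hom⟩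
  letI : B.left.Over (Spec (CommRingCat.of k)) := ⟨B.hom⟩
  letI : (A ⊗ B).left.Over (Spec (CommRingCat.of k)) := ⟨(A ⊗ B).hom⟩
  haveI : IsProper (A.left ↘ Spec (CommRingCat.of k)) := ‹IsProper A.hom›
  haveI : IsProper (B.left ↘ Spec (CommRingCat.of k)) := inferInstanceAs (IsProper B.hom)
  haveI : IsProper ((A ⊗ B).left ↘ Spec (CommRingCat.of k)) := inferInstanceAs (IsProper (A ⊗ B).hom)
  haveI := CurveCohLib.isNoetherian_of_proper (k := k) (X := A.left)
  haveI := CurveCohLib.isNoetherian_of_proper (k := k) (X := B.left)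
  haveI := CurveCohLib.isNoetherian_of_proper (k := k) (X := (A ⊗ B).left)
  let act : A ⊗ B ⟶ A := fst A B * (snd A B ≫ incl)
  let σ : A ⊗ B ⟶ A ⊗ B := lift act (snd A B)
  haveI : IsIso σ := ⟨lift (fst A B * (snd A B ≫ incl)⁻¹) (snd A B), by
    refine CartesianMonoidalCategory.hom_ext _ _ ?_ ?_ <;>
      simp [σ, act, MonObj.comp_mul, GrpObj.comp_inv], by
    refine CartesianMonoidalCategory.hom_ext _ _ ?_ ?_ <;>
      simp [σ, act, MonObj.comp_mul, GrpObj.comp_inv]⟩
  have hσ : σ ≫ fst A B = act := lift_fst _ _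
  have hP : IsAdd (pu incl c) := fun T f f' => by
    have e := congrArg (pl (lift (f ≫ incl) f')) (pl_mul_eq incl hc hfix)
    simp only [map_mul, pl_pl, MonObj.comp_mul, lift_fst, lift_snd_assoc] at e
    rw [pu_pu, pu_pu, pu_pu, MonObj.mul_comp]
    exact e
  have hQ : IsAdd (pu (snd A B) (pu incl c)) := fun T f f' => by
    have := hP T (f ≫ snd A B) (f' ≫ snd A B)
    simp only [pu_pu, MonObj.mul_comp, Category.assoc] at this ⊢
    exact this
  have hQi : PicF.IsInvertibleCl (pu (snd A B) (pu incl c)) := isInv_pl _ (isInv_pl _ hc)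
  have hpow : ∀ {T : Scheme.{u}} {x : PicF.Cl T}, PicF.IsInvertibleCl x → ∀ n : ℕ, PicF.IsInvertibleCl (x ^ n) := by
    rintro T _ ⟨M, rfl, hM⟩ n
    exact ⟨_, PicMul.cl_tensorPow M n, PicMul.isInvertible_tensorPow hM n⟩
  have hact : ∀ {x : PicF.Cl A.left}, PicF.IsInvertibleCl x → chiCl k (A ⊗ B).left (pu act x) = 0 := fun {x} hx => by
    rw [← hσ, ← pu_pu]
    exact (chiCl_pu_iso σ (isInv_pl (fst A B) hx)).trans (chiCl_eq_zero_of_pullback hh h1 hx)
  obtain ⟨N, hN⟩ := AVProj.exists_isAmple (X := A)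
  haveI : IsClosedImmersion incl.left := inferInstance
  obtain ⟨m, hm⟩ := exists_euler_ne_zero (k := k) (B := B) (AVSupp.isAmple_pullback A.hom incl.left hN)
  let H := CohB1.tensorPow N m
  have hH : PicF.IsInvertible H := PicMul.isInvertible_tensorPow hN.1 m
  let c0 : ℤ := chiCl k B.left (pu incl (PicF.cl H))
  have hc0 : c0 ≠ 0 := by
    refine fun h0 => hm (Eq.trans ?_ h0)
    show chiCl k B.left (pu incl (PicF.cl N) ^ m) = _
    rw [← map_pow, ← PicMul.cl_tensorPow]
  have hprod : ∀ a : ℕ, chiCl k (A ⊗ B).left (pu (fst A B) (c ^ a) * pu act (PicF.cl H)) = 0 := fun a => by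
    have hi := PicMul.isInvertibleCl_mul (isInv_pl (fst A B) (hpow hc a)) (isInv_pl act ⟨H, rfl, hH⟩)
    have e := chiCl_pow_mul hg' hi (hpow hQi a) (hQ.pow a) 1
    rw [pow_one, Nat.cast_one, one_pow, _root_.one_mul] at e
    rw [← e, show pu (fst A B) (c ^ a) * pu act (PicF.cl H) * pu (snd A B) (pu incl c) ^ a =
      pu act (c ^ a * PicF.cl H) from ?_]
    · exact hact (PicMul.isInvertibleCl_mul (hpow hc a) ⟨H, rfl, hH⟩)
    · rw [map_mul, map_pow, map_pow, pu_pu, show pu act c = pu (fst A B) c * pu (snd A B ≫ incl) c from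
        pl_mul_eq incl hc hfix, mul_pow]
      ac_rfl
  let p := (fst A B).left
  haveI : Flat p := inferInstanceAs (Flat (pullback.fst A.hom B.hom))
  let MH := (Scheme.Modules.pullback act.left).obj H
  have hMH : PicF.IsInvertible MH := PicClLib.isInvertible_pullback act.left hH
  let x₀ : 𝟙_ (Over (Spec (CommRingCat.of k))) ⟶ A := η[A]
  let e₀ : ℤ := Curv2.euler k A.left ((Coh.push x₀.left).obj (Coh.structureModule (Spec (CommRingCat.of k))))
  let θ : A.left.Modules → ℤ := fun F =>
    Curv2.euler k (A ⊗ B).left ((AmpleVan.tw MH).obj ((Scheme.Modules.pullback p).obj F))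
  have hθ : HilbPoly.Additive θ := by
    haveI := KFlatLib.preservesHomology_pullback p
    haveI : PreservesFiniteLimits (Scheme.Modules.pullback p) :=
      (Scheme.Modules.pullback p).preservesFiniteLimits_of_preservesHomology
    have hcoh : ∀ {F : A.left.Modules}, Coh.IsCoh F → Coh.IsCoh ((Scheme.Modules.pullback p).obj F) :=
      fun hF => ⟨QCoh.isQCoh_pullback p hF.1, QCoh.isFT_pullback p hF.1 hF.2⟩
    have hsh := (HilbPoly.additive_euler (X := (A ⊗ B).left) k).shift hMH
    exact ⟨fun M M' ⟨e⟩ => hsh.iso _ _ ⟨(Scheme.Modules.pullback p).mapIso e⟩, fun S hS h₁ h₂ h₃ =>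
      hsh.add (S.map (Scheme.Modules.pullback p)) (hS.map_of_exact _) (hcoh h₁) (hcoh h₂) (hcoh h₃)⟩
  have hsky : ∀ x : 𝟙_ (Over (Spec (CommRingCat.of k))) ⟶ A,
      θ ((Coh.push x.left).obj (Coh.structureModule (Spec (CommRingCat.of k)))) = c0 ∧
      Curv2.euler k A.left ((Coh.push x.left).obj (Coh.structureModule (Spec (CommRingCat.of k)))) = e₀ := by
    intro x
    letI : (Spec (CommRingCat.of k)).Over (Spec (CommRingCat.of k)) := ⟨𝟙 _⟩
    haveI : ∀ y : 𝟙_ (Over (Spec (CommRingCat.of k))) ⟶ A, IsClosedImmersion y.left := fun y => by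
      haveI : IsClosedImmersion (y.left ≫ A.hom) := by rw [Over.w y]; exact inferInstanceAs (IsClosedImmersion (𝟙 _))
      exact IsClosedImmersion.of_comp y.left A.hom
    refine ⟨?_, ((VarBase.euler_push x.left k (Over.w x) QCoh.isQCoh_structureModule)).trans
      (VarBase.euler_push x₀.left k (Over.w x₀) QCoh.isQCoh_structureModule).symm⟩
    let s : B ⟶ A ⊗ B := lift (toUnit B ≫ x) (𝟙 B)
    have hsq : IsPullback (toUnit B) s x (fst A B) := by
      refine ⟨⟨(lift_fst _ _).symm⟩, ⟨PullbackCone.IsLimit.mk _ (fun t => t.snd ≫ snd A B) ?_ ?_ ?_⟩⟩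
      · intro t; exact toUnit_unique _ _
      · intro t
        refine CartesianMonoidalCategory.hom_ext _ _ ?_ ?_
        · rw [Category.assoc, show s ≫ fst A B = toUnit B ≫ x from lift_fst _ _,
            ← Category.assoc, toUnit_unique (_ ≫ toUnit B) t.fst]
          exact t.condition
        · simp [s]
      · intro t m' h₁ h₂
        rw [← h₂]
        simp [s]
    have hsq' : IsPullback (toUnit B).left s.left x.left p := hsq.map (Over.forget _)
    haveI : IsClosedImmersion s.left := MorphismProperty.of_isPullback hsq' inferInstance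
    let O := Coh.structureModule (Spec (CommRingCat.of k))
    haveI : Coh.IsQCoh O := QCoh.isQCoh_structureModule
    haveI := S12131.result x.left p (toUnit B).left s.left hsq' O
    have e₁ : (Scheme.Modules.pullback p).obj ((Coh.push x.left).obj O) ≅
        (Coh.push s.left).obj ((Scheme.Modules.pullback (toUnit B).left).obj O) :=
      asIso (((Scheme.Modules.pullbackPushforwardAdjunction p).homEquiv _ _).symm
        ((Scheme.Modules.pushforward x.left).map
            ((Scheme.Modules.pullbackPushforwardAdjunction (toUnit B).left).unit.app O) ≫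
          (Scheme.Modules.pushforwardComp (toUnit B).left x.left).hom.app _ ≫
          (Scheme.Modules.pushforwardCongr hsq'.w).hom.app _ ≫
          (Scheme.Modules.pushforwardComp s.left p).inv.app _))
    obtain ⟨e₂⟩ := VarBase.nonempty_proj s.left ((Scheme.Modules.pullback (toUnit B).left).obj O) MH
    show Curv2.euler k _ _ = _
    rw [CurveCohLib.euler_congr (k := k) ((AmpleVan.tw MH).mapIso e₁ ≪≫ e₂)]
    have hOi : PicF.IsInvertible ((Scheme.Modules.pullback (toUnit B).left).obj O) :=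
      PicClLib.isInvertible_pullback _ (PicLoc.isInvertible_structureModule _)
    rw [VarBase.euler_push s.left k (Over.w s) (AmpleVan.isCoh_tensor (AmpleVan.isCoh_invertible hOi)
      (AmpleVan.isCoh_invertible (PicClLib.isInvertible_pullback s.left hMH))).1, ← chiCl_cl k B.left,
      PicMul.cl_tensor]
    show chiCl k B.left (PicMul.pullHom (toUnit B).left 1 * pu s (pu act (PicF.cl H))) = c0
    rw [map_one, _root_.one_mul, pu_pu, show s ≫ act = incl ≫ tr x from ?_]
    · obtain ⟨d, hd, hdadd, he⟩ := exists_add_translate ⟨H, rfl, hH⟩ x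
      have hdB : IsAdd (pu incl d) := fun T f f' => by
        rw [pu_pu, pu_pu, pu_pu, MonObj.mul_comp]
        exact hdadd T _ _
      have e := chiCl_pow_mul hh (isInv_pl incl (⟨H, rfl, hH⟩ : PicF.IsInvertibleCl (PicF.cl H)))
        (isInv_pl incl hd) hdB 1
      rw [pow_one, Nat.cast_one, one_pow, _root_.one_mul] at e
      rw [show pu (incl ≫ tr x) (PicF.cl H) = pu incl (pl (tr x) (PicF.cl H)) from (pu_pu _ _ _).symm, he, map_mul]
      exact e
    · simp only [act, s, MonObj.comp_mul, lift_fst, lift_snd_assoc, Category.id_comp, comp_tr]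
      rw [Category.comp_id, ← Category.assoc incl (toUnit A) x, toUnit_unique (incl ≫ toUnit A) (toUnit B)]
      exact _root_.mul_comm _ _
  let ψ : A.left.Modules → ℤ := fun F => e₀ * θ F - c0 * Curv2.euler k A.left F
  have hψ : HilbPoly.Additive ψ := by
    have he := HilbPoly.additive_euler (X := A.left) k
    exact ⟨fun M M' e => by simp only [ψ, hθ.iso M M' e, he.iso M M' e], fun S hS h₁ h₂ h₃ => by
      simp only [ψ, hθ.add S hS h₁ h₂ h₃, he.add S hS h₁ h₂ h₃]; ring⟩
  have hψ0 : ∀ F : A.left.Modules, Coh.IsCoh F → HilbPoly.DimLT F 1 → ψ F = 0 := fun F hF hd =>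
    eq_zero_of_dimLT_one hψ (fun ξ hξ => by
      obtain ⟨x, hx⟩ := exists_pt hξ
      refine ⟨Spec (CommRingCat.of k), x.left, ?_, inferInstance, ?_, ?_⟩
      · haveI : IsClosedImmersion (x.left ≫ A.hom) := by rw [Over.w x]; exact inferInstanceAs (IsClosedImmersion (𝟙 _))
        exact IsClosedImmersion.of_comp x.left A.hom
      · refine Set.eq_singleton_iff_unique_mem.2 ⟨hx ▸ ⟨_, rfl⟩, ?_⟩
        rintro _ ⟨z, rfl⟩
        rw [← hx]
        exact congrArg x.left (@Subsingleton.elim (Spec (CommRingCat.of k)) inferInstance _ _)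
      · show e₀ * θ _ - c0 * _ = 0
        rw [(hsky x).1, (hsky x).2]
        ring) hF hd
  obtain ⟨L, rfl, hL⟩ := hc
  let O := Coh.structureModule A.left
  have hpwcl : ∀ a : ℕ, PicF.cl (HilbPoly.pw L O a) = PicF.cl L ^ a := fun a =>
    (PicMul.cl_tensor _ _).trans (by rw [← PicMul.one_def, _root_.one_mul, PicMul.cl_tensorPow])
  have hψL : (fun a => ψ (HilbPoly.pw L O a)) = fun a : ℕ => (-c0 * chiCl k A.left (PicF.cl L)) * (a : ℤ) ^ g := by
    funext a
    have ht : θ (HilbPoly.pw L O a) = 0 := by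
      show chiCl k (A ⊗ B).left (PicF.cl _) = 0
      rw [show PicF.cl ((AmpleVan.tw MH).obj ((Scheme.Modules.pullback p).obj (HilbPoly.pw L O a))) =
        pu (fst A B) (PicF.cl L ^ a) * pu act (PicF.cl H) from (PicMul.cl_tensor _ _).trans (by rw [← hpwcl]; rfl)]
      exact hprod a
    have hA := chiCl_pow_mul hg (⟨L, rfl, hL⟩ : PicF.IsInvertibleCl (PicF.cl L)) isInv_one isAdd_one a
    rw [_root_.mul_one, ← hpwcl] at hA
    show e₀ * θ _ - c0 * chiCl k A.left (PicF.cl _) = _
    rw [ht, hA]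
    ring
  have hd : HilbPoly.DimLT (HilbPoly.pw L O 0) (g + 1) :=
    HilbPoly.lt_succ_of_le ((topologicalKrullDim_subspace_le _ _).trans hg.le)
  have hzero := iterD_eq_zero_succ g hψ hψ0 (List.replicate g L) List.length_replicate
    (fun N hN => (List.eq_of_mem_replicate hN) ▸ hL) (HilbPoly.pw L O 0)
    (HilbPoly.isCoh_pw hL QCoh.isCoh_structureModule' 0) hd
  rw [HilbPoly.iterD_replicate_pw hψ hL, hψL] at hzero
  have hfd : (fwdDiff (1 : ℕ))^[g] (fun a : ℕ => (-c0 * chiCl k A.left (PicF.cl L)) * (a : ℤ) ^ g) 0 =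
      (-c0 * chiCl k A.left (PicF.cl L)) * (g.factorial : ℤ) := by
    have hcomm : ∀ (f : ℤ → ℤ) (j : ℕ) (a : ℕ),
        (fwdDiff (1 : ℕ))^[j] (fun a : ℕ => f a) a = (fwdDiff (1 : ℤ))^[j] f a := by
      intro f j
      induction j with
      | zero => intro a; rfl
      | succ j ih =>
        intro a
        simp only [Function.iterate_succ_apply', fwdDiff, ih]
        push_cast
        rfl
    rw [hcomm (fun r : ℤ => (-c0 * chiCl k A.left (PicF.cl L)) * r ^ g)]
    rw [show (fun r : ℤ => (-c0 * chiCl k A.left (PicF.cl L)) * r ^ g) =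
      (-c0 * chiCl k A.left (PicF.cl L)) • (fun r : ℤ => r ^ g) from rfl, fwdDiff_iter_const_smul,
      fwdDiff_iter_eq_factorial]
    simp [Pi.smul_apply]
  rw [hfd] at hzero
  simpa [hc0, Nat.factorial_ne_zero] using hzero

end

end Groth.Agent.AVIdx
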