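import Groth.Prelude.Def_Red
import Groth.Prelude.Def_AbDual
import Mathlib.AlgebraicGeometry.Morphisms.Flat
import Mathlib.AlgebraicGeometry.Sites.Fpqc
import Mathlib.AlgebraicGeometry.Geometrically.Integral

/-!
Geometric points of a group scheme as rational points of its base change.
-/

set_option linter.style.haveILetI false
set_option backward.isDefEq.respectTransparency false
set_option backward.isDefEq.respectTransparency.types false

universe u

open CategoryTheory CategoryTheory.Limits MonoidalCategory CartesianMonoidalCategory MonObj GrpObj AlgebraicGeometry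

namespace Groth.Agent.AVIdx.GeomPts

variable {S S' : Scheme.{u}} (σ : S' ⟶ S)

/-- The tautological point of the base change of `σ`. -/
noncomputable def diag : 𝟙_ (Over S') ⟶ Red.bc σ (Over.mk σ) :=
  Over.homMk (pullback.lift (𝟙 S') (𝟙 S') rfl) (pullback.lift_snd _ _ _)

variable (A : Over S) [GrpObj A]

/-- A point with values in `S'` as a rational point of the base change. -/
noncomputable def toBc : (Over.mk σ ⟶ A) →* (𝟙_ (Over S') ⟶ Red.bc σ A) where
  toFun a := diag σ ≫ (Over.pullback σ).map a
  map_one' := by
    rw [Functor.map_one]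
    exact MonObj.comp_one _
  map_mul' a b := by
    rw [Functor.map_mul]
    exact MonObj.comp_mul _ _ _

theorem toBc_left (a : Over.mk σ ⟶ A) : (toBc σ A a).left ≫ pullback.fst A.hom σ = a.left := by
  show (pullback.lift (𝟙 S') (𝟙 S') rfl ≫ ((Over.pullback σ).map a).left) ≫ pullback.fst A.hom σ = a.left
  have h : ((Over.pullback σ).map a).left ≫ pullback.fst A.hom σ = pullback.fst (Over.mk σ).hom σ ≫ a.left :=
    pullback.lift_fst _ _ _
  rw [Category.assoc, h, ← Category.assoc]
  exact (congrArg (· ≫ a.left) (pullback.lift_fst _ _ _)).trans (Category.id_comp _)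

/-- Points with values in `S'` are the rational points of the base change. -/
noncomputable def equiv : (Over.mk σ ⟶ A) ≃* (𝟙_ (Over S') ⟶ Red.bc σ A) :=
  MulEquiv.ofBijective (toBc σ A) ⟨fun a b h => by
      apply Over.OverMorphism.ext
      rw [← toBc_left σ A a, h, toBc_left σ A b], fun b => by
      refine ⟨Over.homMk (b.left ≫ pullback.fst A.hom σ) ?_, ?_⟩
      · show (b.left ≫ pullback.fst A.hom σ) ≫ A.hom = σ
        rw [Category.assoc, pullback.condition, ← Category.assoc]
        exact (congrArg (· ≫ σ) (Over.w b)).trans (Category.id_comp σ)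
      · refine Over.OverMorphism.ext ?_
        apply pullback.hom_ext
        · exact toBc_left σ A _
        · exact (Over.w _).trans (Over.w b).symm⟩

theorem equiv_apply (a : Over.mk σ ⟶ A) : equiv σ A a = diag σ ≫ (Over.pullback σ).map a := rfl

theorem equiv_comp {B : Over S} [GrpObj B] (φ : A ⟶ B) (a : Over.mk σ ⟶ A) :
    equiv σ A a ≫ (Over.pullback σ).map φ = equiv σ B (a ≫ φ) := by
  rw [equiv_apply, equiv_apply, Functor.map_comp, Category.assoc]

/-- Base change along a faithfully flat quasi-compact map is faithful. -/
theorem map_injective [Flat σ] [Surjective σ] [QuasiCompact σ] {X Y : Over S} {f g : X ⟶ Y}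
    (h : (Over.pullback σ).map f = (Over.pullback σ).map g) : f = g := by
  haveI : Flat (pullback.fst X.hom σ) := inferInstance
  haveI : Surjective (pullback.fst X.hom σ) := inferInstance
  haveI : QuasiCompact (pullback.fst X.hom σ) := inferInstance
  haveI : Epi (pullback.fst X.hom σ) := inferInstance
  apply Over.OverMorphism.ext
  rw [← cancel_epi (pullback.fst X.hom σ)]
  have h' := congrArg (fun t => t.left ≫ pullback.fst Y.hom σ) h
  rwa [show ((Over.pullback σ).map f).left ≫ pullback.fst Y.hom σ = pullback.fst X.hom σ ≫ f.left from pullback.lift_fst _ _ _,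
    show ((Over.pullback σ).map g).left ≫ pullback.fst Y.hom σ = pullback.fst X.hom σ ≫ g.left from pullback.lift_fst _ _ _] at h'

end Groth.Agent.AVIdx.GeomPts
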