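import Groth.Agent.AVIdx.TateInj
import Groth.Agent.AVIdx.GeomPts

/-!
Homomorphisms killing the geometric torsion of prime power order are trivial.
-/

set_option linter.style.haveILetI false
set_option backward.isDefEq.respectTransparency false
set_option backward.isDefEq.respectTransparency.types false

universe u

open CategoryTheory CategoryTheory.Limits MonoidalCategory CartesianMonoidalCategory MonObj GrpObj AlgebraicGeometry

namespace Groth.Agent.AVIdx

open Groth.Agent

variable {k : Type u} [Field k] (K : Type u) [Field K] [Algebra k K] [IsAlgClosed K]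

/-- The structure map of the point. -/
noncomputable abbrev fieldMap : Spec (CommRingCat.of K) ⟶ Spec (CommRingCat.of k) :=
  Spec.map (CommRingCat.ofHom (algebraMap k K))

theorem flat_fieldMap : Flat (fieldMap (k := k) K) ∧ Surjective (fieldMap (k := k) K) := by
  refine ⟨?_, ⟨fun x => ⟨IsLocalRing.closedPoint K, @Subsingleton.elim (Spec (CommRingCat.of k)) inferInstance _ _⟩⟩⟩
  rw [fieldMap, HasRingHomProperty.Spec_iff (P := @Flat)]
  exact RingHom.flat_algebraMap_iff.2 inferInstance

/-- Homomorphisms which kill the geometric torsion of prime power order are trivial. -/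
theorem eq_one_of_kills_geom_torsion {A B : Over (Spec (CommRingCat.of k))}
    [GrpObj A] [IsProper A.hom] [GeometricallyIntegral A.hom]
    [GrpObj B] [IsSeparated B.hom] [LocallyOfFiniteType B.hom] (l : ℕ) [Fact l.Prime] (hl : (l : k) ≠ 0)
    (φ : A ⟶ B) [IsMonHom φ]
    (h : ∀ (n : ℕ) (a : Over.mk (fieldMap (k := k) K) ⟶ A), a ^ (l ^ n) = 1 → a ≫ φ = 1) : φ = 1 := by
  let σ := fieldMap (k := k) K
  obtain ⟨_, _⟩ := flat_fieldMap (k := k) K
  let A' := Red.bc σ A
  haveI : IsProper A'.hom := inferInstanceAs (IsProper (pullback.snd A.hom σ))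
  haveI : GeometricallyIntegral A'.hom := inferInstanceAs (GeometricallyIntegral (pullback.snd A.hom σ))
  haveI : IsCommMonObj A' := isCommMonObj_of_isProper_of_geometricallyIntegral A'
  haveI : IsSeparated (Red.bc σ B).hom := inferInstanceAs (IsSeparated (pullback.snd B.hom σ))
  haveI : LocallyOfFiniteType (Red.bc σ B).hom := inferInstanceAs (LocallyOfFiniteType (pullback.snd B.hom σ))
  have hlK : (l : K) ≠ 0 := by
    intro h0
    refine hl ((algebraMap k K).injective ?_)
    rw [map_natCast, map_zero, h0]
  refine GeomPts.map_injective σ ((eq_one_of_kills_torsion (A := A') (B := Red.bc σ B) l hlK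
    ((Over.pullback σ).map φ) fun n a ha => ?_).trans (Functor.map_one (F := Over.pullback σ)).symm)
  obtain ⟨b, rfl⟩ := (GeomPts.equiv σ A).surjective a
  rw [GeomPts.equiv_comp, h n b ((GeomPts.equiv σ A).injective (by rw [map_pow, ha, map_one])), map_one]

/-- Every torsion point of prime power order is a component of an element of the Tate module. -/
theorem exists_component_geom {A : Over (Spec (CommRingCat.of k))} [GrpObj A] [IsCommMonObj A]
    [IsProper A.hom] [GeometricallyIntegral A.hom] (l : ℕ) (hl : 1 ≤ l) (n : ℕ)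
    (a : Over.mk (fieldMap (k := k) K) ⟶ A) (ha : a ^ (l ^ n) = 1) :
    ∃ x : AbDual.TateMod A l (Over.mk (fieldMap (k := k) K)),
      (x : ℕ → Additive (Over.mk (fieldMap (k := k) K) ⟶ A)) n = Additive.ofMul a := by
  let σ := fieldMap (k := k) K
  let A' := Red.bc σ A
  haveI : IsProper A'.hom := inferInstanceAs (IsProper (pullback.snd A.hom σ))
  haveI : GeometricallyIntegral A'.hom := inferInstanceAs (GeometricallyIntegral (pullback.snd A.hom σ))
  haveI : IsCommMonObj A' := isCommMonObj_of_isProper_of_geometricallyIntegral A'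
  let e := (GeomPts.equiv σ A).symm
  obtain ⟨x, hx⟩ := AVFac.exists_component_eq (A := A') hl n (GeomPts.equiv σ A a) (by rw [← map_pow, ha, map_one])
  refine ⟨⟨fun m => Additive.ofMul (e (((x : ℕ → Additive (_ ⟶ A')) m).toMul)), ⟨fun m => ?_, fun m => ?_⟩⟩, ?_⟩
  · refine congrArg Additive.ofMul ((map_pow e _ _).symm.trans ?_)
    exact (congrArg e (congrArg Additive.toMul (x.torsion m))).trans (map_one e)
  · refine congrArg Additive.ofMul ((map_pow e _ _).symm.trans ?_)
    exact congrArg e (congrArg Additive.toMul (x.compat m))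
  · show Additive.ofMul (e (((x : ℕ → Additive (_ ⟶ A')) n).toMul)) = _
    rw [hx]
    exact congrArg Additive.ofMul ((GeomPts.equiv σ A).symm_apply_apply a)

end Groth.Agent.AVIdx
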