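import Groth.Agent.AVIdx.TateBc
import Groth.Agent.AVIdx.TateInjBc
import Groth.Agent.AVIdx.DegenEuler
import Groth.Agent.AVFac.TateFree
import Groth.Prelude.Def_SGA7a
import Mathlib.AlgebraicGeometry.Morphisms.FlatRank

/-!
The rank of the Tate module of geometric points.
-/

set_option linter.style.haveILetI false
set_option linter.unusedSectionVars false
set_option backward.isDefEq.respectTransparency false
set_option backward.isDefEq.respectTransparency.types false

universe u

open CategoryTheory CategoryTheory.Limits MonoidalCategory CartesianMonoidalCategory MonObj GrpObj AlgebraicGeometry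

namespace Groth.Agent.AVIdx

open Groth.Agent

/-- Base change of a morphism over `S` is a pullback. -/
theorem isPullback_map_left' {S S' : Scheme.{u}} (σ : S' ⟶ S) {A B : Over S} (f : A ⟶ B) :
    IsPullback (pullback.fst A.hom σ) ((Over.pullback σ).map f).left f.left (pullback.fst B.hom σ) := by
  refine IsPullback.of_bot (v₂₁ := pullback.snd B.hom σ) (v₂₂ := B.hom) (h₃₁ := σ) ?_ (pullback.lift_fst _ _ _).symm
    (IsPullback.of_hasPullback B.hom σ)
  have h1 : ((Over.pullback σ).map f).left ≫ pullback.snd B.hom σ = pullback.snd A.hom σ := pullback.lift_snd _ _ _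
  rw [h1, Over.w f]
  exact IsPullback.of_hasPullback A.hom σ

variable {k : Type u} [Field k] (Ω : Type u) [Field Ω] [Algebra k Ω] [IsAlgClosed Ω]
  (A : Over (Spec (CommRingCat.of k))) [GrpObj A] [IsProper A.hom] [GeometricallyIntegral A.hom]

/-- Base change to the geometric point preserves the dimension. -/
theorem dim_bc {g : ℕ} (hg : topologicalKrullDim A.left = g) :
    topologicalKrullDim (Red.bc (fieldMap (k := k) Ω) A).left = g := by
  let σ := fieldMap (k := k) Ω
  let A' := Red.bc σ A
  haveI : IsProper A'.hom := inferInstanceAs (IsProper (pullback.snd A.hom σ))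
  haveI : GeometricallyIntegral A'.hom := inferInstanceAs (GeometricallyIntegral (pullback.snd A.hom σ))
  haveI : IsCommMonObj A := isCommMonObj_of_isProper_of_geometricallyIntegral A
  haveI : IsCommMonObj A' := isCommMonObj_of_isProper_of_geometricallyIntegral A'
  obtain ⟨g', hg'⟩ := exists_dim_av A'
  obtain ⟨hfin, hflat, -⟩ := AVDegLib.zpow_props (A := A) ((2 : ℕ) : ℤ) (by norm_num)
  have h1 := AVDegLib.finrank_zpow (A := A) hg ((2 : ℕ) : ℤ) (by norm_num)
  have h2 := AVDegLib.finrank_zpow (A := A') hg' ((2 : ℕ) : ℤ) (by norm_num)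
  rw [zpow_natCast] at hfin hflat
  simp only [zpow_natCast, Int.natAbs_natCast] at h1 h2
  have hsq := isPullback_map_left' σ (𝟙 A ^ 2)
  have e : (Over.pullback σ).map (𝟙 A ^ 2) = (𝟙 A' : A' ⟶ A') ^ 2 := by
    rw [pow_two, pow_two, Functor.map_mul, CategoryTheory.Functor.map_id]
  rw [e] at hsq
  haveI : IsFinite (𝟙 A ^ 2 : A ⟶ A).left := hfin
  haveI : Flat (𝟙 A ^ 2 : A ⟶ A).left := hflat
  haveI : IsIntegral A'.left := GeometricallyIntegral.isIntegral_of_subsingleton A'.hom
  obtain ⟨y⟩ : Nonempty A'.left := inferInstance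
  have h3 := h2 y
  rw [Scheme.Hom.finrank_of_isPullback _ _ _ _ hsq, h1] at h3
  have hgg := Nat.pow_right_injective (le_refl 2) h3
  obtain rfl : g = g' := by omega
  exact hg'

/-- The Tate module of geometric points is free of rank twice the dimension. -/
theorem nonempty_tateBasis [IsCommMonObj A] {g : ℕ} (hg : topologicalKrullDim A.left = g) (l : ℕ) [Fact l.Prime]
    (hl : (l : k) ≠ 0) :
    Nonempty (Module.Basis (Fin (2 * g)) ℤ_[l] (AbDual.TateMod A l (Over.mk (fieldMap (k := k) Ω)))) := by
  let σ := fieldMap (k := k) Ω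
  let A' := Red.bc σ A
  haveI : IsProper A'.hom := inferInstanceAs (IsProper (pullback.snd A.hom σ))
  haveI : GeometricallyIntegral A'.hom := inferInstanceAs (GeometricallyIntegral (pullback.snd A.hom σ))
  haveI : IsCommMonObj A' := isCommMonObj_of_isProper_of_geometricallyIntegral A'
  have hlΩ : (l : Ω) ≠ 0 := by
    intro h0
    refine hl ((algebraMap k Ω).injective ?_)
    rw [map_natCast, map_zero, h0]
  obtain ⟨e⟩ := AVFac.tateMod_free (A := A') hlΩ (dim_bc Ω A hg)
  exact ⟨Module.Basis.ofEquivFun (e.symm.trans (LinearEquiv.refl _ _)) |>.map (TateBc.equiv σ A l).symm⟩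

end Groth.Agent.AVIdx
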