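import Mathlib.GroupTheory.Torsion
import Mathlib.GroupTheory.QuotientGroup.Basic
import Mathlib.GroupTheory.OrderOfElement
import Mathlib.Algebra.Group.Subgroup.Finite
import Mathlib.RingTheory.Coprime.Lemmas

/-!
The cokernel of the map of Tate sequences attached to a surjection with finite kernel from a divisible group.
-/

set_option autoImplicit false

namespace Groth.Agent.AVIdx.TateCoker

variable {G H : Type*} [AddCommGroup G] [AddCommGroup H] (l : ℕ)

/-- Compatible sequences of torsion elements. -/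
def seq (G : Type*) [AddCommGroup G] : AddSubgroup (ℕ → G) where
  carrier := {x | (∀ n, (l ^ n) • x n = 0) ∧ ∀ n, l • x (n + 1) = x n}
  zero_mem' := ⟨fun _ => smul_zero _, fun _ => smul_zero _⟩
  add_mem' := by
    rintro x y ⟨hx, hx'⟩ ⟨hy, hy'⟩
    exact ⟨fun n => by rw [Pi.add_apply, smul_add, hx, hy, add_zero],
      fun n => by rw [Pi.add_apply, Pi.add_apply, smul_add, hx', hy']⟩
  neg_mem' := by
    rintro x ⟨hx, hx'⟩
    exact ⟨fun n => by rw [Pi.neg_apply, smul_neg, hx, neg_zero],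
      fun n => by rw [Pi.neg_apply, Pi.neg_apply, smul_neg, hx']⟩

variable {l}

theorem compat_iter {x : ℕ → G} (hx : x ∈ seq l G) (n : ℕ) : ∀ j, (l ^ j) • x (n + j) = x n
  | 0 => by simp
  | j + 1 => by rw [pow_succ, mul_nsmul', ← Nat.add_assoc, hx.2, compat_iter hx n j]

variable [Fact l.Prime] (f : G →+ H) [Finite f.ker]

/-- A bound on the exponent of the `l`-primary part of a finite group. -/
theorem exists_bound : ∃ e : ℕ, ∀ a ∈ f.ker, (∃ m : ℕ, (l ^ m) • a = 0) → (l ^ e) • a = 0 := by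
  classical
  let d := Nat.card f.ker
  refine ⟨d, fun a ha ⟨m, hm⟩ => ?_⟩
  have h1 : d • a = 0 := congrArg Subtype.val (card_nsmul_eq_zero' (x := (⟨a, ha⟩ : f.ker)))
  have h2 : addOrderOf a ∣ d := addOrderOf_dvd_of_nsmul_eq_zero h1
  have h3 : addOrderOf a ∣ l ^ m := addOrderOf_dvd_of_nsmul_eq_zero hm
  obtain ⟨j, -, hj⟩ := (Nat.dvd_prime_pow (Fact.out : l.Prime)).1 h3
  have hjd : j ≤ d := by
    have hd : 0 < d := Nat.card_pos
    have := Nat.le_of_dvd hd (hj ▸ h2)
    exact (Nat.lt_pow_self (Fact.out : l.Prime).one_lt).le.trans this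
  exact addOrderOf_dvd_iff_nsmul_eq_zero.1 (hj ▸ pow_dvd_pow l hjd)

/-- The map on sequences is injective. -/
theorem eq_zero_of_comp {x : ℕ → G} (hx : x ∈ seq l G) (h : ∀ n, f (x n) = 0) : x = 0 := by
  obtain ⟨e, he⟩ := exists_bound (l := l) f
  funext n
  rw [← compat_iter hx n e, he _ (h _) ⟨_, hx.1 _⟩]
  rfl

/-- Torsion elements of prime power order lift to such elements. -/
theorem exists_lift_primary (hf : Function.Surjective f) {m : ℕ} {y : H} (hy : (l ^ m) • y = 0) :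
    ∃ x : G, (∃ j, (l ^ j) • x = 0) ∧ f x = y := by
  classical
  obtain ⟨x₀, rfl⟩ := hf y
  let d := Nat.card f.ker
  have hd : d ≠ 0 := Nat.card_pos.ne'
  have hl := (Fact.out : l.Prime)
  obtain ⟨s, d', hd', hdd⟩ := Nat.exists_eq_pow_mul_and_not_dvd hd l hl.ne_one
  have hmem : (l ^ m) • x₀ ∈ f.ker := by rw [AddMonoidHom.mem_ker, map_nsmul, hy]
  have h1 : (l ^ (m + s) * d') • x₀ = 0 := by
    have h := congrArg Subtype.val (card_nsmul_eq_zero' (x := (⟨_, hmem⟩ : f.ker)))
    change d • ((l ^ m) • x₀) = 0 at h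
    rw [← mul_nsmul'] at h
    rw [pow_add, mul_assoc, ← hdd, mul_comm]
    exact h
  have hco : Nat.Coprime (l ^ m) d' := ((hl.coprime_iff_not_dvd).2 hd').pow_left m
  have hb : (1 : ℤ) = (l ^ m : ℕ) * Nat.gcdA (l ^ m) d' + (d' : ℤ) * Nat.gcdB (l ^ m) d' := by
    rw [← Nat.gcd_eq_gcd_ab, hco]; rfl
  refine ⟨((d' : ℤ) * Nat.gcdB (l ^ m) d') • x₀, ⟨m + s, ?_⟩, ?_⟩
  · rw [← natCast_zsmul, ← mul_zsmul, show ((l ^ (m + s) : ℕ) : ℤ) * ((d' : ℤ) * Nat.gcdB (l ^ m) d') =
      Nat.gcdB (l ^ m) d' * ((l ^ (m + s) * d' : ℕ) : ℤ) by push_cast; ring, mul_zsmul, natCast_zsmul, h1, smul_zero]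
  · have : f x₀ = (1 : ℤ) • f x₀ := (one_zsmul _).symm
    conv_rhs => rw [this, hb, add_zsmul, mul_comm ((l ^ m : ℕ) : ℤ), mul_zsmul, natCast_zsmul, hy, smul_zero, zero_add]
    exact map_zsmul f _ _

variable (l) in
/-- The map induced on sequences. -/
def seqMap : seq l G →+ seq l H where
  toFun x := ⟨fun n => f (x.1 n), fun n => by rw [← map_nsmul, x.2.1, map_zero],
    fun n => by rw [← map_nsmul, x.2.2]⟩
  map_zero' := Subtype.ext (funext fun _ => map_zero f)
  map_add' x y := Subtype.ext (funext fun _ => map_add f _ _)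

theorem seqMap_injective : Function.Injective (seqMap l f) := by
  refine (injective_iff_map_eq_zero _).2 fun x hx => Subtype.ext ?_
  exact eq_zero_of_comp f x.2 fun n => congrFun (congrArg Subtype.val hx) n

variable (l) in
/-- The elements of the kernel of `l`-power order. -/
def primaryKer : AddSubgroup G where
  carrier := {a | a ∈ f.ker ∧ ∃ j, (l ^ j) • a = 0}
  zero_mem' := ⟨zero_mem _, 0, smul_zero _⟩
  add_mem' := by
    rintro x y ⟨hx, i, hi⟩ ⟨hy, j, hj⟩
    refine ⟨add_mem hx hy, i + j, ?_⟩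
    rw [smul_add, show (l ^ (i + j)) • y = 0 by rw [pow_add, mul_nsmul', hj, smul_zero],
      show (l ^ (i + j)) • x = 0 by rw [pow_add, mul_comm, mul_nsmul', hi, smul_zero], add_zero]
  neg_mem' := fun {x} ⟨hx, i, hi⟩ => ⟨neg_mem hx, i, by rw [smul_neg, hi, neg_zero]⟩

variable (l) in
/-- The two descriptions of the primary part of the kernel agree. -/
def primaryKerEquiv : primaryKer l f ≃+ AddCommMonoid.primaryComponent f.ker l where
  toFun a := ⟨⟨a.1, a.2.1⟩, a.2.2.elim fun j hj => ⟨j, Subtype.ext hj⟩⟩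
  invFun a := ⟨a.1.1, a.1.2, a.2.elim fun j hj => ⟨j, congrArg Subtype.val hj⟩⟩
  map_add' _ _ := rfl

/-- The cokernel of the map on sequences is the primary part of the kernel. -/
theorem nonempty_coker (hf : Function.Surjective f) (hdiv : ∀ a : G, ∃ b : G, l • b = a) :
    Nonempty (seq l H ⧸ (seqMap l f).range ≃+ AddCommMonoid.primaryComponent f.ker l) := by
  classical
  obtain ⟨e, he⟩ := exists_bound (l := l) f
  -- the relation computing the connecting map
  let R : seq l H → G → Prop := fun y a => ∀ x : G, (∃ j, (l ^ j) • x = 0) → f x = y.1 e → (l ^ e) • x = a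
  have huniq : ∀ x x' : G, (∃ j, (l ^ j) • x = 0) → (∃ j, (l ^ j) • x' = 0) → f x = f x' →
      (l ^ e) • x = (l ^ e) • x' := by
    rintro x x' ⟨i, hi⟩ ⟨j, hj⟩ h
    rw [← sub_eq_zero, ← smul_sub]
    refine he _ (by rw [AddMonoidHom.mem_ker, map_sub, h, sub_self]) ⟨i + j, ?_⟩
    rw [smul_sub, show (l ^ (i + j)) • x' = 0 by rw [pow_add, mul_nsmul', hj, smul_zero],
      show (l ^ (i + j)) • x = 0 by rw [pow_add, mul_comm, mul_nsmul', hi, smul_zero], sub_zero]
  have hex : ∀ y : seq l H, ∃ x : G, (∃ j, (l ^ j) • x = 0) ∧ f x = y.1 e := fun y =>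
    exists_lift_primary f hf (y.2.1 e)
  choose ξ hξ hξf using hex
  have hker : ∀ y, (l ^ e) • ξ y ∈ f.ker := fun y => by rw [AddMonoidHom.mem_ker, map_nsmul, hξf, y.2.1]
  let δ₀ : seq l H → primaryKer l f := fun y =>
    ⟨(l ^ e) • ξ y, hker y, by
      obtain ⟨j, hj⟩ := hξ y
      exact ⟨j, by rw [← mul_nsmul', mul_comm, mul_nsmul', hj, smul_zero]⟩⟩
  have hsum : ∀ {x x' : G}, (∃ j, (l ^ j) • x = 0) → (∃ j, (l ^ j) • x' = 0) → ∃ j, (l ^ j) • (x + x') = 0 := by
    rintro x x' ⟨i, hi⟩ ⟨j, hj⟩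
    refine ⟨i + j, ?_⟩
    rw [smul_add, show (l ^ (i + j)) • x' = 0 by rw [pow_add, mul_nsmul', hj, smul_zero],
      show (l ^ (i + j)) • x = 0 by rw [pow_add, mul_comm, mul_nsmul', hi, smul_zero], add_zero]
  let δ : seq l H →+ primaryKer l f :=
    AddMonoidHom.mk' δ₀ fun y y' => Subtype.ext (by
      show (l ^ e) • ξ (y + y') = (l ^ e) • ξ y + (l ^ e) • ξ y'
      rw [← smul_add]
      refine huniq _ _ (hξ _) (hsum (hξ y) (hξ y')) ?_
      rw [map_add, hξf, hξf, hξf]
      rfl)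
  have hδ : ∀ y x, (∃ j, (l ^ j) • x = 0) → f x = y.1 e → (δ y : G) = (l ^ e) • x := fun y x hx hfx =>
    huniq _ _ (hξ y) hx ((hξf y).trans hfx.symm)
  have hsurj : Function.Surjective δ := by
    rintro ⟨a, ha, m, hm⟩
    choose r hr using hdiv
    let z : ℕ → G := fun n => r^[n] a
    have hz : ∀ n, l • z (n + 1) = z n := fun n => by simp only [z, Function.iterate_succ_apply', hr]
    have hz0 : ∀ n, (l ^ n) • z n = a := by
      intro n
      induction n with
      | zero => simp [z]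
      | succ n ih => rw [pow_succ, mul_nsmul', hz, ih]
    have hy : (fun n => f (z n)) ∈ seq l H :=
      ⟨fun n => by rw [← map_nsmul, hz0, AddMonoidHom.mem_ker.1 ha], fun n => by rw [← map_nsmul, hz]⟩
    refine ⟨⟨_, hy⟩, Subtype.ext ?_⟩
    exact (hδ ⟨_, hy⟩ (z e) ⟨m + e, by rw [pow_add, mul_nsmul', hz0, hm]⟩ rfl).trans (hz0 e)
  have hkerδ : δ.ker = (seqMap l f).range := by
    refine le_antisymm (fun y hy => ?_) ?_
    · have h0 : (l ^ e) • ξ y = 0 := congrArg Subtype.val (AddMonoidHom.mem_ker.1 hy)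
      choose w hwp hwf using fun n => exists_lift_primary f hf (y.2.1 n)
      have hstep : ∀ n, (l ^ e) • (l • w (n + 1)) = (l ^ e) • w n := fun n => huniq _ _
        (by obtain ⟨j, hj⟩ := hwp (n + 1); exact ⟨j, by rw [smul_comm, hj, smul_zero]⟩) (hwp n)
        (by rw [map_nsmul, hwf, hwf, y.2.2])
      have hiter : ∀ n j, (l ^ e) • ((l ^ j) • w (n + j)) = (l ^ e) • w n := by
        intro n j
        induction j with
        | zero => simp
        | succ j ih =>
          rw [← ih, pow_succ, mul_nsmul', ← Nat.add_assoc, smul_comm (l ^ e) (l ^ j),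
            smul_comm (l ^ e) (l ^ j) (w (n + j)), hstep]
      refine ⟨⟨fun n => (l ^ e) • w (n + e), fun n => ?_, fun n => ?_⟩, Subtype.ext (funext fun n => ?_)⟩
      · have h2 : (l ^ e) • w e = 0 := (huniq _ _ (hwp e) (hξ y) ((hwf e).trans (hξf y).symm)).trans h0
        have h3 := hiter e n
        rw [h2, Nat.add_comm e n, smul_comm] at h3
        exact h3
      · rw [smul_comm, show n + 1 + e = n + e + 1 by omega, hstep]
      · show f ((l ^ e) • w (n + e)) = y.1 n
        rw [map_nsmul, hwf, compat_iter y.2]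
    · rintro _ ⟨x, rfl⟩
      refine Subtype.ext ?_
      rw [hδ _ (x.1 e) ⟨e, x.2.1 e⟩ rfl, x.2.1 e]
      rfl
  exact ⟨((QuotientAddGroup.quotientAddEquivOfEq hkerδ.symm).trans
    (QuotientAddGroup.quotientKerEquivOfSurjective δ hsurj)).trans (primaryKerEquiv l f)⟩

end Groth.Agent.AVIdx.TateCoker
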