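import Mathlib.NumberTheory.Padics.RingHoms
import Mathlib.RingTheory.Noetherian.Basic
import Mathlib.LinearAlgebra.Dimension.Finite
import Mathlib.LinearAlgebra.FreeModule.PID

set_option linter.style.haveILetI false

/-!
Abelian groups with a positive definite integral quadratic function: saturations of finitely many elements are
finitely generated; `p`-adic independence from `p`-divisibility of the kernel.
-/

namespace Groth.Agent.AVIdx

/-- A positive definite integral quadratic function (cube relation, evenness, positivity). -/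
structure IsPosQuad {G : Type*} [AddCommGroup G] (q : G → ℤ) : Prop where
  cube : ∀ x y z, q (x + y + z) + q x + q y + q z = q (x + y) + q (x + z) + q (y + z)
  even : ∀ x, q (-x) = q x
  pos : ∀ x, x ≠ 0 → 0 < q x

namespace IsPosQuad

variable {G : Type*} [AddCommGroup G] {q : G → ℤ}

theorem apply_zero (hq : IsPosQuad q) : q 0 = 0 := by
  have := hq.cube 0 0 0
  simp only [add_zero] at this
  omega

/-- The bilinear form, as an additive map in the first variable. -/
def pair (hq : IsPosQuad q) (y : G) : G →+ ℤ :=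
  AddMonoidHom.mk' (fun x => q (x + y) - q x - q y) fun a b => by
    have := hq.cube a b y
    omega

theorem pair_apply (hq : IsPosQuad q) (x y : G) : hq.pair y x = q (x + y) - q x - q y := rfl

theorem pair_comm (hq : IsPosQuad q) (x y : G) : hq.pair y x = hq.pair x y := by
  rw [pair_apply, pair_apply, add_comm y x]
  omega

theorem pair_self (hq : IsPosQuad q) (x : G) : hq.pair x x = 2 * q x := by
  have h := hq.cube x x (-x)
  rw [add_neg_cancel_right, add_neg_cancel, hq.apply_zero, hq.even] at h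
  rw [pair_apply]
  omega

theorem eq_zero_of_pair_span (hq : IsPosQuad q) {ι : Type*} (e : ι → G) {x : G}
    (h : ∀ i, hq.pair (e i) x = 0) {N : ℤ} (hN : N ≠ 0) (hx : N • x ∈ Submodule.span ℤ (Set.range e)) : x = 0 := by
  by_contra hne
  have hp := hq.pos x hne
  have : Submodule.span ℤ (Set.range e) ≤ LinearMap.ker (hq.pair x).toIntLinearMap :=
    Submodule.span_le.2 (Set.range_subset_iff.2 fun i =>
      (show hq.pair x (e i) = 0 by rw [← hq.pair_comm]; exact h i))
  have h2 : hq.pair x (N • x) = 0 := this hx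
  rw [map_zsmul, hq.pair_self, smul_eq_mul] at h2
  rcases mul_eq_zero.1 h2 with h3 | h3
  · exact hN h3
  · omega

end IsPosQuad

variable {G : Type*} [AddCommGroup G]

/-- The saturation of a subgroup. -/
def sat (S : Submodule ℤ G) : Submodule ℤ G where
  carrier := {x | ∃ N : ℤ, N ≠ 0 ∧ N • x ∈ S}
  zero_mem' := ⟨1, one_ne_zero, by rw [smul_zero]; exact S.zero_mem⟩
  add_mem' := by
    rintro x y ⟨a, ha, hx⟩ ⟨b, hb, hy⟩
    refine ⟨a * b, mul_ne_zero ha hb, ?_⟩
    rw [smul_add, mul_comm a b, mul_smul, mul_comm b a, mul_smul]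
    exact S.add_mem (S.smul_mem _ hx) (S.smul_mem _ hy)
  smul_mem' := by
    rintro c x ⟨a, ha, hx⟩
    exact ⟨a, ha, by rw [smul_comm]; exact S.smul_mem _ hx⟩

theorem mem_sat {S : Submodule ℤ G} {x : G} : x ∈ sat S ↔ ∃ N : ℤ, N ≠ 0 ∧ N • x ∈ S := Iff.rfl

theorem IsPosQuad.fg_sat {q : G → ℤ} (hq : IsPosQuad q) {n : ℕ} (e : Fin n → G) :
    (sat (Submodule.span ℤ (Set.range e))).FG := by
  let φ : sat (Submodule.span ℤ (Set.range e)) →ₗ[ℤ] (Fin n → ℤ) :=
    LinearMap.pi fun i => (hq.pair (e i)).toIntLinearMap.comp (Submodule.subtype _)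
  haveI : Module.Finite ℤ (sat (Submodule.span ℤ (Set.range e))) := by
    refine Module.Finite.of_injective φ ((injective_iff_map_eq_zero φ).2 fun x hx => ?_)
    obtain ⟨N, hN, hmem⟩ := x.2
    exact Subtype.ext (hq.eq_zero_of_pair_span e (fun i => congrFun hx i) hN hmem)
  exact Module.Finite.iff_fg.1 this

theorem exists_exponent {S T : Submodule ℤ G} (hT : T.FG) (h : T ≤ sat S) :
    ∃ N : ℤ, N ≠ 0 ∧ ∀ x ∈ T, N • x ∈ S := by
  classical
  obtain ⟨s, rfl⟩ := hT
  choose N hN hmem using fun x : s => mem_sat.1 (h (Submodule.subset_span x.2))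
  refine ⟨∏ x : s, N x, Finset.prod_ne_zero_iff.2 fun x _ => hN x, fun y hy => ?_⟩
  suffices Submodule.span ℤ (s : Set G) ≤ S.comap ((∏ x : s, N x) • LinearMap.id) from this hy
  refine Submodule.span_le.2 fun x hx => ?_
  show (∏ z : s, N z) • x ∈ S
  rw [← Finset.prod_erase_mul _ _ (Finset.mem_univ (⟨x, hx⟩ : s)), mul_smul]
  exact S.smul_mem _ (hmem ⟨x, hx⟩)

/-- Independence over `ℤ_p` of images, given `p`-divisibility of the kernel. -/
theorem IsPosQuad.linearIndependent_map {q : G → ℤ} (hq : IsPosQuad q) {p : ℕ} [Fact p.Prime]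
    {V : Type*} [AddCommGroup V] [Module ℤ_[p] V] (T : G →+ V)
    (hdiv : ∀ (r : ℕ) (x : G) (u : V), T x = ((p : ℤ_[p]) ^ r) • u → ∃ γ, x = ((p : ℤ) ^ r) • γ)
    {n : ℕ} (e : Fin n → G) (he : LinearIndependent ℤ e) : LinearIndependent ℤ_[p] (fun i => T (e i)) := by
  obtain ⟨N, hN, hNS⟩ := exists_exponent (hq.fg_sat e) le_rfl
  rw [Fintype.linearIndependent_iff]
  intro c hc i
  have key : ∀ r : ℕ, (N : ℤ_[p]) * c i ∈ (Ideal.span {(p : ℤ_[p]) ^ r} : Ideal ℤ_[p]) := by
    intro r
    choose w hw using fun j => Ideal.mem_span_singleton'.1 ((c j).appr_spec r)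
    let a : Fin n → ℤ := fun j => ((c j).appr r : ℕ)
    have hca : ∀ j, c j = (a j : ℤ_[p]) + w j * (p : ℤ_[p]) ^ r := fun j => by
      rw [hw j, Int.cast_natCast]
      ring
    obtain ⟨γ, hγ⟩ := hdiv r (∑ j, a j • e j) (-∑ j, w j • T (e j)) (by
      rw [map_sum, smul_neg, Finset.smul_sum, ← sub_eq_zero, sub_neg_eq_add, ← Finset.sum_add_distrib]
      refine Eq.trans (Finset.sum_congr rfl fun j _ => ?_) hc
      rw [map_zsmul, ← Int.cast_smul_eq_zsmul ℤ_[p], smul_smul, ← add_smul, hca j, mul_comm (_ ^ r)])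
    have hp0 : ((p : ℤ) ^ r) ≠ 0 := pow_ne_zero _ (Int.natCast_ne_zero.2 (Fact.out : p.Prime).ne_zero)
    have hγm : γ ∈ sat (Submodule.span ℤ (Set.range e)) :=
      ⟨_, hp0, hγ ▸ Submodule.sum_mem _ fun j _ => Submodule.smul_mem _ _ (Submodule.subset_span ⟨j, rfl⟩)⟩
    obtain ⟨b, hb⟩ := (Submodule.mem_span_range_iff_exists_fun ℤ).1 (hNS γ hγm)
    have h0 := Fintype.linearIndependent_iff.1 he (fun j => N * a j - (p : ℤ) ^ r * b j) (by
      simp only [sub_smul, mul_smul, Finset.sum_sub_distrib, ← Finset.smul_sum]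
      rw [hb, hγ, smul_comm, sub_self]) i
    refine Ideal.mem_span_singleton'.2 ⟨(b i : ℤ_[p]) + (N : ℤ_[p]) * w i, ?_⟩
    have h1 : (N : ℤ_[p]) * (a i : ℤ_[p]) = (p : ℤ_[p]) ^ r * (b i : ℤ_[p]) := by
      have := congrArg (fun t : ℤ => (t : ℤ_[p])) (sub_eq_zero.1 h0)
      push_cast at this
      exact this
    rw [hca i, mul_add, h1]
    ring
  by_contra hne
  have hne' : (N : ℤ_[p]) * c i ≠ 0 := mul_ne_zero (Int.cast_ne_zero.2 hN) hne
  have := (PadicInt.mem_span_pow_iff_le_valuation _ hne' _).1 (key (((N : ℤ_[p]) * c i).valuation + 1))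
  omega

/-- Finiteness, from a bound on independent families. -/
theorem IsPosQuad.module_finite {q : G → ℤ} (hq : IsPosQuad q) {B : ℕ}
    (hB : ∀ (n : ℕ) (e : Fin n → G), LinearIndependent ℤ e → n ≤ B) : Module.Finite ℤ G := by
  classical
  let P : ℕ → Prop := fun n => ∃ e : Fin n → G, LinearIndependent ℤ e
  have hP : P 0 := ⟨Fin.elim0, linearIndependent_empty_type⟩
  obtain ⟨e, he⟩ := Nat.findGreatest_spec (P := P) (Nat.zero_le B) hP
  refine ⟨?_⟩
  suffices h : sat (Submodule.span ℤ (Set.range e)) = ⊤ from h ▸ hq.fg_sat e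
  refine eq_top_iff.2 fun x _ => ?_
  by_contra hx
  have hcons : LinearIndependent ℤ (Fin.cons x e : Fin (Nat.findGreatest P B + 1) → G) := by
    rw [Fintype.linearIndependent_iff]
    intro c hc
    simp only [Fin.sum_univ_succ, Fin.cons_zero, Fin.cons_succ] at hc
    have h0 : c 0 = 0 := by
      by_contra h
      refine hx ⟨c 0, h, ?_⟩
      rw [eq_neg_of_add_eq_zero_left hc]
      exact Submodule.neg_mem _ (Submodule.sum_mem _ fun j _ =>
        Submodule.smul_mem _ _ (Submodule.subset_span ⟨j, rfl⟩))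
    rw [h0, zero_smul, zero_add] at hc
    exact Fin.cases h0 (Fintype.linearIndependent_iff.1 he (fun j => c j.succ) hc)
  have h1 := hB _ _ hcons
  have h2 := Nat.le_findGreatest (P := P) h1 ⟨_, hcons⟩
  omega

end Groth.Agent.AVIdx
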