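import Groth.Agent.AVIdx.TateInjBc
import Groth.Agent.AVDegLib.MulN

/-!
Homomorphisms killing the geometric points of `A[m]`, `m` invertible, are divisible by `m`.
-/

set_option linter.style.haveILetI false
set_option backward.isDefEq.respectTransparency false
set_option backward.isDefEq.respectTransparency.types false

universe u

open CategoryTheory CategoryTheory.Limits MonoidalCategory CartesianMonoidalCategory MonObj GrpObj AlgebraicGeometry

namespace Groth.Agent.AVIdx

open Groth.Agent

variable {k : Type u} [Field k] (K : Type u) [Field K] [Algebra k K] [IsAlgClosed K]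

/-- A homomorphism killing the geometric points killed by `m` factors through multiplication by `m`. -/
theorem exists_fac_of_kills_geom {A B : Over (Spec (CommRingCat.of k))}
    [GrpObj A] [IsProper A.hom] [GeometricallyIntegral A.hom]
    [GrpObj B] [IsSeparated B.hom] [LocallyOfFiniteType B.hom] (m : ℕ) (hm : (m : k) ≠ 0)
    (φ : A ⟶ B) [IsMonHom φ]
    (h : ∀ a : Over.mk (fieldMap (k := k) K) ⟶ A, a ^ m = 1 → a ≫ φ = 1) :
    ∃ φ' : A ⟶ B, IsMonHom φ' ∧ φ = (𝟙 A ^ m) ≫ φ' := by
  let σ := fieldMap (k := k) K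
  obtain ⟨_, _⟩ := flat_fieldMap (k := k) K
  haveI : IsCommMonObj A := isCommMonObj_of_isProper_of_geometricallyIntegral A
  have hm1 : 1 ≤ m := Nat.pos_of_ne_zero fun h0 => hm (by rw [h0, Nat.cast_zero])
  haveI := AVDegLib.isMonHom_pow (A := A) m
  haveI := AVFac.etale_pow_of_ne_zero A hm
  haveI := AVMulN.surjective_pow (A := A) m hm1
  haveI := AVMulN.isFinite_pow (A := A) m hm1
  let π : A ⟶ A := 𝟙 A ^ m
  let A' := Red.bc σ A
  haveI : IsProper A'.hom := inferInstanceAs (IsProper (pullback.snd A.hom σ))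
  haveI : GeometricallyIntegral A'.hom := inferInstanceAs (GeometricallyIntegral (pullback.snd A.hom σ))
  haveI : IsCommMonObj A' := isCommMonObj_of_isProper_of_geometricallyIntegral A'
  haveI := AVFac.smooth_av A'
  haveI : IsSeparated (Red.bc σ B).hom := inferInstanceAs (IsSeparated (pullback.snd B.hom σ))
  haveI : LocallyOfFiniteType (Red.bc σ B).hom := inferInstanceAs (LocallyOfFiniteType (pullback.snd B.hom σ))
  have hpow : (Over.pullback σ).map π = (𝟙 A' : A' ⟶ A') ^ m :=
    (map_pow (Functor.homMonoidHom (Over.pullback σ) (X := A) (M := A)) (𝟙 A) m).trans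
      (congrArg (· ^ m) ((Over.pullback σ).map_id A))
  have hmK : (m : K) ≠ 0 := fun h0 => hm ((algebraMap k K).injective (by rw [map_natCast, map_zero, h0]))
  haveI := AVDegLib.isMonHom_pow (A := A') m
  haveI := AVFac.etale_pow_of_ne_zero A' hmK
  haveI := AVMulN.surjective_pow (A := A') m hm1
  haveI := AVMulN.isFinite_pow (A := A') m hm1
  obtain ⟨ρ, hρ, -⟩ := AVFac.existsUnique_fac (𝟙 A' ^ m) ((Over.pullback σ).map φ) fun P hP => by
    rw [MonObj.comp_pow, Category.comp_id, AVFac.eta_eq_one] at hP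
    obtain ⟨b, rfl⟩ := (GeomPts.equiv σ A).surjective P
    rw [AVFac.eta_eq_one, GeomPts.equiv_comp,
      h b ((GeomPts.equiv σ A).injective (by rw [map_pow, hP, map_one])), map_one]
  let T : Over (Spec (CommRingCat.of k)) := Over.mk (pullback.fst π.left π.left ≫ A.hom)
  let p₁ : T ⟶ A := Over.homMk (pullback.fst π.left π.left) rfl
  let p₂ : T ⟶ A := Over.homMk (pullback.snd π.left π.left) (by
    show pullback.snd π.left π.left ≫ A.hom = pullback.fst π.left π.left ≫ A.hom
    rw [← Over.w π, ← pullback.condition_assoc])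
  have hp : p₁ ≫ π = p₂ ≫ π := Over.OverMorphism.ext pullback.condition
  have heq : p₁ ≫ φ = p₂ ≫ φ := GeomPts.map_injective σ (by
    rw [Functor.map_comp, Functor.map_comp, ← hρ, ← hpow, ← Category.assoc, ← Category.assoc,
      ← Functor.map_comp, ← Functor.map_comp, hp])
  haveI : Flat π.left := inferInstance
  haveI : EffectiveEpi π.left := inferInstance
  have hd : ∀ {W : Scheme.{u}} (g₁ g₂ : W ⟶ A.left), g₁ ≫ π.left = g₂ ≫ π.left →
      g₁ ≫ φ.left = g₂ ≫ φ.left := fun {W} g₁ g₂ hg => by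
    let l := pullback.lift g₁ g₂ hg
    have h1 : l ≫ p₁.left = g₁ := pullback.lift_fst ..
    have h2 : l ≫ p₂.left = g₂ := pullback.lift_snd ..
    rw [← h1, ← h2, Category.assoc, Category.assoc, ← Over.comp_left, heq, Over.comp_left]
  let d := EffectiveEpi.desc π.left φ.left hd
  have hd' : π.left ≫ d = φ.left := EffectiveEpi.fac π.left φ.left hd
  have hw : d ≫ B.hom = A.hom := by
    rw [← cancel_epi π.left, ← Category.assoc, hd', Over.w, Over.w]
  have hfac : π ≫ Over.homMk d hw = φ := Over.OverMorphism.ext hd'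
  haveI : IsMonHom (π ≫ Over.homMk d hw) := hfac.symm ▸ (inferInstance : IsMonHom φ)
  exact ⟨Over.homMk d hw, AVFac.isMonHom_of_fac π (Over.homMk d hw), hfac.symm⟩

/-- A multiple of `l^n` on the Tate module kills the torsion killed by `l^n`. -/
theorem kills_of_tateMap_eq_smul {A B : Over (Spec (CommRingCat.of k))}
    [GrpObj A] [IsCommMonObj A] [IsProper A.hom] [GeometricallyIntegral A.hom]
    [GrpObj B] [IsCommMonObj B] (φ : A ⟶ B) [IsMonHom φ] (l : ℕ) [Fact l.Prime] (n : ℕ)
    (u : AbDual.TateMod A l (Over.mk (fieldMap (k := k) K)) →ₗ[ℤ_[l]] AbDual.TateMod B l (Over.mk (fieldMap (k := k) K)))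
    (hu : AbDual.tateMapₗ (l := l) (T := Over.mk (fieldMap (k := k) K)) φ = ((l : ℤ_[l]) ^ n) • u)
    (a : Over.mk (fieldMap (k := k) K) ⟶ A) (ha : a ^ (l ^ n) = 1) : a ≫ φ = 1 := by
  obtain ⟨x, hx⟩ := exists_component_geom K l (Fact.out : l.Prime).pos n a ha
  have key := congrArg (fun t => AbDual.TateMod.component B l _ n (t x)) hu
  simp only [LinearMap.smul_apply] at key
  have h0 : AbDual.TateMod.component B l _ n (((l : ℤ_[l]) ^ n) • u x) = 0 := by
    rw [show ((l : ℤ_[l]) ^ n) = ((l ^ n : ℕ) : ℤ_[l]) by push_cast; rfl, Nat.cast_smul_eq_nsmul, map_nsmul]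
    exact (u x).2.1 n
  rw [h0] at key
  have e : (Additive.ofMul (a ≫ φ) : Additive (_ ⟶ B)) = 0 := by
    refine Eq.trans ?_ key
    show Additive.ofMul (a ≫ φ) = Additive.ofMul (Additive.toMul ((x : ℕ → Additive (_ ⟶ A)) n) ≫ φ)
    rw [hx]; rfl
  exact congrArg Additive.toMul e

end Groth.Agent.AVIdx
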