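import Groth.Agent.AVIdx.HomForm
import Groth.Agent.AVIdx.FormIndep
import Groth.Agent.AVIdx.TateFac
import Groth.Agent.AVIdx.TateRank
import Groth.Prelude.Def_EndTate
import Mathlib.LinearAlgebra.Dimension.StrongRankCondition

/-!
Homomorphisms of abelian varieties over any field: `Hom(A, B)` is finite free and `ℤ_l ⊗ Hom(A, B)` injects into
the homomorphisms of Tate modules.
-/

set_option linter.style.haveILetI false
set_option linter.unusedSectionVars false
set_option backward.isDefEq.respectTransparency false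
set_option backward.isDefEq.respectTransparency.types false

universe u

open CategoryTheory CategoryTheory.Limits MonoidalCategory CartesianMonoidalCategory MonObj GrpObj AlgebraicGeometry

noncomputable section

namespace Groth.Agent.AVIdx

open Groth.Agent

variable {k : Type u} [Field k] (A B : Over (Spec (CommRingCat.of k)))
  [GrpObj A] [IsCommMonObj A] [IsProper A.hom] [GeometricallyIntegral A.hom]
  [GrpObj B] [IsCommMonObj B] [IsProper B.hom] [GeometricallyIntegral B.hom]

/-- The group of homomorphisms carries a positive definite quadratic function. -/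
theorem exists_isPosQuad_hom : ∃ q : EndAV.Hom A B → ℤ, IsPosQuad q := by
  obtain ⟨Q, hcube, heven, hpos⟩ := exists_quad A B
  exact ⟨fun x => Q x.toHom, fun x y z => hcube x.toHom y.toHom z.toHom, fun x => heven x.toHom,
    fun x hx => hpos x.toHom inferInstance fun h => hx (EndAV.Hom.ext h)⟩

variable {A B} (Ω : Type u) [Field Ω] [Algebra k Ω] [IsAlgClosed Ω] (l : ℕ) [Fact l.Prime]

/-- The kernel of the `l`-adic representation is divisible. -/
theorem exists_smul_of_tateMap_eq (hl : (l : k) ≠ 0) (r : ℕ) (x : EndAV.Hom A B)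
    (v : AbDual.TateMod A l (Over.mk (fieldMap (k := k) Ω)) →ₗ[ℤ_[l]] AbDual.TateMod B l (Over.mk (fieldMap (k := k) Ω)))
    (hv : EndAV.Hom.tateMap l (Over.mk (fieldMap (k := k) Ω)) x = ((l : ℤ_[l]) ^ r) • v) :
    ∃ z : EndAV.Hom A B, x = ((l : ℤ) ^ r) • z := by
  have hlr : ((l ^ r : ℕ) : k) ≠ 0 := by push_cast; exact pow_ne_zero _ hl
  obtain ⟨φ, hφ, hfac⟩ := exists_fac_of_kills_geom Ω (l ^ r) hlr x.toHom
    fun a ha => kills_of_tateMap_eq_smul Ω x.toHom l r v hv a ha
  haveI := hφ
  refine ⟨EndAV.Hom.of φ, EndAV.Hom.ext ?_⟩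
  rw [show ((l : ℤ) ^ r) = ((l ^ r : ℕ) : ℤ) by push_cast; rfl, natCast_zsmul, EndAV.Hom.toHom_nsmul,
    EndAV.Hom.toHom_of, hfac, MonObj.pow_comp, Category.id_comp]

/-- `ℤ_l ⊗ Hom(A, B) → Hom(T_l A, T_l B)` is injective. -/
theorem linearIndependent_tateMap (hl : (l : k) ≠ 0) {n : ℕ} (e : Fin n → EndAV.Hom A B)
    (he : LinearIndependent ℤ e) :
    LinearIndependent ℤ_[l] fun i => EndAV.Hom.tateMap l (Over.mk (fieldMap (k := k) Ω)) (e i) := by
  obtain ⟨q, hq⟩ := exists_isPosQuad_hom A B
  exact hq.linearIndependent_map _ (fun r x v hv => exists_smul_of_tateMap_eq Ω l hl r x v hv) e he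

variable (A B)

/-- A prime invertible in `k`. -/
theorem exists_prime_ne_zero (k : Type u) [Field k] : ∃ p : ℕ, p.Prime ∧ (p : k) ≠ 0 := by
  by_cases h : (2 : k) = 0
  · refine ⟨3, Nat.prime_three, fun h3 => one_ne_zero (α := k) ?_⟩
    push_cast at h3
    linear_combination h3 - h
  · exact ⟨2, Nat.prime_two, by push_cast; exact h⟩

/-- `Hom(A, B)` is finitely generated and free. -/
theorem finite_free_hom : Module.Finite ℤ (EndAV.Hom A B) ∧ Module.Free ℤ (EndAV.Hom A B) := by
  obtain ⟨q, hq⟩ := exists_isPosQuad_hom A B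
  obtain ⟨p, hp, hpk⟩ := exists_prime_ne_zero k
  haveI : Fact p.Prime := ⟨hp⟩
  let K := AlgebraicClosure k
  obtain ⟨g, hg⟩ := exists_dim_av A
  obtain ⟨h, hh⟩ := exists_dim_av B
  obtain ⟨bA⟩ := nonempty_tateBasis K A hg p hpk
  obtain ⟨bB⟩ := nonempty_tateBasis K B hh p hpk
  let T := Over.mk (fieldMap (k := k) K)
  haveI := Module.Free.of_basis bA
  haveI := Module.Finite.of_basis bA
  haveI := Module.Free.of_basis bB
  haveI := Module.Finite.of_basis bB
  haveI : Module.Finite ℤ (EndAV.Hom A B) := hq.module_finite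
    (B := Module.finrank ℤ_[p] (AbDual.TateMod A p T →ₗ[ℤ_[p]] AbDual.TateMod B p T)) fun n e he => by
      have := (linearIndependent_tateMap (A := A) (B := B) K p hpk e he).fintype_card_le_finrank
      rwa [Fintype.card_fin] at this
  haveI : Module.IsTorsionFree ℤ (EndAV.Hom A B) := .of_smul_eq_zero fun r x hr => by
    by_contra hne
    rw [not_or] at hne
    exact hne.2 (hq.eq_zero_of_pair_span (PEmpty.elim : PEmpty.{1} → EndAV.Hom A B) (fun i => i.elim) hne.1
      (hr ▸ Submodule.zero_mem _))
  exact ⟨inferInstance, Module.free_of_finite_type_torsion_free'⟩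

variable {A B}

/-- The toHom map into the multiplicative group of morphisms, written additively. -/
def toHomAdd : EndAV.Hom A B →ₗ[ℤ] Additive (A ⟶ B) :=
  (AddMonoidHom.mk' (fun x : EndAV.Hom A B => Additive.ofMul x.toHom) fun _ _ => rfl).toIntLinearMap

theorem toHomAdd_injective : Function.Injective (toHomAdd : EndAV.Hom A B →ₗ[ℤ] Additive (A ⟶ B)) :=
  fun _ _ h => EndAV.Hom.ext (congrArg Additive.toMul h)

theorem linearIndependent_hom_of {n : ℕ} (e : Fin n → (A ⟶ B)) [∀ i, IsMonHom (e i)]
    (he : LinearIndependent ℤ (fun i => Additive.ofMul (e i))) :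
    LinearIndependent ℤ fun i => EndAV.Hom.of (e i) :=
  LinearIndependent.of_comp toHomAdd he

/-- An independent family of homomorphisms has at most `4gh` members. -/
theorem card_le_of_linearIndependent {g h : ℕ} (hg : topologicalKrullDim A.left = g)
    (hh : topologicalKrullDim B.left = h) {n : ℕ} (e : Fin n → EndAV.Hom A B) (he : LinearIndependent ℤ e) :
    n ≤ 4 * g * h := by
  obtain ⟨p, hp, hpk⟩ := exists_prime_ne_zero k
  haveI : Fact p.Prime := ⟨hp⟩
  let K := AlgebraicClosure k
  obtain ⟨bA⟩ := nonempty_tateBasis K A hg p hpk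
  obtain ⟨bB⟩ := nonempty_tateBasis K B hh p hpk
  haveI := Module.Free.of_basis bA
  haveI := Module.Finite.of_basis bA
  haveI := Module.Free.of_basis bB
  haveI := Module.Finite.of_basis bB
  have := (linearIndependent_tateMap (A := A) (B := B) K p hpk e he).fintype_card_le_finrank
  rw [Fintype.card_fin, Module.finrank_linearMap, Module.finrank_eq_card_basis bA, Module.finrank_eq_card_basis bB,
    Fintype.card_fin, Fintype.card_fin] at this
  exact this.trans (le_of_eq (by ring))

variable (A B)

theorem finrank_hom_le {g h : ℕ} (hg : topologicalKrullDim A.left = g) (hh : topologicalKrullDim B.left = h) :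
    Module.finrank ℤ (EndAV.Hom A B) ≤ 4 * g * h := by
  obtain ⟨_, _⟩ := finite_free_hom A B
  exact card_le_of_linearIndependent hg hh _ (Module.finBasis ℤ (EndAV.Hom A B)).linearIndependent

/-- The generating family: every homomorphism is a product of powers of finitely many. -/
theorem exists_generators : ∃ (n : ℕ) (e : Fin n → (A ⟶ B)), (∀ i, IsMonHom (e i)) ∧
    ∀ f : A ⟶ B, IsMonHom f → ∃ a : Fin n → ℤ, f = ∏ i, e i ^ a i := by
  obtain ⟨_, _⟩ := finite_free_hom A B
  let b := Module.finBasis ℤ (EndAV.Hom A B)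
  refine ⟨_, fun i => (b i).toHom, fun i => inferInstance, fun f hf => ?_⟩
  haveI := hf
  refine ⟨fun i => b.repr (EndAV.Hom.of f) i, ?_⟩
  have h1 := congrArg toHomAdd (b.sum_repr (EndAV.Hom.of f))
  rw [map_sum] at h1
  simp only [LinearMap.map_smul] at h1
  have h2 := congrArg Additive.toMul h1
  rw [toMul_sum] at h2
  exact h2.symm

end Groth.Agent.AVIdx
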