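import Groth.Agent.AVIdx.TateInjBc
import Groth.Prelude.Def_EndTate
import Groth.Prelude.Def_SGA7a

/-!
The l-adic representation of the endomorphism ring is faithful.
-/

set_option linter.style.haveILetI false
set_option backward.isDefEq.respectTransparency false
set_option backward.isDefEq.respectTransparency.types false

universe u

open CategoryTheory CategoryTheory.Limits MonoidalCategory CartesianMonoidalCategory MonObj GrpObj AlgebraicGeometry

namespace Groth.Agent.AVIdx

theorem tateRep_injective {k : Type u} [Field k] (Ω : Type u) [Field Ω] [Algebra k Ω] [IsAlgClosed Ω]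
    (l : ℕ) [Fact l.Prime] (hl : (l : k) ≠ 0) (A : Over (Spec (CommRingCat.of k)))
    [GrpObj A] [IsCommMonObj A] [IsProper A.hom] [GeometricallyIntegral A.hom] :
    Function.Injective (EndAV.End.tateRep (A := A) l (SGA7.pt Ω)) := by
  refine (injective_iff_map_eq_zero _).2 fun φ hφ => EndAV.Hom.ext ?_
  refine (AVIdx.eq_one_of_kills_geom_torsion Ω l hl φ.toHom fun n a ha => ?_).trans rfl
  obtain ⟨x, hx⟩ := AVIdx.exists_component_geom Ω l (Fact.out : l.Prime).pos n a ha
  have h := congrArg (fun t : AbDual.TateMod A l (SGA7.pt Ω) →ₗ[ℤ_[l]] AbDual.TateMod A l (SGA7.pt Ω) =>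
    AbDual.TateMod.component A l (SGA7.pt Ω) n (t x)) hφ
  have e : (Additive.ofMul (a ≫ φ.toHom) : Additive (SGA7.pt Ω ⟶ A)) = 0 := by
    refine Eq.trans ?_ (h.trans (map_zero _))
    show Additive.ofMul (a ≫ φ.toHom) = Additive.ofMul (Additive.toMul ((x : ℕ → Additive (_ ⟶ A)) n) ≫ φ.toHom)
    rw [hx]; rfl
  exact congrArg Additive.toMul e

end Groth.Agent.AVIdx
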