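import Groth.Prelude.Def_TwC
import Mathlib.CategoryTheory.Monoidal.Cartesian.Grp
import Mathlib.Topology.LocallyConstant.Algebra

/-!
Constant group schemes: the coproduct of copies of the base indexed by a group represents locally constant maps.
-/

set_option linter.style.haveILetI false
set_option backward.isDefEq.respectTransparency false
set_option backward.isDefEq.respectTransparency.types false

universe u

open CategoryTheory CategoryTheory.Limits MonoidalCategory CartesianMonoidalCategory MonObj AlgebraicGeometry TopologicalSpace Opposite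

namespace Groth.Agent.AVIdx.ConstGrp

variable (S : Scheme.{u}) (M : Type u)

/-- The component of a point. -/
noncomputable def comp (x : (TwC.const S M).left) : M := ((sigmaMk fun _ : M => S).symm x).1

theorem comp_ι (m : M) (s : S) : comp S M (Sigma.ι (fun _ : M => S) m s) = m := by
  rw [comp, ← sigmaMk_mk, Homeomorph.symm_apply_apply]

theorem mem_range_of_comp {x : (TwC.const S M).left} {m : M} (h : comp S M x = m) :
    x ∈ Set.range (Sigma.ι (fun _ : M => S) m) := by
  obtain ⟨⟨n, y⟩, rfl⟩ := (sigmaMk fun _ : M => S).surjective x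
  rw [comp, Homeomorph.symm_apply_apply] at h
  subst h
  exact ⟨y, (sigmaMk_mk _ _ _).symm⟩

theorem isLocallyConstant_comp : IsLocallyConstant (comp S M) := by
  refine IsLocallyConstant.iff_isOpen_fiber.2 fun m => ?_
  have h : {x | comp S M x = m} = Set.range (Sigma.ι (fun _ : M => S) m) := by
    ext x
    exact ⟨mem_range_of_comp S M, by rintro ⟨s, rfl⟩; exact comp_ι S M m s⟩
  show IsOpen {x | comp S M x = m}
  rw [h]
  exact (Sigma.ι (fun _ : M => S) m).isOpenEmbedding.isOpen_range

variable {S M}

/-- The locally constant map of a morphism. -/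
noncomputable def toLC {T : Over S} (f : T ⟶ TwC.const S M) : LocallyConstant T.left M :=
  ⟨comp S M ∘ f.left, (isLocallyConstant_comp S M).comp_continuous f.left.continuous⟩

theorem restrict_eq {T : Over S} (f : T ⟶ TwC.const S M) (m : M) {W : T.left.Opens}
    (hW : ∀ x ∈ W, toLC f x = m) : W.ι ≫ f.left = W.ι ≫ T.hom ≫ Sigma.ι (fun _ : M => S) m := by
  have hr : Set.range (W.ι ≫ f.left) ⊆ Set.range (Sigma.ι (fun _ : M => S) m) := by
    rintro _ ⟨x, rfl⟩
    exact mem_range_of_comp S M (hW _ x.2)
  have h := IsOpenImmersion.lift_fac (Sigma.ι (fun _ : M => S) m) (W.ι ≫ f.left) hr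
  have h2 : IsOpenImmersion.lift (Sigma.ι (fun _ : M => S) m) (W.ι ≫ f.left) hr = W.ι ≫ T.hom := by
    calc IsOpenImmersion.lift (Sigma.ι (fun _ : M => S) m) (W.ι ≫ f.left) hr
        = IsOpenImmersion.lift (Sigma.ι (fun _ : M => S) m) (W.ι ≫ f.left) hr ≫
            Sigma.ι (fun _ : M => S) m ≫ (TwC.const S M).hom := by simp
      _ = W.ι ≫ T.hom := by rw [← Category.assoc, h, Category.assoc, Over.w f]
  rw [← h, h2, Category.assoc]

theorem toLC_injective {T : Over S} : Function.Injective (toLC : (T ⟶ TwC.const S M) → LocallyConstant T.left M) := by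
  intro f g h
  apply Over.OverMorphism.ext
  let W : M → T.left.Opens := fun m => ⟨(toLC f) ⁻¹' {m}, (toLC f).isLocallyConstant _⟩
  refine Scheme.Cover.hom_ext (T.left.openCoverOfIsOpenCover W (top_le_iff.1 fun x _ =>
    Opens.mem_iSup.2 ⟨toLC f x, rfl⟩)) _ _ fun m => ?_
  show (W m).ι ≫ f.left = (W m).ι ≫ g.left
  rw [restrict_eq f m fun x hx => hx, restrict_eq g m fun x hx => h ▸ hx]

theorem exists_toLC {T : Over S} (c : LocallyConstant T.left M) :
    ∃ f : T ⟶ TwC.const S M, toLC f = c := by
  let W : M → T.left.Opens := fun m => ⟨c ⁻¹' {m}, c.isLocallyConstant _⟩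
  let 𝒰 := T.left.openCoverOfIsOpenCover W (top_le_iff.1 fun x _ => Opens.mem_iSup.2 ⟨c x, rfl⟩)
  let φ : ∀ m, 𝒰.X m ⟶ (TwC.const S M).left := fun m => (W m).ι ≫ T.hom ≫ Sigma.ι (fun _ : M => S) m
  have hφ : ∀ m n, pullback.fst (𝒰.f m) (𝒰.f n) ≫ φ m = pullback.snd (𝒰.f m) (𝒰.f n) ≫ φ n := by
    intro m n
    by_cases hmn : m = n
    · subst hmn
      show pullback.fst (W m).ι (W m).ι ≫ (W m).ι ≫ _ = pullback.snd (W m).ι (W m).ι ≫ (W m).ι ≫ _
      rw [pullback.condition_assoc]
    · haveI : IsEmpty ↥(pullback (𝒰.f m) (𝒰.f n)) := ⟨fun x => by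
        have h1 : c ((W m).ι (pullback.fst (W m).ι (W n).ι x)) = m :=
          (pullback.fst (W m).ι (W n).ι x).2
        have h2 : c ((W n).ι (pullback.snd (W m).ι (W n).ι x)) = n :=
          (pullback.snd (W m).ι (W n).ι x).2
        rw [← Scheme.Hom.comp_apply, pullback.condition, Scheme.Hom.comp_apply, h2] at h1
        exact hmn h1.symm⟩
      exact (isInitialOfIsEmpty).hom_ext _ _
  refine ⟨Over.homMk (𝒰.glueMorphisms φ hφ) ?_, LocallyConstant.ext fun x => ?_⟩
  · refine 𝒰.hom_ext _ _ fun m => ?_
    rw [𝒰.ι_glueMorphisms_assoc]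
    simp [φ, 𝒰]
  · have h := congrArg (fun t : (W (c x)).toScheme ⟶ (TwC.const S M).left => comp S M (t ⟨x, rfl⟩))
      (𝒰.ι_glueMorphisms φ hφ (c x))
    exact h.trans (comp_ι S M (c x) _)

/-- Morphisms to the constant scheme are locally constant maps. -/
noncomputable def homEquiv {T : Over S} : (T ⟶ TwC.const S M) ≃ LocallyConstant T.left M :=
  Equiv.ofBijective toLC ⟨toLC_injective, exists_toLC⟩

variable (S M) [CommGroup M]

/-- The presheaf of locally constant maps. -/
noncomputable def presheaf : (Over S)ᵒᵖ ⥤ GrpCat.{u} where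
  obj T := GrpCat.of (LocallyConstant T.unop.left M)
  map {T T'} f := GrpCat.ofHom
    { toFun := fun c => c.comap ⟨f.unop.left, f.unop.left.continuous⟩
      map_one' := rfl
      map_mul' := fun _ _ => rfl }
  map_id _ := by ext; rfl
  map_comp _ _ := by ext; rfl

/-- The constant scheme represents the presheaf. -/
noncomputable def representableBy : (presheaf S M ⋙ forget _).RepresentableBy (TwC.const S M) where
  homEquiv := homEquiv
  homEquiv_comp _ _ := rfl

/-- The constant group scheme. -/
@[instance_reducible]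
noncomputable def grpObj : GrpObj (TwC.const S M) :=
  GrpObj.ofRepresentableBy (TwC.const S M) (presheaf S M) (representableBy S M)

attribute [local instance] grpObj

/-- The identification is multiplicative. -/
theorem toLC_mul {T : Over S} (f g : T ⟶ TwC.const S M) : toLC (f * g) = toLC f * toLC g := by
  show (representableBy S M).homEquiv (lift f g ≫ (representableBy S M).homEquiv.symm
    ((representableBy S M).homEquiv (fst _ _) * (representableBy S M).homEquiv (snd _ _))) = _
  rw [(representableBy S M).homEquiv_comp, Equiv.apply_symm_apply]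
  show toLC (lift f g ≫ fst _ _) * toLC (lift f g ≫ snd _ _) = _
  rw [lift_fst, lift_snd]

theorem isCommMonObj : IsCommMonObj (TwC.const S M) := by
  refine (isCommMonObj_iff_isMulCommutative _).2 fun T => ⟨⟨fun f g => toLC_injective ?_⟩⟩
  rw [toLC_mul, toLC_mul, mul_comm]

end Groth.Agent.AVIdx.ConstGrp
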