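import Groth.Prelude.Def_Red

/-!
The trivial group is a torus.
-/

set_option linter.style.haveILetI false
set_option backward.isDefEq.respectTransparency false
set_option backward.isDefEq.respectTransparency.types false

universe u

open CategoryTheory CategoryTheory.Limits MonoidalCategory CartesianMonoidalCategory MonObj AlgebraicGeometry

namespace Groth.Agent.AVIdx.TrivTorus

variable {S : Scheme.{u}}

theorem hom_ext_of_isIso {X Y : Over S} [IsIso Y.hom] (f g : X ⟶ Y) : f = g := by
  apply Over.OverMorphism.ext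
  rw [← cancel_mono Y.hom, Over.w, Over.w]

theorem isSplitTorusWith_zero {G : Over S} [GrpObj G] [IsIso G.hom] :
    Red.IsSplitTorusWith (Fin 0 → ℤ) G := by
  haveI : IsIso (Red.DS S (Fin 0 → ℤ)).hom := by
    haveI : IsIso (Red.diag (ULift.{u} ℤ) (Fin 0 → ℤ)).hom := by
      change IsIso (Spec.map (CommRingCat.ofHom (algebraMap (ULift.{u} ℤ)
        (MonoidAlgebra (ULift.{u} ℤ) (Multiplicative (Fin 0 → ℤ))))))
      have : Function.Bijective (algebraMap (ULift.{u} ℤ) (MonoidAlgebra (ULift.{u} ℤ) (Multiplicative (Fin 0 → ℤ)))) := by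
        refine ⟨fun a b h => ?_, fun x => ?_⟩
        · let φ := MonoidAlgebra.lift (ULift.{u} ℤ) (ULift.{u} ℤ) (Multiplicative (Fin 0 → ℤ)) 1
          exact (φ.commutes a).symm.trans ((congrArg φ h).trans (φ.commutes b))
        · induction x using MonoidAlgebra.induction_linear with
          | zero => exact ⟨0, map_zero _⟩
          | add a b ha hb =>
            obtain ⟨a', rfl⟩ := ha
            obtain ⟨b', rfl⟩ := hb
            exact ⟨a' + b', map_add _ _ _⟩
          | single m c => exact ⟨c, by rw [Subsingleton.elim m 1]; rfl⟩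
      haveI : IsIso (CommRingCat.ofHom (algebraMap (ULift.{u} ℤ) (MonoidAlgebra (ULift.{u} ℤ) (Multiplicative (Fin 0 → ℤ))))) :=
        (ConcreteCategory.isIso_iff_bijective _).2 this
      infer_instance
    exact inferInstanceAs (IsIso (Limits.pullback.snd _ _))
  let e : G ≅ Red.DS S (Fin 0 → ℤ) := Over.isoMk (asIso G.hom ≪≫ (asIso (Red.DS S (Fin 0 → ℤ)).hom).symm) (by simp)
  exact ⟨Grp.mkIso e (hom_ext_of_isIso _ _) (hom_ext_of_isIso _ _)⟩

/-- The trivial group is a torus. -/
theorem isTorus_unit : Red.IsTorus (𝟙_ (Over S)) := by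
  refine ⟨S, 𝟙 S, inferInstance, inferInstance, fun V hV => ⟨V, hV.isCompact, Set.image_id _⟩, fun s => ⟨⊤, trivial, 0, ?_⟩⟩
  haveI : IsIso (Red.bc ((⊤ : S.Opens).ι ≫ 𝟙 S) (𝟙_ (Over S))).hom := by
    haveI : IsIso (𝟙_ (Over S)).hom := inferInstanceAs (IsIso (𝟙 S))
    exact inferInstanceAs (IsIso (Limits.pullback.snd _ _))
  exact isSplitTorusWith_zero

end Groth.Agent.AVIdx.TrivTorus
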