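import Groth.Agent.AVIdx.MapSubvar
import Groth.Agent.AVIdx.ConstGrp
import Groth.Agent.AVIdx.TrivTorus
import Groth.Prelude.Def_AlgGrp

/-!
The integer powers of a rational point, and products with constant groups.
-/

set_option linter.style.haveILetI false
set_option backward.isDefEq.respectTransparency false
set_option backward.isDefEq.respectTransparency.types false

universe u

open CategoryTheory CategoryTheory.Limits MonoidalCategory CartesianMonoidalCategory MonObj GrpObj AlgebraicGeometry TopologicalSpace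

namespace Groth.Agent.AVIdx

open Groth.Agent

variable {S : Scheme.{u}}

attribute [local instance] ConstGrp.grpObj

theorem isMonHom_of_mul {X Y : Over S} [GrpObj X] [GrpObj Y] (f : X ⟶ Y)
    (h : ∀ (T : Over S) (a b : T ⟶ X), (a * b) ≫ f = (a ≫ f) * (b ≫ f)) : IsMonHom f := by
  constructor
  · have h1 := h (𝟙_ (Over S)) 1 1
    rw [_root_.one_mul] at h1
    rw [show η[X] = (1 : 𝟙_ (Over S) ⟶ X) by rw [Hom.one_def, toUnit_unique (toUnit _) (𝟙 _), Category.id_comp],
      show η[Y] = (1 : 𝟙_ (Over S) ⟶ Y) by rw [Hom.one_def, toUnit_unique (toUnit _) (𝟙 _), Category.id_comp]]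
    exact left_eq_mul.1 h1
  · have h1 := h (X ⊗ X) (fst X X) (snd X X)
    rw [show fst X X * snd X X = μ[X] by rw [Hom.mul_def, lift_fst_snd, Category.id_comp]] at h1
    rw [h1, show μ[Y] = fst Y Y * snd Y Y by rw [Hom.mul_def, lift_fst_snd, Category.id_comp],
      MonObj.comp_mul, tensorHom_fst, tensorHom_snd]

/-- Integers as an index group in any universe. -/
abbrev ZZ : Type u := Multiplicative (ULift.{u} ℤ)

variable {A : Over S} [GrpObj A] [IsCommMonObj A]

/-- The homomorphism from the constant group of integers with the given value at one. -/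
noncomputable def powHom (a : 𝟙_ (Over S) ⟶ A) : TwC.const S ZZ.{u} ⟶ A :=
  Over.homMk (Sigma.desc fun m : ZZ.{u} => (a ^ m.toAdd.down).left)
    (Sigma.hom_ext _ _ fun m => by simp)

theorem restrict_powHom {T : Over S} (f : T ⟶ TwC.const S ZZ.{u}) (a : 𝟙_ (Over S) ⟶ A) (m : ZZ.{u})
    (W : T.left.Opens) (hW : ∀ x ∈ W, ConstGrp.toLC f x = m) :
    (Over.homMk W.ι rfl : Over.mk (W.ι ≫ T.hom) ⟶ T) ≫ f ≫ powHom a = toUnit _ ≫ a ^ m.toAdd.down := by
  apply Over.OverMorphism.ext
  show W.ι ≫ f.left ≫ (powHom a).left = (W.ι ≫ T.hom) ≫ (a ^ m.toAdd.down).left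
  rw [← Category.assoc, ConstGrp.restrict_eq f m hW, Category.assoc, Category.assoc, Category.assoc]
  congr 2
  exact Sigma.ι_desc _ _

theorem powHom_mul (a : 𝟙_ (Over S) ⟶ A) (T : Over S) (f g : T ⟶ TwC.const S ZZ.{u}) :
    (f * g) ≫ powHom a = (f ≫ powHom a) * (g ≫ powHom a) := by
  apply Over.OverMorphism.ext
  let W : ZZ.{u} × ZZ.{u} → T.left.Opens := fun mn =>
    ⟨(ConstGrp.toLC f) ⁻¹' {mn.1} ∩ (ConstGrp.toLC g) ⁻¹' {mn.2},
      ((ConstGrp.toLC f).isLocallyConstant _).inter ((ConstGrp.toLC g).isLocallyConstant _)⟩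
  refine Scheme.Cover.hom_ext (T.left.openCoverOfIsOpenCover W (top_le_iff.1 fun x _ =>
    Opens.mem_iSup.2 ⟨(ConstGrp.toLC f x, ConstGrp.toLC g x), rfl, rfl⟩)) _ _ fun mn => ?_
  show (Over.homMk (W mn).ι rfl : Over.mk ((W mn).ι ≫ T.hom) ⟶ T).left ≫ _ =
    (Over.homMk (W mn).ι rfl : Over.mk ((W mn).ι ≫ T.hom) ⟶ T).left ≫ _
  rw [← Over.comp_left, ← Over.comp_left]
  congr 1
  rw [restrict_powHom (f * g) a (mn.1 * mn.2) (W mn) (fun x hx => by
      rw [ConstGrp.toLC_mul]
      exact congrArg₂ (· * ·) hx.1 hx.2),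
    MonObj.comp_mul, restrict_powHom f a mn.1 (W mn) (fun x hx => hx.1),
    restrict_powHom g a mn.2 (W mn) (fun x hx => hx.2), ← MonObj.comp_mul, ← zpow_add]
  rfl

theorem isMonHom_powHom (a : 𝟙_ (Over S) ⟶ A) : IsMonHom (powHom a) :=
  isMonHom_of_mul _ (powHom_mul a)

theorem pt_powHom (a : 𝟙_ (Over S) ⟶ A) :
    TwC.pt S ZZ.{u} (Multiplicative.ofAdd ⟨1⟩) ≫ powHom a = a := by
  apply Over.OverMorphism.ext
  show Sigma.ι (fun _ : ZZ.{u} => S) _ ≫ (powHom a).left = a.left
  exact (Sigma.ι_desc _ _).trans (congrArg (fun t => t.left) (zpow_one a))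

theorem eta_left : (η[TwC.const S ZZ.{u}]).left = Sigma.ι (fun _ : ZZ.{u} => S) 1 := by
  have h : η[TwC.const S ZZ.{u}] = TwC.pt S ZZ.{u} 1 := by
    refine ConstGrp.toLC_injective ?_
    have h1 : ConstGrp.toLC (η[TwC.const S ZZ.{u}]) = 1 := by
      show (ConstGrp.representableBy S ZZ.{u}).homEquiv ((ConstGrp.representableBy S ZZ.{u}).homEquiv.symm 1) = 1
      exact Equiv.apply_symm_apply _ _
    rw [h1]
    exact LocallyConstant.ext fun x => (ConstGrp.comp_ι S ZZ.{u} 1 x).symm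
  rw [h]
  rfl

/-- The unit section of the product with the constant group is an open immersion. -/
theorem isOpenImmersion_whisker_eta (C : Over S) :
    IsOpenImmersion (C ◁ η[TwC.const S ZZ.{u}]).left := by
  haveI : IsOpenImmersion (η[TwC.const S ZZ.{u}]).left := by rw [eta_left]; infer_instance
  refine MorphismProperty.of_isPullback (P := @IsOpenImmersion) (g := η[TwC.const S ZZ.{u}].left)
    (g' := (C ◁ η[TwC.const S ZZ.{u}]).left) (f := (snd C (TwC.const S ZZ.{u})).left)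
    (f' := (snd C (𝟙_ (Over S))).left) ?_ inferInstance
  have h2 : IsPullback (fst C (𝟙_ (Over S))).left (snd C (𝟙_ (Over S))).left C.hom (𝟙_ (Over S)).hom :=
    IsPullback.of_hasPullback C.hom (𝟙_ (Over S)).hom
  have h1 : IsPullback (fst C (TwC.const S ZZ.{u})).left (snd C (TwC.const S ZZ.{u})).left C.hom (TwC.const S ZZ.{u}).hom :=
    IsPullback.of_hasPullback C.hom (TwC.const S ZZ.{u}).hom
  refine (IsPullback.of_right (h₁₂ := (fst C (TwC.const S ZZ.{u})).left) (h₂₂ := (TwC.const S ZZ.{u}).hom) ?_ ?_ h1).flip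
  · rw [← Over.comp_left, whiskerLeft_fst, Over.w]
    exact h2
  · rw [← Over.comp_left, ← Over.comp_left, whiskerLeft_snd]

end Groth.Agent.AVIdx
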