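import Groth.Agent.AVIdx.IndexField
import Groth.Agent.AVSupp.Fixing
import Groth.Agent.AVPhi.Main

/-!
An ample class times an additive class is ample.
-/

noncomputable section

set_option linter.style.haveILetI false
set_option linter.unusedSectionVars false
set_option backward.isDefEq.respectTransparency false
set_option backward.isDefEq.respectTransparency.types false
set_option autoImplicit false
set_option maxHeartbeats 800000

universe u

open CategoryTheory CategoryTheory.Limits MonoidalCategory CartesianMonoidalCategory MonObj AlgebraicGeometry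
open TopologicalSpace

namespace Groth.Agent.AVIdx

open Groth.Agent Groth.Agent.H23 Groth.Agent.AVPair Groth.Agent.AVCube Groth.Agent.AVAmple
open scoped Groth.Agent.H23.PicMul

section Transpose

variable {S S' : Scheme.{u}} (σ : S' ⟶ S)

/-- The unit of base change. -/
def bcUnit (T : Over S') : T ⟶ Red.bc σ (Over.mk (T.hom ≫ σ)) :=
  Over.homMk (pullback.lift (𝟙 T.left) T.hom (Category.id_comp _)) (pullback.lift_snd _ _ _)

variable (A : Over S) [GrpObj A]

/-- Maps over the base as maps into the base change. -/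
def transpose (T : Over S') : (Over.mk (T.hom ≫ σ) ⟶ A) →* (T ⟶ Red.bc σ A) where
  toFun a := bcUnit σ T ≫ (Over.pullback σ).map a
  map_one' := by
    rw [Functor.map_one]
    exact MonObj.comp_one _
  map_mul' a b := by
    rw [Functor.map_mul]
    exact MonObj.comp_mul _ _ _

theorem transpose_left (T : Over S') (a : Over.mk (T.hom ≫ σ) ⟶ A) :
    (transpose σ A T a).left ≫ pullback.fst A.hom σ = a.left := by
  show (pullback.lift (𝟙 T.left) T.hom _ ≫ ((Over.pullback σ).map a).left) ≫ pullback.fst A.hom σ = a.left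
  have h : ((Over.pullback σ).map a).left ≫ pullback.fst A.hom σ = pullback.fst (Over.mk (T.hom ≫ σ)).hom σ ≫ a.left :=
    pullback.lift_fst _ _ _
  rw [Category.assoc, h, ← Category.assoc]
  exact (congrArg (· ≫ a.left) (pullback.lift_fst _ _ _)).trans (Category.id_comp _)

theorem exists_transpose (T : Over S') (f : T ⟶ Red.bc σ A) : ∃ a, transpose σ A T a = f := by
  refine ⟨Over.homMk (f.left ≫ pullback.fst A.hom σ) ?_, ?_⟩
  · show (f.left ≫ pullback.fst A.hom σ) ≫ A.hom = T.hom ≫ σ
    rw [Category.assoc, pullback.condition, ← Category.assoc]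
    exact congrArg (· ≫ σ) (Over.w f)
  · refine Over.OverMorphism.ext ?_
    apply pullback.hom_ext
    · exact transpose_left σ A T _
    · exact (Over.w _).trans (Over.w f).symm

end Transpose

variable {k : Type u} [Field k] {A : Over (Spec (CommRingCat.of k))}
  [GrpObj A] [IsProper A.hom] [GeometricallyIntegral A.hom]

/-- Additivity survives extension of the ground field. -/
theorem IsAdd.geo {c : PicF.Cl A.left} (hc : IsAdd c) :
    IsAdd (A := AVIdx.geo A) (PicMul.pullHom (pullback.fst A.hom (fieldMap (k := k) (AlgebraicClosure k))) c) := by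
  intro T f g
  let σ := fieldMap (k := k) (AlgebraicClosure k)
  obtain ⟨a, rfl⟩ := exists_transpose σ A T f
  obtain ⟨b, rfl⟩ := exists_transpose σ A T g
  have key : ∀ x : Over.mk (T.hom ≫ σ) ⟶ A,
      pu (transpose σ A T x) (PicMul.pullHom (pullback.fst A.hom σ) c) = PicMul.pullHom x.left c := fun x => by
    show PicF.pullCl _ (PicF.pullCl _ c) = PicF.pullCl x.left c
    rw [PicClLib.pullCl_comp, transpose_left]
  rw [← map_mul (transpose σ A T), key, key, key]
  exact hc (Over.mk (T.hom ≫ σ)) a b

/-- An additive class is translation invariant. -/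
theorem IsAdd.pl_tr {e : PicF.Cl A.left} (he : IsAdd e) (hei : PicF.IsInvertibleCl e)
    (a : 𝟙_ (Over (Spec (CommRingCat.of k))) ⟶ A) : pl (tr a) e = e := by
  refine (he A (𝟙 A) (toUnit A ≫ a)).trans ?_
  rw [show pu (toUnit A ≫ a) e = 1 from pl_const hei a, pu_id, _root_.mul_one]

/-- Ampleness only depends on the class modulo additive classes. -/
theorem isAmple_tensor_of_isAdd {L N : A.left.Modules} (hL : CohB1.IsAmple L) (hN : PicF.IsInvertible N)
    (hadd : IsAdd (PicF.cl N)) : CohB1.IsAmple (CohB1.tensorMod L N) := by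
  let σ := fieldMap (k := k) (AlgebraicClosure k)
  let π := pullback.fst A.hom σ
  letI : A.left.Over (Spec (CommRingCat.of k)) := ⟨A.hom⟩
  haveI : IsProper (A.left ↘ Spec (CommRingCat.of k)) := ‹IsProper A.hom›
  letI : (AVIdx.geo A).left.Over (Spec (CommRingCat.of (AlgebraicClosure k))) := ⟨(AVIdx.geo A).hom⟩
  haveI : IsProper (AVIdx.geo A).hom := inferInstanceAs (IsProper (pullback.snd A.hom σ))
  haveI : GeometricallyIntegral (AVIdx.geo A).hom := inferInstanceAs (GeometricallyIntegral (pullback.snd A.hom σ))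
  haveI : IsIntegral (AVIdx.geo A).left := GeometricallyIntegral.isIntegral_of_subsingleton (AVIdx.geo A).hom
  have hLN := PicMul.isInvertible_tensor hL.1 hN
  refine AVProj.isAmple_of_baseChange A.hom (AlgebraicClosure k) _ hLN ?_
  have hL' : CohB1.IsAmple ((Scheme.Modules.pullback π).obj L) :=
    ShStabX.isAmple_bc k (AlgebraicClosure k) π (IsPullback.of_hasPullback _ _) hL
  obtain ⟨z⟩ : Nonempty (AVIdx.geo A).left := inferInstance
  obtain ⟨n, s, hzs, -⟩ := hL'.2.2 z
  have hL'' := AmpleX.isAmple_tensorPow hL' n.succ_pos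
  have hfin : Set.Finite {a : 𝟙_ (Over (Spec (CommRingCat.of (AlgebraicClosure k)))) ⟶ AVIdx.geo A |
      pl (tr a) (PicF.cl ((Scheme.Modules.pullback π).obj L)) = PicF.cl ((Scheme.Modules.pullback π).obj L)} :=
    (AVSupp.finite_fixing_of_isAmple hL'' (s := InvX.one s) (AVProj.ne_zero_of_mem_locus (x := z) (by
      show z ∈ CohB1.genLocus _ (InvX.ofSect (InvX.one s))
      rwa [AVAmple.ofSect_one]))).subset fun a ha => by
        show pl _ (PicF.cl (CohB1.tensorPow _ (n + 1))) = _
        rw [PicMul.cl_tensorPow, map_pow]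
        exact congrArg (· ^ (n + 1)) ha
  have hNi : PicF.IsInvertibleCl (PicMul.pullHom π (PicF.cl N)) := ⟨_, rfl, PicClLib.isInvertible_pullback π hN⟩
  obtain ⟨x, hx⟩ := AVPhi.exists_translate_eq (A := AVIdx.geo A) ⟨_, rfl, hL'.1⟩ hNi hfin (hadd.geo.pl_tr hNi)
  haveI : IsAffineHom (tr x).left := by
    haveI := AVAmple.isIso_tr x
    infer_instance
  haveI : CompactSpace (AVIdx.geo A).left := hL'.2.1
  refine AmpleX.isAmple_of_iso (PicMul.cl_eq_iff.1 ?_).some (ShStabX.isAmple_pullback_affine (tr x).left hL')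
  show pl (tr x) (PicF.cl ((Scheme.Modules.pullback π).obj L)) = PicMul.pullHom π (PicF.cl (CohB1.tensorMod L N))
  rw [hx, PicMul.cl_tensor, map_mul]
  rfl

end Groth.Agent.AVIdx
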