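import Groth.Agent.AVIdx.LerayCorner
import Groth.Agent.AVPhi.Main
import Groth.Agent.Snapper.DimVanish

/-!
Non-vanishing of the cohomology of external products of invertible modules.
-/

set_option linter.style.haveILetI false
set_option linter.unusedSectionVars false
set_option backward.isDefEq.respectTransparency false
set_option backward.isDefEq.respectTransparency.types false
set_option autoImplicit false

universe u

open CategoryTheory CategoryTheory.Limits MonoidalCategory CartesianMonoidalCategory MonObj AlgebraicGeometry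
open TopologicalSpace

namespace Groth.Agent.AVIdx

open Groth.Agent Groth.Agent.H23 Groth.Agent.H23.TrivBasic Groth.Agent.InvX Groth.Agent.AVPair
open scoped Groth.Agent.H23.PicMul

/-- Finite coproducts of an acyclic module are acyclic, and conversely in positive number. -/
theorem subsingleton_HH_sigma_iff {X : Scheme.{u}} (M : X.Modules) (m a : ℕ) :
    Subsingleton (Coh.HH X (∐ fun _ : Fin m => M) a) ↔ m = 0 ∨ Subsingleton (Coh.HH X M a) := by
  classical
  haveI := QCoh.hasFiniteBiproducts X
  let G := QCoh.toAbFunctor X ⋙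
    Sheaf.functorH.{u, u, u, u} (Opens.grothendieckTopology X) a
  have hG : ∀ N : X.Modules, Subsingleton (Coh.HH X N a) ↔ IsZero (G.obj N) := fun N =>
    ⟨fun h => haveI : Subsingleton (G.obj N) := h; AddCommGrpCat.isZero_of_subsingleton _,
      fun h => AddCommGrpCat.subsingleton_of_isZero h⟩
  haveI : G.Additive := inferInstance
  rw [hG, hG]
  let b := (biproduct.isoCoproduct fun _ : Fin m => M)
  constructor
  · intro h
    rcases Nat.eq_zero_or_pos m with hm | hm
    · exact Or.inl hm
    refine Or.inr ((IsZero.iff_id_eq_zero _).2 ?_)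
    have e : Sigma.ι (fun _ : Fin m => M) ⟨0, hm⟩ ≫ (Sigma.desc fun _ : Fin m => 𝟙 M) = 𝟙 M := Sigma.ι_desc _ _
    rw [← G.map_id, ← e, G.map_comp, h.eq_of_tgt (G.map _) 0, zero_comp]
  · intro h
    rw [IsZero.iff_id_eq_zero, ← G.map_id]
    have hid : 𝟙 (∐ fun _ : Fin m => M) =
        ∑ j, (b.inv ≫ biproduct.π (fun _ : Fin m => M) j) ≫ (biproduct.ι (fun _ : Fin m => M) j ≫ b.hom) := by
      calc 𝟙 (∐ fun _ : Fin m => M) = b.inv ≫ 𝟙 (⨁ fun _ : Fin m => M) ≫ b.hom := by simp
        _ = _ := by
          rw [← biproduct.total (f := fun _ : Fin m => M), Preadditive.sum_comp, Preadditive.comp_sum]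
          exact Finset.sum_congr rfl fun j _ => by simp only [Category.assoc]
    rw [hid, G.map_sum]
    refine Finset.sum_eq_zero fun j _ => ?_
    rcases h with h | h
    · exact (h ▸ j : Fin 0).elim0
    · rw [G.map_comp, h.eq_of_tgt (G.map (b.inv ≫ biproduct.π _ j)) 0, zero_comp]

variable {k : Type u} [Field k] (X Y : Over (Spec (CommRingCat.of k))) [IsProper X.hom] [IsProper Y.hom]
  [Nonempty Y.left]

/-- The direct images of an external product are multiples of the second factor. -/
theorem exists_Rpush_box [HasInjectiveResolutions (X ⊗ Y).left.Modules] {L : X.left.Modules} (hL : PicF.IsInvertible L)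
    {M : Y.left.Modules} (hM : PicF.IsInvertible M) (j : ℕ) :
    ∃ m : ℕ, (m = 0 ↔ Subsingleton (Coh.HH X.left L j)) ∧
      Nonempty ((Coh.Rpush (snd X Y).left j).obj (CohB1.tensorMod ((Scheme.Modules.pullback (snd X Y).left).obj M)
        ((Scheme.Modules.pullback (fst X Y).left).obj L)) ≅ ∐ fun _ : Fin m => M) := by
  haveI : IsLocallyNoetherian X.left := LocallyOfFiniteType.isLocallyNoetherian X.hom
  haveI : CompactSpace X.left := QuasiCompact.compactSpace_of_compactSpace X.hom
  haveI : AlgebraicGeometry.IsNoetherian X.left := { }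
  haveI : HasInjectiveResolutions X.left.Modules := KFlatLib.hasInjectiveResolutions_modules
  haveI : Subsingleton ↥(Spec (CommRingCat.of k)) := inferInstanceAs (Subsingleton (PrimeSpectrum k))
  haveI : Nonempty ↥(Spec (CommRingCat.of k)) := inferInstanceAs (Nonempty (PrimeSpectrum k))
  let p₂ := (snd X Y).left
  let p₁ := (fst X Y).left
  let V := (Coh.Rpush X.hom j).obj L
  have hLq : Coh.IsQCoh L := ProjUPX.isQCoh_of_isInvertible hL
  haveI := hLq
  obtain ⟨eQ⟩ := Groth.Agent.S0033.result X.hom Y.hom p₁ p₂ (IsPullback.of_hasPullback X.hom Y.hom) L j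
  have hV : Coh.IsCoh V := VarBase.isCoh_Rpush X.hom (CurveDeg.isCoh_of_isInvertible hL) j
  have htop : IsAffineOpen (⊤ : (Spec (CommRingCat.of k)).Opens) := isAffineOpen_top _
  have hVf : FlatMod.IsFinLocFree V := QCoh.isFlat_and_isFP_iff.1 ⟨fun x =>
    (QCoh.flat_sections_iff hV.1 htop).1 (by
      letI := ((Scheme.ΓSpecIso (CommRingCat.of k)).commRingCatIsoToRingEquiv.toMulEquiv.isField
        (Field.toIsField k)).toField
      infer_instance) x trivial, KZ.LFRes.isFP_of_isCoh hV⟩
  obtain ⟨m, ⟨eV⟩⟩ := AVPhi.exists_iso_freeMod hVf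
  refine ⟨m, ?_, ?_⟩
  · obtain ⟨eH⟩ := QCoh.nonempty_sections_HH (f := X.hom) hLq htop j
    let jι := (X.hom ⁻¹ᵁ (⊤ : (Spec (CommRingCat.of k)).Opens)).ι
    haveI : IsIso jι := inferInstanceAs (IsIso X.left.topIso.hom)
    haveI : IsIso ((Scheme.Modules.restrictAdjunction jι).unit.app L) := by
      refine Scheme.Modules.Hom.isIso_iff_isIso_app.2 fun U => ?_
      rw [Scheme.Modules.restrictAdjunction_unit_app_app]
      haveI : IsIso (homOfLE (jι.image_preimage_le U)) := by
        have he : jι ''ᵁ jι ⁻¹ᵁ U = U := by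
          rw [Scheme.Hom.image_preimage_eq_opensRange_inf, Scheme.Hom.opensRange_of_isIso, top_inf_eq]
        exact ⟨eqToHom he.symm, Subsingleton.elim _ _, Subsingleton.elim _ _⟩
      infer_instance
    obtain ⟨eA⟩ := QCoh.HH_push_of_isAffineHom jι (QCoh.isQCoh_restrict jι hLq) j
    let u := asIso ((Scheme.Modules.restrictAdjunction jι).unit.app L)
    constructor
    · intro hm
      subst hm
      haveI : Subsingleton Γ(V, ⊤) := QCoh.subsingleton_Γ_of_isZero
        (IsZero.of_iso (QCoh.isZero_freeMod_zero' _) eV) ⊤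
      haveI : Subsingleton (Coh.HH (X.hom ⁻¹ᵁ ⊤).toScheme (L.restrict jι) j) := eH.symm.toEquiv.subsingleton
      exact QCoh.subsingleton_HH_of_iso u.symm j eA.symm.toEquiv.subsingleton
    · intro h
      haveI : Subsingleton Γ(V, ⊤) := by
        haveI : Subsingleton (Coh.HH (X.hom ⁻¹ᵁ ⊤).toScheme (L.restrict jι) j) :=
          @Equiv.subsingleton _ _ eA.toEquiv (QCoh.subsingleton_HH_of_iso u j h)
        exact eH.toEquiv.subsingleton
      refine AVPhi.eq_zero_of_isZero_freeMod inferInstance (IsZero.of_iso ?_ eV.symm)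
      exact AVPhi.isZero_of_finite_of_sections (T := Set.univ) Set.finite_univ
        (fun x _ => by rw [Set.subsingleton_univ.eq_singleton_of_mem (Set.mem_univ x) |>.symm]; exact isClosed_univ)
        (fun x hx => absurd (Set.mem_univ x) hx) inferInstance
  · let F := Scheme.Modules.pullback Y.hom
    have eF : (Coh.Rpush p₂ j).obj ((Scheme.Modules.pullback p₁).obj L) ≅ FlatMod.freeMod Y.left m :=
      eQ.symm ≪≫ F.mapIso eV ≪≫ PreservesCoproduct.iso F _ ≪≫
        Sigma.mapIso (fun _ => (PicClLib.nonempty_pullback_structureModule Y.hom).some)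
    obtain ⟨eT⟩ := Groth.Agent.S0927.result p₂ ((Scheme.Modules.pullback p₁).obj L) M
      (fun y => let ⟨U, hy, he⟩ := InvEnd.isFinLocFreeOfRank_one hM y; ⟨U, 1, hy, he⟩) j
    haveI := AVSupp.isEquivalence_tensorRightMod hM
    let T := DCoh.tensorRightMod M
    refine ⟨eT.symm ≪≫ (PicMul.comm M _).some ≪≫ T.mapIso eF ≪≫ PreservesCoproduct.iso T _ ≪≫
      Sigma.mapIso fun _ => (PicMul.comm (Coh.structureModule Y.left) M).some ≪≫ (KFlatLib.tensorStructureIso Y.left).app M⟩

/-- An external product with cohomology in a single degree comes from factors with cohomology in single degrees. -/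
theorem concentrated_of_box {g d e : ℕ} (hdX : topologicalKrullDim X.left ≤ d) (hdY : topologicalKrullDim Y.left ≤ e)
    {L : X.left.Modules} (hL : PicF.IsInvertible L) {M : Y.left.Modules} (hM : PicF.IsInvertible M)
    (hX : ∃ p, ¬ Subsingleton (Coh.HH X.left L p)) (hY : ∃ q, ¬ Subsingleton (Coh.HH Y.left M q))
    (hK : ∀ n, n ≠ g → Subsingleton (Coh.HH (X ⊗ Y).left (CohB1.tensorMod
      ((Scheme.Modules.pullback (snd X Y).left).obj M) ((Scheme.Modules.pullback (fst X Y).left).obj L)) n)) :
    ∃ p q, p + q = g ∧ p ≤ d ∧ q ≤ e ∧ ¬ Subsingleton (Coh.HH X.left L p) ∧ ¬ Subsingleton (Coh.HH Y.left M q) ∧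
      (∀ j, j ≠ p → Subsingleton (Coh.HH X.left L j)) ∧ (∀ j, j ≠ q → Subsingleton (Coh.HH Y.left M j)) := by
  classical
  haveI : IsLocallyNoetherian X.left := LocallyOfFiniteType.isLocallyNoetherian X.hom
  haveI : CompactSpace X.left := QuasiCompact.compactSpace_of_compactSpace X.hom
  haveI : AlgebraicGeometry.IsNoetherian X.left := { }
  haveI : IsLocallyNoetherian Y.left := LocallyOfFiniteType.isLocallyNoetherian Y.hom
  haveI : CompactSpace Y.left := QuasiCompact.compactSpace_of_compactSpace Y.hom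
  haveI : AlgebraicGeometry.IsNoetherian Y.left := { }
  haveI : X.left.IsSeparated := ⟨by rw [← Limits.terminal.comp_from X.hom]; infer_instance⟩
  haveI : Y.left.IsSeparated := ⟨by rw [← Limits.terminal.comp_from Y.hom]; infer_instance⟩
  haveI : IsProper (snd X Y).left := inferInstanceAs (IsProper (pullback.snd X.hom Y.hom))
  haveI : IsLocallyNoetherian (X ⊗ Y).left := LocallyOfFiniteType.isLocallyNoetherian (snd X Y).left
  haveI : HasInjectiveResolutions (X ⊗ Y).left.Modules := KFlatLib.hasInjectiveResolutions_modules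
  let K := CohB1.tensorMod ((Scheme.Modules.pullback (snd X Y).left).obj M) ((Scheme.Modules.pullback (fst X Y).left).obj L)
  have hbX : ∀ j, d < j → Subsingleton (Coh.HH X.left L j) := fun j hj =>
    Snapper.subsingleton_HH_of_dim_le hdX (ProjUPX.isQCoh_of_isInvertible hL) hj
  have hbY : ∀ j, e < j → Subsingleton (Coh.HH Y.left M j) := fun j hj =>
    Snapper.subsingleton_HH_of_dim_le hdY (ProjUPX.isQCoh_of_isInvertible hM) hj
  have hterm : ∀ a b, Subsingleton (Coh.HH Y.left ((Coh.Rpush (snd X Y).left b).obj K) a) ↔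
      (Subsingleton (Coh.HH X.left L b) ∨ Subsingleton (Coh.HH Y.left M a)) := fun a b => by
    obtain ⟨m, hm, ⟨e'⟩⟩ := exists_Rpush_box X Y hL hM b
    rw [← hm, ← subsingleton_HH_sigma_iff]
    exact ⟨QCoh.subsingleton_HH_of_iso e' a, QCoh.subsingleton_HH_of_iso e'.symm a⟩
  let P : ℕ → Prop := fun p => ¬ Subsingleton (Coh.HH X.left L p)
  let P' : ℕ → Prop := fun q => ¬ Subsingleton (Coh.HH Y.left M q)
  have hPd : ∀ p, P p → p ≤ d := fun p hp => not_lt.1 fun h => hp (hbX p h)
  have hPe : ∀ p, P' p → p ≤ e := fun p hp => not_lt.1 fun h => hp (hbY p h)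
  let p₀ := Nat.find hX
  let q₀ := Nat.find hY
  let p₁ := Nat.findGreatest P d
  let q₁ := Nat.findGreatest P' e
  have h0 : P p₀ := Nat.find_spec hX
  have h0' : P' q₀ := Nat.find_spec hY
  have h1 : P p₁ := Nat.findGreatest_spec (hPd p₀ h0) h0
  have h1' : P' q₁ := Nat.findGreatest_spec (hPe q₀ h0') h0'
  have hlo : ∀ j, j < p₀ → Subsingleton (Coh.HH X.left L j) := fun j hj => not_not.1 (Nat.find_min hX hj)
  have hlo' : ∀ j, j < q₀ → Subsingleton (Coh.HH Y.left M j) := fun j hj => not_not.1 (Nat.find_min hY hj)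
  have hhi : ∀ j, p₁ < j → Subsingleton (Coh.HH X.left L j) := fun j hj => not_not.1 fun h =>
    absurd (Nat.le_findGreatest (hPd j h) h) (not_le.2 hj)
  have hhi' : ∀ j, q₁ < j → Subsingleton (Coh.HH Y.left M j) := fun j hj => not_not.1 fun h =>
    absurd (Nat.le_findGreatest (hPe j h) h) (not_le.2 hj)
  have hbot : p₀ + q₀ = g := by
    by_contra hne
    refine ((hterm q₀ p₀).1 (subsingleton_term_of_HH (snd X Y).left _ p₀ q₀ K rfl (hK _ hne)
      (fun a b hab hb => (hterm a b).2 (Or.inr (hlo' a (by omega))))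
      (fun a b hab hb => (hterm a b).2 (Or.inl (hlo b hb))))).elim h0 h0'
  have htop : p₁ + q₁ = g := by
    by_contra hne
    refine ((hterm q₁ p₁).1 (subsingleton_term_of_HH (snd X Y).left _ p₁ q₁ K rfl (hK _ hne)
      (fun a b hab hb => (hterm a b).2 (Or.inl (hhi b hb)))
      (fun a b hab hb => (hterm a b).2 (Or.inr (hhi' a (by omega)))))).elim h1 h1'
  have hp : p₀ ≤ p₁ := Nat.le_findGreatest (hPd p₀ h0) h0
  have hq : q₀ ≤ q₁ := Nat.le_findGreatest (hPe q₀ h0') h0'
  refine ⟨p₀, q₀, hbot, hPd p₀ h0, hPe q₀ h0', h0, h0', fun j hj => ?_, fun j hj => ?_⟩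
  · rcases lt_or_gt_of_ne hj with h | h
    · exact hlo j h
    · exact hhi j (by omega)
  · rcases lt_or_gt_of_ne hj with h | h
    · exact hlo' j h
    · exact hhi' j (by omega)

end Groth.Agent.AVIdx
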