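import Groth.Agent.Snapper.Multi
import Groth.Agent.CurveCohLib.Euler
import Groth.Agent.CurveCohLib.Proper

/-!
The cohomology of the twists of a coherent module grows at most like the power given by the dimension of
the support.
-/

noncomputable section

set_option linter.style.haveILetI false
set_option linter.unusedSectionVars false
set_option backward.isDefEq.respectTransparency false
set_option backward.isDefEq.respectTransparency.types false
set_option autoImplicit false

universe u

open CategoryTheory CategoryTheory.Limits AlgebraicGeometry TopologicalSpace Opposite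
open Groth.Agent.PnCoh.Finite (mapLin deltaLin)

namespace Groth.Agent.AVIdx

open Groth.Agent

variable {r : ℕ}

/-- Growth less than the `d`-th power of the size. -/
def IsBdd : ℕ → ((Fin r → ℕ) → ℕ) → Prop
  | 0, f => ∀ n, f n = 0
  | d + 1, f => ∃ C, ∀ n, f n ≤ C * (∑ i, n i + 1) ^ d

theorem IsBdd.mono {d : ℕ} {f g : (Fin r → ℕ) → ℕ} (h : IsBdd d f) (e : ∀ n, g n ≤ f n) : IsBdd d g :=
  match d, h with
  | 0, h => fun n => Nat.le_zero.1 ((e n).trans (h n).le)
  | _ + 1, ⟨C, hC⟩ => ⟨C, fun n => (e n).trans (hC n)⟩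

theorem IsBdd.add {d : ℕ} {f g : (Fin r → ℕ) → ℕ} (hf : IsBdd d f) (hg : IsBdd d g) :
    IsBdd d fun n => f n + g n :=
  match d, hf, hg with
  | 0, hf, hg => fun n => by show f n + g n = 0; rw [hf n, hg n]
  | _ + 1, ⟨C, hC⟩, ⟨D, hD⟩ => ⟨C + D, fun n => by rw [add_mul]; exact Nat.add_le_add (hC n) (hD n)⟩

/-- Increments of growth less than `d` give growth less than `d + 1`. -/
theorem isBdd_succ_of_incr {d : ℕ} {f : (Fin r → ℕ) → ℕ}
    (h : ∀ i, ∃ b, IsBdd d b ∧ ∀ n, f (Function.update n i (n i + 1)) ≤ f n + b n) : IsBdd (d + 1) f := by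
  classical
  choose b hb hfb using h
  have hB : IsBdd d fun n => ∑ i, b i n := by
    refine (Finset.sum_induction (s := Finset.univ) b (IsBdd d) (fun _ _ ha hc => ha.add hc) ?_
      (fun i _ => hb i)).mono fun n => ?_
    · match d with
      | 0 => exact fun n => rfl
      | _ + 1 => exact ⟨0, fun n => by simp⟩
    · rw [Finset.sum_apply]
  match d, hB with
  | 0, hB =>
    refine ⟨f 0, ?_⟩
    suffices H : ∀ s (n : Fin r → ℕ), ∑ i, n i = s → f n ≤ f 0 from fun n => by simpa using H _ n rfl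
    intro s
    induction s with
    | zero => exact fun n hn => (congrArg f (funext fun i => by simpa using
        (Finset.sum_eq_zero_iff.1 hn i (Finset.mem_univ i)))).le
    | succ s ih =>
      intro n hn
      obtain ⟨i, -, hi⟩ := Finset.exists_ne_zero_of_sum_ne_zero (hn.trans_ne (Nat.succ_ne_zero s))
      let m := Function.update n i (n i - 1)
      have hm : Function.update m i (m i + 1) = n := by
        simp [m, Nat.sub_add_cancel (Nat.pos_of_ne_zero hi)]
      have hms : ∑ j, m j = s := by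
        rw [Finset.sum_update_of_mem (Finset.mem_univ i)]
        rw [← Finset.add_sum_erase _ _ (Finset.mem_univ i), Finset.erase_eq] at hn
        omega
      have hz := Finset.sum_eq_zero_iff.1 (hB m) i (Finset.mem_univ i)
      have h1 := hfb i m
      rw [hm, hz, add_zero] at h1
      exact h1.trans (ih m hms)
  | d + 1, ⟨C, hC⟩ =>
    refine ⟨f 0 + C, fun n => ?_⟩
    suffices H : ∀ s (n : Fin r → ℕ), ∑ i, n i = s → f n ≤ f 0 + C * (s * (s + 1) ^ d) by
      refine (H _ n rfl).trans ?_
      rw [add_mul]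
      refine Nat.add_le_add (Nat.le_mul_of_pos_right _ (pow_pos (Nat.succ_pos _) _)) (Nat.mul_le_mul_left _ ?_)
      rw [pow_succ', add_mul, one_mul]
      exact Nat.le_add_right _ _
    intro s
    induction s with
    | zero =>
      intro m hm
      rw [show m = 0 from funext fun i => by simpa using (Finset.sum_eq_zero_iff.1 hm i (Finset.mem_univ i))]
      exact Nat.le_add_right _ _
    | succ s ih =>
      intro n hn
      obtain ⟨i, -, hi⟩ := Finset.exists_ne_zero_of_sum_ne_zero (hn.trans_ne (Nat.succ_ne_zero s))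
      let m := Function.update n i (n i - 1)
      have hm : Function.update m i (m i + 1) = n := by
        simp [m, Nat.sub_add_cancel (Nat.pos_of_ne_zero hi)]
      have hms : ∑ j, m j = s := by
        rw [Finset.sum_update_of_mem (Finset.mem_univ i)]
        rw [← Finset.add_sum_erase _ _ (Finset.mem_univ i), Finset.erase_eq] at hn
        omega
      have h1 := hfb i m
      rw [hm] at h1
      have h2 : b i m ≤ C * (s + 1) ^ d := by
        refine le_trans ?_ ((hC m).trans (le_of_eq (by rw [hms])))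
        exact Finset.single_le_sum (f := fun j => b j m) (fun _ _ => Nat.zero_le _) (Finset.mem_univ i)
      refine h1.trans ((Nat.add_le_add (ih m hms) h2).trans ?_)
      rw [add_assoc, ← Nat.mul_add, show s * (s + 1) ^ d + (s + 1) ^ d = (s + 1) * (s + 1) ^ d by ring]
      gcongr <;> omega

variable (k : Type u) [Field k] {X : Scheme.{u}} [X.Over (Spec (CommRingCat.of k))]
  [IsProper (X ↘ Spec (CommRingCat.of k))]

/-- The total dimension of cohomology. -/
def hTot (M : X.Modules) : ℕ := ∑ᶠ i : ℕ, Module.finrank k (Coh.HH X M i)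

theorem finite_support_finrank {M : X.Modules} (hM : Coh.IsCoh M) :
    (Function.support fun i => Module.finrank k (Coh.HH X M i)).Finite := by
  haveI : CompactSpace X := QuasiCompact.compactSpace_of_compactSpace (X ↘ Spec (CommRingCat.of k))
  haveI := CurveCohLib.isNoetherian_of_proper (k := k) (X := X)
  obtain ⟨N, hN⟩ := QCoh.exists_HH_bound (X := X)
  refine (Set.finite_Iio N).subset fun i hi => ?_
  by_contra h
  haveI := hN M hM.1 i (not_lt.1 h)
  exact hi Module.finrank_zero_of_subsingleton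

theorem finrank_le_hTot {M : X.Modules} (hM : Coh.IsCoh M) (i : ℕ) :
    Module.finrank k (Coh.HH X M i) ≤ hTot k M :=
  single_le_finsum i (finite_support_finrank k hM) fun _ => Nat.zero_le _

theorem hTot_congr {M N : X.Modules} (e : M ≅ N) : hTot k M = hTot k N := by
  refine finsum_congr fun i => ?_
  exact (CurveCohLib.hhEquiv (k := k) e i).finrank_eq

/-- The three inequalities of a short exact sequence. -/
theorem hTot_triangle {S : ShortComplex X.Modules} (hS : S.ShortExact)
    (h1 : Coh.IsCoh S.X₁) (h2 : Coh.IsCoh S.X₂) (h3 : Coh.IsCoh S.X₃) :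
    hTot k S.X₂ ≤ hTot k S.X₁ + hTot k S.X₃ ∧ hTot k S.X₁ ≤ hTot k S.X₂ + hTot k S.X₃ ∧
      hTot k S.X₃ ≤ hTot k S.X₁ + hTot k S.X₂ := by
  haveI := CurveCohLib.isNoetherian_of_proper (k := k) (X := X)
  have := fun n => CurveCohLib.finite_HH (k := k) h1 n
  have := fun n => CurveCohLib.finite_HH (k := k) h2 n
  have := fun n => CurveCohLib.finite_HH (k := k) h3 n
  obtain ⟨N, hN⟩ : ∃ N, ∀ M : X.Modules, Coh.IsCoh M → ∀ i, N ≤ i → Subsingleton (Coh.HH X M i) := by
    haveI : CompactSpace X := QuasiCompact.compactSpace_of_compactSpace (X ↘ Spec (CommRingCat.of k))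
    obtain ⟨N, hN⟩ := QCoh.exists_HH_bound (X := X)
    exact ⟨N, fun M hM => hN M hM.1⟩
  have hsum : ∀ {M : X.Modules}, Coh.IsCoh M → ∀ N', N ≤ N' →
      hTot k M = ∑ i ∈ Finset.range N', Module.finrank k (Coh.HH X M i) := fun hM N' hle => by
    refine finsum_eq_sum_of_support_subset _ fun i hi => ?_
    by_contra h
    haveI := hN _ hM i (hle.trans (by simpa using h))
    exact hi Module.finrank_zero_of_subsingleton
  let φ := fun n => mapLin k S.f n
  let ψ := fun n => mapLin k S.g n
  have e1 := fun n => LinearMap.finrank_range_add_finrank_ker (φ n)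
  have e2 : ∀ n, Module.finrank k (LinearMap.range (ψ n)) + Module.finrank k (LinearMap.range (φ n)) =
      Module.finrank k (Coh.HH X S.X₂ n) := fun n => by
    rw [← CurveCohLib.ker_mapLin_g k hS n]
    exact LinearMap.finrank_range_add_finrank_ker (ψ n)
  have e3 : ∀ n, Module.finrank k (LinearMap.ker (φ (n + 1))) + Module.finrank k (LinearMap.range (ψ n)) =
      Module.finrank k (Coh.HH X S.X₃ n) := fun n => by
    have := LinearMap.finrank_range_add_finrank_ker (deltaLin k hS n)
    rwa [CurveCohLib.ker_deltaLin k hS n, ← CurveCohLib.ker_mapLin_f_succ k hS n] at this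
  have hd0 : Module.finrank k (LinearMap.ker (φ 0)) = 0 := by
    rw [LinearMap.ker_eq_bot.2 (CurveCohLib.mapLin_f_zero_injective k hS), finrank_bot]
  have hdN : Module.finrank k (LinearMap.ker (φ N)) = 0 := by
    haveI := hN _ h1 N le_rfl
    exact Module.finrank_zero_of_subsingleton
  have hsh := Finset.sum_range_succ' (fun n => Module.finrank k (LinearMap.ker (φ n))) N
  rw [Finset.sum_range_succ, hdN, hd0] at hsh
  have s1 := Finset.sum_congr (s₁ := Finset.range N) rfl fun n _ => e1 n
  have s2 := Finset.sum_congr (s₁ := Finset.range N) rfl fun n _ => e2 n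
  have s3 := Finset.sum_congr (s₁ := Finset.range N) rfl fun n _ => e3 n
  simp only [Finset.sum_add_distrib] at s1 s2 s3
  rw [hsum h1 N le_rfl, hsum h2 N le_rfl, hsum h3 N le_rfl]
  omega

/-- The totals of the iterated twists. -/
def hs (L : Fin r → X.Modules) (M : X.Modules) : (Fin r → ℕ) → ℕ :=
  fun n => hTot k (Curv2.tensorPows M r L n)

variable {L : Fin r → X.Modules}

theorem hs_congr {A B : X.Modules} (e : A ≅ B) (n : Fin r → ℕ) : hs k L A n = hs k L B n :=
  hTot_congr k (Snapper.tensorPows_congr L n e).some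

theorem hs_triangle (hL : ∀ i, PicF.IsInvertible (L i)) {S : ShortComplex X.Modules} (hS : S.ShortExact)
    (h1 : Coh.IsCoh S.X₁) (h2 : Coh.IsCoh S.X₂) (h3 : Coh.IsCoh S.X₃) (n : Fin r → ℕ) :
    hs k L S.X₂ n ≤ hs k L S.X₁ n + hs k L S.X₃ n ∧ hs k L S.X₁ n ≤ hs k L S.X₂ n + hs k L S.X₃ n ∧
      hs k L S.X₃ n ≤ hs k L S.X₁ n + hs k L S.X₂ n := by
  haveI := CurveCohLib.isNoetherian_of_proper (k := k) (X := X)
  obtain ⟨hA, hB, hC, f, g, w, hS'⟩ := Snapper.cohSES_tensorPows L hL n ⟨h1, h2, h3, S.f, S.g, S.zero, hS⟩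
  exact hTot_triangle k (S := ShortComplex.mk f g w) hS' hA hB hC

theorem hs_eq_zero (hL : ∀ i, PicF.IsInvertible (L i)) {M : X.Modules} (hM : Coh.IsCoh M)
    (h : CohB1.support M = ∅) (n : Fin r → ℕ) : hs k L M n = 0 := by
  haveI := CurveCohLib.isNoetherian_of_proper (k := k) (X := X)
  have hT := Snapper.isCoh_tensorPows L hL n hM
  have hz : IsZero (Curv2.tensorPows M r L n) := QCoh.isZero_of_app_eq_zero hT.1 fun W s =>
    TopCat.Presheaf.section_ext ⟨(Curv2.tensorPows M r L n).presheaf, (Curv2.tensorPows M r L n).isSheaf⟩ _ _ _ fun y hy => by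
      haveI : Subsingleton ((Curv2.tensorPows M r L n).presheaf.stalk y) :=
        not_not.1 fun hy' => h.le (Snapper.support_tensorPows_subset L hL n hM hy')
      exact Subsingleton.elim _ _
  refine finsum_eq_zero_of_forall_eq_zero fun i => ?_
  haveI := Euler.subsingleton_HH_of_isZero hz i
  exact Module.finrank_zero_of_subsingleton

theorem hs_le_of_map (hL : ∀ i, PicF.IsInvertible (L i)) {A B : X.Modules} (hA : Coh.IsCoh A) (hB : Coh.IsCoh B)
    (φ : A ⟶ B) (n : Fin r → ℕ) :
    hs k L A n ≤ hs k L B n + (hs k L (kernel φ) n + hs k L (cokernel φ) n) ∧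
      hs k L B n ≤ hs k L A n + (hs k L (kernel φ) n + hs k L (cokernel φ) n) := by
  haveI := CurveCohLib.isNoetherian_of_proper (k := k) (X := X)
  have hK := QCoh.isCoh_kernel hA hB φ
  have hC := QCoh.isCoh_cokernel hA.1 hB φ
  have hI : Coh.IsCoh (Abelian.image φ) :=
    QCoh.isCoh_of_epi (Abelian.factorThruImage φ) hA (QCoh.isQCoh_kernel hB.1 hC.1 _)
  obtain ⟨a1, a2, a3⟩ := hs_triangle k hL (S := ShortComplex.mk (kernel.ι φ) (Abelian.factorThruImage φ)
      ((cancel_mono (Abelian.image.ι φ)).1 (by rw [Category.assoc, Abelian.image.fac, kernel.condition, zero_comp])))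
    { exact := ShortComplex.exact_of_f_is_kernel _ (KernelFork.IsLimit.ofι' _ _ fun {T} t ht =>
        ⟨kernel.lift φ t (by rw [← Abelian.image.fac φ, reassoc_of% ht, zero_comp]), kernel.lift_ι _ _ _⟩)
      mono_f := inferInstance
      epi_g := inferInstance } hK hA hI n
  obtain ⟨b1, b2, b3⟩ := hs_triangle k hL (S := ShortComplex.mk (Abelian.image.ι φ) (cokernel.π φ) (kernel.condition _))
    { exact := ShortComplex.exact_of_f_is_kernel _ (kernelIsKernel (cokernel.π φ))
      mono_f := inferInstance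
      epi_g := inferInstance } hI hB hC n
  dsimp only at a1 a2 a3 b1 b2 b3
  omega

theorem exists_bdd_of_isoOn (hL : ∀ i, PicF.IsInvertible (L i)) {d : ℕ} {C : Set X} {U : X.Opens}
    (IH : ∀ M : X.Modules, Coh.IsCoh M → CohB1.support M ⊆ C \ U → IsBdd d (hs k L M))
    {A B : X.Modules} (hA : Coh.IsCoh A) (hB : Coh.IsCoh B) (hAC : CohB1.support A ⊆ C)
    (hBC : CohB1.support B ⊆ C) (φ : A ⟶ B) (hφ : Snapper.IsoOn U φ) :
    ∃ b, IsBdd d b ∧ ∀ n, hs k L A n ≤ hs k L B n + b n ∧ hs k L B n ≤ hs k L A n + b n := by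
  haveI := CurveCohLib.isNoetherian_of_proper (k := k) (X := X)
  obtain ⟨hk, hc⟩ := Snapper.support_subset_compl hφ
  obtain ⟨hk', hc'⟩ := Snapper.support_sub_of_map hA hB φ
  exact ⟨_, (IH _ (QCoh.isCoh_kernel hA hB φ) fun x hx => ⟨hAC (hk' hx), hk hx⟩).add
    (IH _ (QCoh.isCoh_cokernel hA.1 hB φ) fun x hx => ⟨hBC (hc' hx), hc hx⟩), hs_le_of_map k hL hA hB φ⟩

theorem exists_bdd_incr (hL : ∀ i, PicF.IsInvertible (L i)) {d : ℕ} {C : Closeds X} {U : X.Opens} (i : Fin r)
    {e : Γ(L i, U)} (he : InvX.IsFrame e)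
    (IH : ∀ M : X.Modules, Coh.IsCoh M → CohB1.support M ⊆ (C : Set X) \ U → IsBdd d (hs k L M))
    {M : X.Modules} (hM : Coh.IsCoh M) (hMC : CohB1.support M ⊆ C) :
    ∃ b, IsBdd d b ∧ ∀ n, hs k L M (Function.update n i (n i + 1)) ≤ hs k L M n + b n := by
  haveI := CurveCohLib.isNoetherian_of_proper (k := k) (X := X)
  obtain ⟨K, I, a, b, c, hK, hI, ha, hb, hc⟩ := Snapper.exists_link_frame (hL i) he
  have hLc := AmpleVan.isCoh_invertible (hL i)
  let F := AmpleVan.tw M
  have hsupp : ∀ A, CohB1.support (F.obj A) ⊆ C := fun A => fun x hx => hMC (CurveTensor.support_tensor_subset hx)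
  have hcoh : ∀ {A}, Coh.IsCoh A → Coh.IsCoh (F.obj A) := fun h => AmpleVan.isCoh_tensor h hM
  obtain ⟨b1, hb1, e1⟩ := exists_bdd_of_isoOn k hL IH (hcoh hK) (hcoh QCoh.isCoh_structureModule') (hsupp _) (hsupp _) _ (ha.tensor M)
  obtain ⟨b2, hb2, e2⟩ := exists_bdd_of_isoOn k hL IH (hcoh hK) (hcoh hI) (hsupp _) (hsupp _) _ (hb.tensor M)
  obtain ⟨b3, hb3, e3⟩ := exists_bdd_of_isoOn k hL IH (hcoh hLc) (hcoh hI) (hsupp _) (hsupp _) _ (hc.tensor M)
  refine ⟨_, (hb1.add hb2).add hb3, fun n => ?_⟩
  have h1 : hs k L (F.obj (Coh.structureModule X)) n = hs k L M n :=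
    hs_congr k (CurveTensor.structureTensorIso M) n
  have h2 : hs k L (F.obj (L i)) n = hs k L M (Function.update n i (n i + 1)) :=
    hTot_congr k ((Snapper.tensorPows_swap (L i) L n M).some ≪≫ (Snapper.tensorPows_bump L n i M).some)
  have := e1 n
  have := e2 n
  have := e3 n
  omega

theorem isBdd_of_split (hL : ∀ i, PicF.IsInvertible (L i)) {d : ℕ} {C C₁ C₂ : Closeds X}
    (hC : (C : Set X) ⊆ ↑C₁ ∪ ↑C₂)
    (h₁ : ∀ M : X.Modules, Coh.IsCoh M → CohB1.support M ⊆ C₁ → IsBdd d (hs k L M))
    (h₂ : ∀ M : X.Modules, Coh.IsCoh M → CohB1.support M ⊆ C₂ → IsBdd d (hs k L M))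
    {M : X.Modules} (hM : Coh.IsCoh M) (hMC : CohB1.support M ⊆ C) : IsBdd d (hs k L M) := by
  haveI := CurveCohLib.isNoetherian_of_proper (k := k) (X := X)
  let U : X.Opens := ⟨(C₂ : Set X)ᶜ, C₂.isClosed.isOpen_compl⟩
  let φ := Snapper.resMap U M
  have hQ : Coh.IsQCoh ((Scheme.Modules.pushforward U.ι).obj (M.restrict U.ι)) :=
    QCoh.isQCoh_pushforward U.ι (QCoh.isQCoh_restrict U.ι hM.1)
  have hco := QCoh.isQCoh_cokernel hM.1 hQ φ
  have hI : Coh.IsCoh (Abelian.image φ) :=
    QCoh.isCoh_of_epi (Abelian.factorThruImage φ) hM (QCoh.isQCoh_kernel hQ hco _)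
  have hK : Coh.IsCoh (kernel φ) := QCoh.isCoh_of_mono (kernel.ι φ) hM (QCoh.isQCoh_kernel hM.1 hQ φ)
  have e := fun n => (hs_triangle k hL
    (S := ShortComplex.mk (kernel.ι φ) (Abelian.factorThruImage φ)
      ((cancel_mono (Abelian.image.ι φ)).1 (by rw [Category.assoc, Abelian.image.fac, kernel.condition, zero_comp])))
    { exact := ShortComplex.exact_of_f_is_kernel _ (KernelFork.IsLimit.ofι' _ _ fun {T} t ht =>
        ⟨kernel.lift φ t (by rw [← Abelian.image.fac φ, reassoc_of% ht, zero_comp]), kernel.lift_ι _ _ _⟩)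
      mono_f := inferInstance
      epi_g := inferInstance } hK hM hI n).1
  refine ((h₂ _ hK fun x hx => ?_).add (h₁ _ hI fun x hx => ?_)).mono e
  · exact not_not.1 fun hx2 => (Snapper.support_subset_compl (Snapper.isoOn_resMap U M)).1 hx (show x ∈ U from hx2)
  · by_contra hx1
    have hP := QCoh.mem_support_of_mono hI.1 hQ (Abelian.image.ι φ) hx
    refine Snapper.notMem_support_push (W := ⟨(C₁ : Set X)ᶜ, C₁.isClosed.isOpen_compl⟩) hx1 ?_ hP
    exact Set.disjoint_left.2 fun y hy hyM => (hC (hMC hyM)).elim hy.1 hy.2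

/-- The cohomology of the twists of a module supported in dimension less than `d` grows less than the `d`-th power. -/
theorem isBdd_of_dim_lt (hL : ∀ i, PicF.IsInvertible (L i)) (d : ℕ) :
    ∀ (C : Closeds X), topologicalKrullDim ↥(C : Set X) < (d : WithBot ℕ∞) →
      ∀ M : X.Modules, Coh.IsCoh M → CohB1.support M ⊆ C → IsBdd d (hs k L M) := by
  haveI := CurveCohLib.isNoetherian_of_proper (k := k) (X := X)
  have hempty : ∀ (d : ℕ) (M : X.Modules), Coh.IsCoh M → CohB1.support M = ∅ → IsBdd d (hs k L M) :=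
    fun d M hM h => match d with
      | 0 => hs_eq_zero k hL hM h
      | _ + 1 => ⟨0, fun n => by simp [hs_eq_zero k hL hM h n]⟩
  induction d with
  | zero =>
    intro C hC M hM hMC
    refine hempty 0 M hM (Set.eq_empty_of_forall_notMem fun x hx => ?_)
    haveI : Nonempty ↥(C : Set X) := ⟨⟨x, hMC hx⟩⟩
    haveI : Nonempty (IrreducibleCloseds ↥(C : Set X)) :=
      ⟨⟨closure {⟨x, hMC hx⟩}, isIrreducible_singleton.closure, isClosed_closure⟩⟩
    exact absurd hC (not_lt.2 (by exact_mod_cast Order.krullDim_nonneg))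
  | succ d IHd =>
    intro C
    induction C using WellFoundedLT.induction with
    | ind C IH =>
      intro hC M hM hMC
      rcases Set.eq_empty_or_nonempty (C : Set X) with h0 | hne
      · exact hempty _ M hM (Set.subset_empty_iff.1 (h0 ▸ hMC))
      by_cases hirr : IsIrreducible (C : Set X)
      · obtain ⟨η, hη⟩ := QuasiSober.sober hirr C.isClosed
        have hηC : η ∈ (C : Set X) := hη.mem
        refine isBdd_succ_of_incr fun i => ?_
        obtain ⟨U, hηU, e, he⟩ := InvX.exists_frame (hL i) η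
        refine exists_bdd_incr k hL i he (fun N hN hNs => IHd ⟨_, C.isClosed.sdiff U.2⟩ ?_ N hN hNs) hM hMC
        haveI : IrreducibleSpace ↥(C : Set X) := isIrreducible_iff_irreducibleSpace.1 hirr
        let Y : Set ↥(C : Set X) := {y | (y : X) ∈ (U : Set X)ᶜ}
        have hlt := H23.TopDim.dim_lt_of_ssubset (X := ↥(C : Set X)) (fun h => by rw [h] at hC; exact not_top_lt hC)
          (Y := Y) (U.2.isClosed_compl.preimage continuous_subtype_val)
          (fun h => (h.ge (Set.mem_univ ⟨η, hηC⟩) : η ∈ (U : Set X)ᶜ) hηU)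
        have hle : topologicalKrullDim ↥((C : Set X) \ U) ≤ topologicalKrullDim ↥Y := by
          let g : ↥((C : Set X) \ U) → ↥Y := fun p => ⟨⟨p.1, p.2.1⟩, p.2.2⟩
          have hcomp : Topology.IsInducing ((Subtype.val ∘ Subtype.val : ↥Y → X) ∘ g) :=
            show Topology.IsInducing (Subtype.val : ↥((C : Set X) \ U) → X) from Topology.IsInducing.subtypeVal
          exact ((Topology.IsInducing.subtypeVal.comp Topology.IsInducing.subtypeVal).of_comp_iff.1 hcomp).topologicalKrullDim_le
        refine lt_of_le_of_lt hle ?_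
        revert hlt hC
        generalize topologicalKrullDim ↥Y = a
        generalize topologicalKrullDim ↥(C : Set X) = b
        intro hC hlt
        cases a with
        | bot => exact WithBot.bot_lt_coe _
        | coe a =>
          cases b with
          | bot => exact absurd hlt not_lt_bot
          | coe b =>
            have h1 : a < b := WithBot.coe_lt_coe.1 hlt
            have h2 : b < ((d + 1 : ℕ) : ℕ∞) := WithBot.coe_lt_coe.1 hC
            refine WithBot.coe_lt_coe.2 (lt_of_lt_of_le h1 ?_)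
            exact ENat.lt_add_one_iff (ENat.natCast_ne_top d) |>.1 (by exact_mod_cast h2)
      · obtain ⟨A, B, hA, hB, hsub, hnA, hnB⟩ : ∃ A B : Set X, IsClosed A ∧ IsClosed B ∧
            (C : Set X) ⊆ A ∪ B ∧ ¬ (C : Set X) ⊆ A ∧ ¬ (C : Set X) ⊆ B := by
          by_contra! hno
          exact hirr ⟨hne, isPreirreducible_iff_isClosed_union_isClosed.2 fun A B hA hB hs =>
            or_iff_not_imp_left.2 fun hA' => hno A B hA hB hs hA'⟩
        let C₁ : Closeds X := ⟨(C : Set X) ∩ A, C.isClosed.inter hA⟩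
        let C₂ : Closeds X := ⟨(C : Set X) ∩ B, C.isClosed.inter hB⟩
        have h1 : C₁ < C := lt_of_le_of_ne (Set.inter_subset_left : (C : Set X) ∩ A ⊆ C)
          fun h => hnA (Set.inter_eq_left.1 (congrArg (SetLike.coe) h))
        have h2 : C₂ < C := lt_of_le_of_ne (Set.inter_subset_left : (C : Set X) ∩ B ⊆ C)
          fun h => hnB (Set.inter_eq_left.1 (congrArg (SetLike.coe) h))
        have hdim : ∀ C' : Closeds X, C' ≤ C → topologicalKrullDim ↥(C' : Set X) < ((d + 1 : ℕ) : WithBot ℕ∞) :=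
          fun C' h => lt_of_le_of_lt (H23.TopDim.dim_le_dim_of_subset (show (C' : Set X) ⊆ C from h)) hC
        refine isBdd_of_split k hL (C := C) (C₁ := C₁) (C₂ := C₂)
          (fun x hx => (hsub hx).imp (fun h => ⟨hx, h⟩) fun h => ⟨hx, h⟩)
          (IH C₁ h1 (hdim C₁ h1.le)) (IH C₂ h2 (hdim C₂ h2.le)) hM hMC

end Groth.Agent.AVIdx
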