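import Groth.Agent.H23.TraceSplit
import Groth.Agent.H23.CoverPush
import Groth.Agent.KFlatLib.Scheme.ProjLocFree
import Groth.Agent.AVIdx.BoxProduct

/-!
Pulling back along a finite locally free morphism of invertible degree is injective on cohomology.
-/

set_option linter.style.haveILetI false
set_option linter.unusedSectionVars false
set_option backward.isDefEq.respectTransparency false
set_option backward.isDefEq.respectTransparency.types false
set_option autoImplicit false

universe u

open CategoryTheory CategoryTheory.Limits AlgebraicGeometry TopologicalSpace Opposite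

namespace Groth.Agent.AVIdx

open Groth.Agent.H23

/-- A retract of a module without cohomology has none. -/
theorem subsingleton_HH_of_retract {X : Scheme.{u}} {M N : X.Modules} (s : M ⟶ N) (r : N ⟶ M) (h : s ≫ r = 𝟙 _)
    (n : ℕ) (hN : Subsingleton (Coh.HH X N n)) : Subsingleton (Coh.HH X M n) := by
  refine subsingleton_of_forall_eq 0 fun x => ?_
  have e := Sheaf.H.map_comp_apply ((QCoh.toAbFunctor X).map s) ((QCoh.toAbFunctor X).map r) x
  rw [← Functor.map_comp, h, CategoryTheory.Functor.map_id, Sheaf.H.map_id_apply] at e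
  rw [show Sheaf.H.map ((QCoh.toAbFunctor X).map s) n x = 0 from hN.elim _ _, map_zero] at e
  exact e

/-- The structure sheaf is a summand of the direct image of the structure sheaf. -/
theorem exists_unit_section {X Y : Scheme.{u}} (f : X ⟶ Y) [IsFinite f] [Flat f] [LocallyOfFinitePresentation f] {d : ℕ}
    (hd : ∀ y, f.finrank y = d) (hu : IsUnit (d : Γ(Y, ⊤))) :
    ∃ (s : Coh.structureModule Y ⟶ (Scheme.Modules.pushforward f).obj (Coh.structureModule X))
      (r : (Scheme.Modules.pushforward f).obj (Coh.structureModule X) ⟶ Coh.structureModule Y), s ≫ r = 𝟙 _ := by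
  let A := RelSpec.QCAlg.directImage f
  let φ : A.toModule ⟶ (Scheme.Modules.pushforward f).obj (Coh.structureModule X) :=
    ⟨letI := A.moduleSect
     PresheafOfModules.homMk { app := fun _ => 𝟙 _, naturality := fun _ _ _ => rfl } fun _ _ _ => rfl⟩
  let ψ : (Scheme.Modules.pushforward f).obj (Coh.structureModule X) ⟶ A.toModule :=
    ⟨letI := A.moduleSect
     PresheafOfModules.homMk { app := fun _ => 𝟙 _, naturality := fun _ _ _ => rfl } fun _ _ _ => rfl⟩
  have h1 : φ ≫ ψ = 𝟙 _ := Scheme.Modules.hom_ext _ _ fun _ => rfl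
  have h2 : ψ ≫ φ = 𝟙 _ := Scheme.Modules.hom_ext _ _ fun _ => rfl
  let e : A.toModule ≅ (Scheme.Modules.pushforward f).obj (Coh.structureModule X) := ⟨φ, ψ, h1, h2⟩
  have hA : FlatMod.IsFinLocFreeOfRank d A.toModule := fun y => by
    obtain ⟨U, hy, ⟨i⟩⟩ := CoverPush.isFinLocFreeOfRank_push_of_isCover f ⟨⟨inferInstance, inferInstance, inferInstance⟩, hd⟩ y
    exact ⟨U, hy, ⟨(Scheme.Modules.restrictFunctor U.ι).mapIso e ≪≫ i⟩⟩
  obtain ⟨τ, hτ, -⟩ := (FinTrace.existsUnique_isTrace (A := A) (DblAlg.isFinLocFree_of_rank hA))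
  obtain ⟨σ, hσ, -⟩ := TraceSplit.exists_section hA hτ hu
  exact ⟨σ ≫ e.hom, e.inv ≫ τ, by rw [Category.assoc, Iso.hom_inv_id_assoc, hσ]⟩

/-- No cohomology upstairs, none downstairs. -/
theorem subsingleton_HH_of_cover {X Y : Scheme.{u}} (f : X ⟶ Y) [IsFinite f] [Flat f] [LocallyOfFinitePresentation f]
    [HasInjectiveResolutions X.Modules] {d : ℕ} (hd : ∀ y, f.finrank y = d) (hu : IsUnit (d : Γ(Y, ⊤)))
    {M : Y.Modules} (hM : PicF.IsInvertible M) (j : ℕ)
    (h : Subsingleton (Coh.HH X ((Scheme.Modules.pullback f).obj M) j)) : Subsingleton (Coh.HH Y M j) := by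
  obtain ⟨s, r, hsr⟩ := exists_unit_section f hd hu
  haveI := SpObjSS.enoughInjectives_of_hasInjectiveResolutions (C := X.Modules)
  haveI := QCoh.preservesFiniteLimits_push f
  let F := Scheme.Modules.pushforward f
  obtain ⟨eP⟩ := KFlatLib.nonempty_rpush_tensor_finLocFree f (Coh.structureModule X) M
    (fun y => let ⟨U, hy, he⟩ := InvEnd.isFinLocFreeOfRank_one hM y; ⟨U, 1, hy, he⟩) 0
  let fM := (Scheme.Modules.pullback f).obj M
  obtain ⟨eA⟩ := QCoh.HH_push_of_isAffineHom f (M := fM)
    (ProjUPX.isQCoh_of_isInvertible (PicClLib.isInvertible_pullback f hM)) j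
  have hp : Subsingleton (Coh.HH Y (F.obj fM) j) := @Equiv.subsingleton _ _ eA.symm.toEquiv h
  let T := DCoh.tensorRightMod M
  let R0 := F.rightDerivedZeroIsoSelf
  have e : T.obj (F.obj (Coh.structureModule X)) ≅ F.obj fM :=
    T.mapIso (R0.app (Coh.structureModule X)).symm ≪≫ (PicMul.comm ((Coh.Rpush f 0).obj (Coh.structureModule X)) M).some ≪≫
      eP ≪≫ R0.app _ ≪≫ F.mapIso ((KFlatLib.tensorStructureIso X).app fM)
  have h0 : Subsingleton (Coh.HH Y (T.obj (Coh.structureModule Y)) j) :=
    subsingleton_HH_of_retract (T.map s) (T.map r) (by rw [← T.map_comp, hsr, T.map_id]) j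
      (QCoh.subsingleton_HH_of_iso e.symm j hp)
  exact QCoh.subsingleton_HH_of_iso ((PicMul.comm (Coh.structureModule Y) M).some ≪≫ (KFlatLib.tensorStructureIso Y).app M) j h0

end Groth.Agent.AVIdx
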