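import Groth.Agent.AVIdx.InfArtinGen
import Groth.Agent.H23.CubeField
import Groth.Agent.H23.MaxAbelian

/-!
The theorem of the cube relative to a connected locally Noetherian base.
-/

set_option linter.style.haveILetI false

universe u

open CategoryTheory Limits AlgebraicGeometry MonoidalCategory CartesianMonoidalCategory TopologicalSpace Opposite

namespace Groth.Agent.AVIdx

open Groth.Agent Groth.Agent.H23 Groth.Agent.H23.TrivBasic Groth.Agent.H23.InfArtin

variable {k : Type u} [Field k]
variable (X Y Z : Over (Spec (CommRingCat.of k))) [IsProper X.hom] [IsProper Y.hom]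
  [GeometricallyIntegral X.hom] [GeometricallyIntegral Y.hom] [IsLocallyNoetherian Z.left]
  (x₀ : 𝟙_ (Over (Spec (CommRingCat.of k))) ⟶ X) (y₀ : 𝟙_ (Over (Spec (CommRingCat.of k))) ⟶ Y)

/-- An invertible module trivial on two slices and on one fibre is trivial, the base being connected. -/
theorem cube_rel [ConnectedSpace ↥Z.left] (L : ((X ⊗ Y) ⊗ Z).left.Modules) (hL : PicF.IsInvertible L)
    (hx : Triv ((Scheme.Modules.pullback (lift (toUnit Y ≫ x₀) (𝟙 Y) ▷ Z).left).obj L))
    (hy : Triv ((Scheme.Modules.pullback (lift (𝟙 X) (toUnit X ≫ y₀) ▷ Z).left).obj L))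
    (t : ↥Z.left)
    (ht : Triv ((Scheme.Modules.pullback
      (pullback.fst (snd (X ⊗ Y) Z).left (Z.left.fromSpecResidueField t))).obj L)) : Triv L := by
  let P := X ⊗ Y
  have hX := Rigid.bijective_appTop X.hom
  have hY := Rigid.bijective_appTop Y.hom
  haveI : IsProper P.hom := by
    show IsProper (pullback.fst X.hom Y.hom ≫ X.hom)
    infer_instance
  haveI : GeometricallyIntegral P.hom := MaxAbelian.geometricallyIntegral_tensor X Y
  let f := (snd P Z).left
  haveI : IsProper f := inferInstanceAs (IsProper (pullback.snd P.hom Z.hom))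
  haveI : Flat f := inferInstanceAs (Flat (pullback.snd P.hom Z.hom))
  haveI : GeometricallyIntegral f := inferInstanceAs (GeometricallyIntegral (pullback.snd P.hom Z.hom))
  have hH0 : ∀ {S : Scheme.{u}} (g : S ⟶ Z.left), Function.Bijective (pullback.snd f g).appTop := by
    intro S g
    show Function.Bijective (pullback.snd (pullback.snd P.hom Z.hom) g).appTop
    rw [← pullbackLeftPullbackSndIso_hom_snd P.hom Z.hom g, Scheme.Hom.comp_appTop]
    exact (SeesawGlobal.bijective_appTop_iso (pullbackLeftPullbackSndIso P.hom Z.hom g)).comp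
      (Rigid.bijective_app_snd P.hom (g ≫ Z.hom) ⊤)
  -- triviality after a change of base, from triviality of the pullback along `P ◁ g`
  have htr : ∀ (S : Over (Spec (CommRingCat.of k))) (g : S ⟶ Z),
      Triv ((Scheme.Modules.pullback (P ◁ g).left).obj L) →
        Triv ((Scheme.Modules.pullback (pullback.fst f g.left)).obj L) := by
    intro S g h
    have hw : pullback.fst f g.left ≫ (fst P Z).left ≫ P.hom = pullback.snd f g.left ≫ S.hom := by
      rw [← Over.w g, ← Category.assoc (pullback.snd f g.left), ← pullback.condition, Category.assoc,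
        Over.w (fst P Z), Over.w (snd P Z)]
    refine SeesawGlobal.triv_of_factor
      (pullback.lift (pullback.fst f g.left ≫ (fst P Z).left) (pullback.snd f g.left)
        (by rw [Category.assoc]; exact hw) : pullback f g.left ⟶ (P ⊗ S).left) ?_ h
    apply pullback.hom_ext
    · show (_ ≫ (P ◁ g).left) ≫ (fst P Z).left = _
      rw [Category.assoc, ← Over.comp_left, whiskerLeft_fst]
      exact pullback.lift_fst _ _ _
    · show (_ ≫ (P ◁ g).left) ≫ (snd P Z).left = _
      rw [Category.assoc, ← Over.comp_left, whiskerLeft_snd, Over.comp_left, ← Category.assoc]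
      exact (congrArg (· ≫ g.left) (pullback.lift_snd _ _ _)).trans pullback.condition.symm
  -- and conversely
  have htr' : ∀ (S : Over (Spec (CommRingCat.of k))) (g : S ⟶ Z),
      Triv ((Scheme.Modules.pullback (pullback.fst f g.left)).obj L) →
        Triv ((Scheme.Modules.pullback (P ◁ g).left).obj L) := by
    intro S g h
    refine SeesawGlobal.triv_of_factor
      (pullback.lift (P ◁ g).left (snd P S).left ?_ : (P ⊗ S).left ⟶ pullback f g.left) (pullback.lift_fst _ _ _) h
    rw [← Over.comp_left, ← Over.comp_left, whiskerLeft_snd]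
  -- the trivial locus is open, with frames
  have hnear : ∀ z, SeesawGlobal.FieldTriv f L z →
      ∃ V : Z.left.Opens, z ∈ V ∧ ∃ s : Γ(L, f ⁻¹ᵁ V), InvX.IsFrame s := by
    intro z hz
    obtain ⟨A, _, _, g, _, x, rfl⟩ := SeesawGlobal.exists_chart z
    obtain ⟨β, hβ⟩ := Spec.map_surjective (g ≫ Z.hom)
    letI : Algebra k A := β.hom.toAlgebra
    let gO : spOver (k := k) A ⟶ Z := Over.homMk g (by exact hβ.symm)
    refine SeesawGlobal.exists_frame_of_thick f hL g x (fun K _ k' _ => hH0 k') hz fun n => ?_
    refine ⟨?_, (hH0 _).1⟩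
    suffices h : ∀ m, Triv ((Scheme.Modules.pullback (pullback.fst f
        (Seesaw.specAlg A (SeesawMod.Thick x.asIdeal (m + 1)) ≫ g))).obj L) by
      refine SeesawGlobal.triv_pullback_of_factor
        (Spec.map (CommRingCat.ofHom (Ideal.Quotient.factor
          (Ideal.pow_le_pow_right (Nat.le_succ n) :
            IsLocalRing.maximalIdeal (Localization.AtPrime x.asIdeal) ^ (n + 1) ≤
              IsLocalRing.maximalIdeal (Localization.AtPrime x.asIdeal) ^ n)))) ?_ (h n)
      show _ ≫ Spec.map _ ≫ g = Spec.map _ ≫ g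
      rw [← Category.assoc, ← Spec.map_comp]
      rfl
    intro m
    let R := Localization.AtPrime x.asIdeal
    let B := SeesawMod.Thick x.asIdeal (m + 1)
    haveI : IsNoetherianRing R := IsLocalization.isNoetherianRing x.asIdeal.primeCompl R inferInstance
    haveI : Nontrivial B := Ideal.Quotient.nontrivial_iff.2 fun h =>
      (IsLocalRing.maximalIdeal.isMaximal R).ne_top (top_le_iff.1 (h.ge.trans (Ideal.pow_le_self (Nat.succ_ne_zero m))))
    haveI : IsLocalRing B := IsLocalRing.of_surjective' (Ideal.Quotient.mk _) Ideal.Quotient.mk_surjective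
    haveI : IsNoetherianRing B :=
      isNoetherianRing_of_surjective R B (Ideal.Quotient.mk _) Ideal.Quotient.mk_surjective
    have hmm : IsLocalRing.maximalIdeal B = (IsLocalRing.maximalIdeal R).map (Ideal.Quotient.mk _) :=
      (IsLocalRing.map_maximalIdeal_of_surjective _ Ideal.Quotient.mk_surjective).symm
    haveI : IsArtinianRing B := (isArtinianRing_iff_isNilpotent_maximalIdeal B).2 ⟨m + 1, by
      rw [hmm, ← Ideal.map_pow]
      exact Ideal.map_quotient_self _⟩
    have hcm : Ideal.comap (Ideal.Quotient.mk (IsLocalRing.maximalIdeal R ^ (m + 1))) (IsLocalRing.maximalIdeal B) =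
        IsLocalRing.maximalIdeal R := IsLocalRing.eq_maximalIdeal
      (Ideal.comap_isMaximal_of_surjective _ Ideal.Quotient.mk_surjective)
    let S := spOver (k := k) B
    let π := IsScalarTower.toAlgHom k A B
    let gS : S ⟶ Z := spMap π ≫ gO
    refine (TrivBasic.triv_congr ?_).1 (htr S gS ?_) <;> try rfl
    let M := (Scheme.Modules.pullback (P ◁ gS).left).obj L
    refine triv_artin' hX hY x₀ y₀ B M (PicClLib.isInvertible_pullback _ hL) ?_ ?_ ?_
    · refine (TrivBasic.triv_comp_iff _ _).2 ?_
      rw [← Over.comp_left, ← MonoidalCategory.whiskerLeft_comp]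
      refine htr' _ _ ?_
      letI := Ideal.Quotient.field (IsLocalRing.maximalIdeal B)
      refine hz (B ⧸ IsLocalRing.maximalIdeal B) _ ?_
      show g (Spec.map (CommRingCat.ofHom π.toRingHom)
        (Spec.map (CommRingCat.ofHom (Ideal.Quotient.mkₐ k (IsLocalRing.maximalIdeal B)).toRingHom)
          (IsLocalRing.closedPoint (B ⧸ IsLocalRing.maximalIdeal B)))) = g x
      congr 1
      refine PrimeSpectrum.ext ?_
      show Ideal.comap (algebraMap A B) (Ideal.comap (Ideal.Quotient.mk _)
        (IsLocalRing.maximalIdeal (B ⧸ IsLocalRing.maximalIdeal B))) = x.asIdeal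
      rw [IsLocalRing.maximalIdeal_eq_bot, ← RingHom.ker_eq_comap_bot, Ideal.mk_ker,
        IsScalarTower.algebraMap_eq A R B, ← Ideal.comap_comap,
        show algebraMap R B = Ideal.Quotient.mk _ from rfl,
        hcm]
      exact Localization.AtPrime.under_maximalIdeal
    · refine (TrivBasic.triv_comp_iff _ _).2 ?_
      rw [← Over.comp_left, ← whisker_exchange]
      exact SeesawGlobal.triv_of_factor (Y ◁ gS).left rfl hx
    · refine (TrivBasic.triv_comp_iff _ _).2 ?_
      rw [← Over.comp_left, ← whisker_exchange]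
      exact SeesawGlobal.triv_of_factor (X ◁ gS).left rfl hy
  have hall : ∀ z, SeesawGlobal.FieldTriv f L z := by
    let W : Set Z.left := {z | SeesawGlobal.FieldTriv f L z}
    have hopen : IsOpen W := by
      refine isOpen_iff_forall_mem_open.2 fun z hz => ?_
      obtain ⟨V, hzV, s, hs⟩ := hnear z hz
      refine ⟨V, fun w hw K _ k' hk' => ?_, V.isOpen, hzV⟩
      obtain ⟨φ⟩ := InvX.nonempty_iso_of_isFrame hs
      let U := f ⁻¹ᵁ V
      let j := pullback.fst f k'
      have hj : Set.range j ⊆ (U : Set _) := by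
        rintro _ ⟨p, rfl⟩
        show f (j p) ∈ V
        rw [← Scheme.Hom.comp_apply, pullback.condition, Scheme.Hom.comp_apply,
          Subsingleton.elim (pullback.snd f k' p) (IsLocalRing.closedPoint K), hk']
        exact hw
      have hU : Triv ((Scheme.Modules.pullback U.ι).obj L) :=
        Triv.of_iso ((Scheme.Modules.restrictFunctorIsoPullback U.ι).app _) ⟨φ⟩
      exact SeesawGlobal.triv_of_factor (IsOpenImmersion.lift U.ι j (hj.trans_eq U.range_ι.symm))
        (IsOpenImmersion.lift_fac _ _ _) hU
    have hne : W.Nonempty := ⟨t, SeesawGlobal.fieldTriv_of_point f hL (Z.left.residueField t)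
      (Z.left.fromSpecResidueField t) (Scheme.fromSpecResidueField_apply _ _) ht⟩
    intro z
    have hW := IsClopen.eq_univ ⟨SeesawGlobal.isClosed_fieldTriv f hL, hopen⟩ hne
    exact hW.ge (Set.mem_univ z)
  refine SeesawGlobal.triv_of_section (f := f) (fun U => Rigid.bijective_app_snd P.hom Z.hom U)
    (lift (toUnit Z ≫ lift x₀ y₀) (𝟙 Z)).left (by rw [← Over.comp_left, lift_snd]; rfl) ?_
    fun z => hnear z (hall z)
  refine SeesawGlobal.triv_of_factor (lift (toUnit Z ≫ y₀) (𝟙 Z)).left ?_ hx
  rw [← Over.comp_left]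
  refine congrArg CommaMorphism.left ?_
  refine CartesianMonoidalCategory.hom_ext _ _ ?_ ?_
  · refine CartesianMonoidalCategory.hom_ext _ _ ?_ ?_ <;> simp [comp_toUnit_assoc]
  · simp

end Groth.Agent.AVIdx
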