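import Mathlib.LinearAlgebra.Eigenspace.Zero
import Mathlib.LinearAlgebra.Eigenspace.Basic
import Mathlib.LinearAlgebra.Charpoly.BaseChange
import Mathlib.RingTheory.Flat.Equalizer
import Mathlib.RingTheory.Localization.FractionRing
import Mathlib.RingTheory.PrincipalIdealDomain
import Mathlib.LinearAlgebra.FreeModule.PID
import Mathlib.RingTheory.Flat.Localization

/-!
The multiplicity of the root `0` of the characteristic polynomial of a map with `ker f² = ker f`.
-/

namespace Groth.Agent.AVIdx

open TensorProduct

theorem ker_pow_eq_ker {R V : Type*} [CommRing R] [AddCommGroup V] [Module R V] (f : Module.End R V)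
    (h : ∀ x, f (f x) = 0 → f x = 0) : ∀ n : ℕ, 1 ≤ n → LinearMap.ker (f ^ n) = LinearMap.ker f := by
  intro n hn
  induction n, hn using Nat.le_induction with
  | base => rw [pow_one]
  | succ n hn ih =>
    ext x
    rw [LinearMap.mem_ker, LinearMap.mem_ker, pow_succ, Module.End.mul_apply, ← LinearMap.mem_ker, ih,
      LinearMap.mem_ker]
    exact ⟨h x, fun hx => by rw [hx, map_zero]⟩

theorem rootMultiplicity_charpoly_eq_finrank_ker {R V : Type*} [CommRing R] [IsDomain R] [IsPrincipalIdealRing R]
    [AddCommGroup V] [Module R V] [Module.Free R V] [Module.Finite R V] (f : Module.End R V)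
    (h : ∀ x, f (f x) = 0 → f x = 0) :
    f.charpoly.rootMultiplicity 0 = Module.finrank R (LinearMap.ker f) := by
  classical
  let K := FractionRing R
  let g : Module.End K (K ⊗[R] V) := f.baseChange K
  rw [Polynomial.eq_rootMultiplicity_map (IsFractionRing.injective R K) 0, map_zero,
    ← LinearMap.charpoly_baseChange, Polynomial.rootMultiplicity_eq_natTrailingDegree',
    ← LinearMap.finrank_maxGenEigenspace_zero_eq, Module.End.maxGenEigenspace_eq_genEigenspace_finrank,
    Module.End.genEigenspace_nat, zero_smul,
    show f.baseChange K - 0 = f.baseChange K from LinearMap.ext fun _ => sub_zero _]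
  rcases Nat.eq_zero_or_pos (Module.finrank K (K ⊗[R] V)) with h0 | hpos
  · rw [h0, pow_zero, Module.End.one_eq_id, LinearMap.ker_id, finrank_bot]
    rw [Module.finrank_baseChange] at h0
    exact (Nat.eq_zero_of_le_zero ((Submodule.finrank_le _).trans h0.le)).symm
  rw [show (f.baseChange K) ^ Module.finrank K (K ⊗[R] V) = (f ^ Module.finrank K (K ⊗[R] V)).baseChange K from
    (map_pow (Module.End.baseChangeHom R K V) f _).symm]
  let fn := f ^ Module.finrank K (K ⊗[R] V)
  have : Module.Flat R K := IsLocalization.flat K (nonZeroDivisors R)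
  have : Module.Free R (LinearMap.ker fn) := inferInstance
  have e := (LinearMap.tensorKerEquiv K K fn).finrank_eq
  rw [show LinearMap.ker fn = LinearMap.ker f from ker_pow_eq_ker f h _ hpos] at e
  rw [Module.finrank_baseChange] at e
  exact e.symm

end Groth.Agent.AVIdx
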