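import Groth.Agent.AVIdx.KerTate
import Groth.Agent.AVIdx.RootMult
import Groth.Agent.AVIdx.DegenEuler

/-!
The multiplicity of the root `0` of the Hilbert polynomial of an invertible module with respect to an ample one.
-/

set_option linter.style.haveILetI false
set_option linter.unusedSectionVars false
set_option backward.isDefEq.respectTransparency false
set_option backward.isDefEq.respectTransparency.types false

universe u

open CategoryTheory CategoryTheory.Limits MonoidalCategory CartesianMonoidalCategory MonObj GrpObj AlgebraicGeometry TopologicalSpace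

noncomputable section

namespace Groth.Agent.AVIdx

open Groth.Agent Groth.Agent.H23 Groth.Agent.AVPair Groth.Agent.AVCube Groth.Agent.AVAmple
open scoped Groth.Agent.H23.PicMul

/-- Scaling the variable does not change the multiplicity of the root `0`. -/
theorem rootMultiplicity_zero_comp_C_mul_X {R : Type*} [CommRing R] [IsDomain R] (p : Polynomial R) {a : R}
    (ha : a ≠ 0) : (p.comp (Polynomial.C a * Polynomial.X)).rootMultiplicity 0 = p.rootMultiplicity 0 := by
  have h : (p.comp (Polynomial.C a * Polynomial.X)).support = p.support := by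
    ext i
    rw [Polynomial.mem_support_iff, Polynomial.mem_support_iff, Polynomial.comp_C_mul_X_coeff]
    exact mul_ne_zero_iff_right (pow_ne_zero _ ha)
  simp only [Polynomial.rootMultiplicity_eq_natTrailingDegree', Polynomial.natTrailingDegree,
    Polynomial.trailingDegree, h]

variable {k : Type u} [Field k] [IsAlgClosed k] {A : Over (Spec (CommRingCat.of k))}
  [GrpObj A] [IsCommMonObj A] [IsProper A.hom] [GeometricallyIntegral A.hom]

/-- The dimension of the stabilizer of `L` is the multiplicity of the root `0` of `χ(L ⊗ H^t)`. -/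
theorem dim_eq_rootMultiplicity {L H : A.left.Modules} (hL : PicF.IsInvertible L) (hHa : CohB1.IsAmple H)
    {S : Set A.left} (hS : IsClosed S)
    (hmem : ∀ a : 𝟙_ (Over (Spec (CommRingCat.of k))) ⟶ A,
      AVFac.ptOf a ∈ S ↔ pl (𝟙 A * (toUnit A ≫ a)) (PicF.cl L) = PicF.cl L)
    (Φ : Polynomial ℚ) (hΦ : ∀ n : ℕ, Φ.eval (n : ℚ) =
      (@Curv2.euler k _ A.left ⟨A.hom⟩ (CohB1.tensorMod L (CohB1.tensorPow H n)) : ℚ)) :
    topologicalKrullDim S = ((Φ.rootMultiplicity 0 : ℕ) : WithBot ℕ∞) := by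
  classical
  obtain ⟨g, hg⟩ := exists_dim_av A
  have hndH := (AVPhi.finite_fixing_of_ample hHa).subset
    fun a (ha : pl (𝟙 A * (toUnit A ≫ a)) (PicF.cl H) = PicF.cl H) => (AVPhi.nonempty_iso_iff _).2 ha
  obtain ⟨N, ψ₀, hN, hψ₀, hψ⟩ := exists_lift hL hHa.1 hndH
  let ψ : EndAV.End A := EndAV.End.of ψ₀
  obtain ⟨l, hl, hlk⟩ := exists_prime_ne_zero k
  haveI : Fact l.Prime := ⟨hl⟩
  obtain ⟨b, hdim, hker2, hrk⟩ := exists_ker_tate hL hHa hS hmem hN ψ hψ l hlk
  obtain ⟨P, hPm, -, hPn, hPc⟩ := AVDeg3.exists_charpoly k hg ψ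
  -- the multiplicity of the root of the characteristic polynomial
  have hP0 : P.rootMultiplicity 0 = 2 * b := by
    obtain ⟨e⟩ := AVFac.tateMod_free (A := A) hlk hg
    have key : ∀ T, T = 𝟙_ (Over (Spec (CommRingCat.of k))) →
        ∀ [Module.Free ℤ_[l] (AbDual.TateMod A l T)] [Module.Finite ℤ_[l] (AbDual.TateMod A l T)],
          (EndAV.End.tateRep l T ψ).charpoly.rootMultiplicity 0 = 2 * b := by
      rintro T rfl _ _
      rw [rootMultiplicity_charpoly_eq_finrank_ker _ hker2, hrk]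
    have hT : Over.mk (fieldMap (k := k) k) = 𝟙_ (Over (Spec (CommRingCat.of k))) :=
      congrArg Over.mk (Spec.map_id (CommRingCat.of k))
    haveI := AVTate3.free_tateMod (fieldMap (k := k) k) (A := A) l
    haveI := AVTate3.finite_tateMod (fieldMap (k := k) k) (A := A) l
    have h := key _ hT
    rw [hPc l hlk] at h
    rw [← h, Polynomial.eq_rootMultiplicity_map (Int.castRingHom ℤ_[l]).injective_int 0, map_zero]
  obtain ⟨pt⟩ : Nonempty A.left := ⟨η[A].left (IsLocalRing.closedPoint k)⟩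
  have hχH := euler_ne_zero_of_isAmple hHa
  -- the square law for the twists
  have hsq : ∀ n : ℕ, ((N : ℚ) ^ g * Φ.eval (n : ℚ)) ^ 2 =
      ((P.eval (-(N * n : ℤ)) : ℤ) : ℚ) * (@Curv2.euler k _ A.left ⟨A.hom⟩ H : ℚ) ^ 2 := by
    intro n
    obtain ⟨M, hMc, hM⟩ : PicF.IsInvertibleCl (PicF.cl L * PicF.cl H ^ n) :=
      PicMul.isInvertibleCl_mul ⟨L, rfl, hL⟩ (isInvertibleCl_pow ⟨H, rfl, hHa.1⟩ n)
    have hΦn : Φ.eval (n : ℚ) = (@Curv2.euler k _ A.left ⟨A.hom⟩ M : ℚ) := by
      letI : A.left.Over (Spec (CommRingCat.of k)) := ⟨A.hom⟩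
      rw [hΦ, ← chiCl_cl, ← chiCl_cl, PicMul.cl_tensor, PicMul.cl_tensorPow, hMc]
    let ψn : EndAV.End A := ψ - ((-(N * n : ℤ) : ℤ) : EndAV.End A)
    have hpc : ∀ {T : Over (Spec (CommRingCat.of k))} (f : T ⟶ A), pc hM f = pc hL f * pc hHa.1 f ^ n := fun f =>
      Units.ext (by
        rw [Units.val_mul, Units.val_pow_eq_pow_val, val_pc', val_pc', val_pc', hMc]
        exact (map_mul (PicMul.pullHom f.left) _ _).trans (congrArg₂ (· * ·) rfl (map_pow (PicMul.pullHom f.left) _ n)))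
    have hψn : PairE.pair hHa.1 (fst A A) (snd A A ≫ ψn.toHom) = PairE.pair hM (fst A A) (snd A A) ^ N := by
      have e : ψn.toHom = ψ₀ * (𝟙 A) ^ (N * n) := by
        show (ψ - ((-(N * n : ℤ) : ℤ) : EndAV.End A)).toHom = _
        rw [EndAV.End.toHom_sub, EndAV.End.toHom_intCast, ← Nat.cast_mul, zpow_neg, zpow_natCast, div_inv_eq_mul]
        rfl
      rw [e, MonObj.comp_mul, PairE.pair_mul_right, hψ, MonObj.comp_pow, Category.comp_id, PairE.pair_pow_right,
        _root_.mul_comm N n, pow_mul, ← mul_pow]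
      refine congrArg (· ^ N) ?_
      simp only [PairE.pair, hpc, div_pow, mul_pow, div_mul_div_comm]
      rw [mul_mul_mul_comm (pc hL (fst A A)) (pc hL (snd A A))]
    rw [hΦn]
    obtain ⟨h1, h2⟩ := hPn (-(N * n : ℤ))
    by_cases hfin : IsFinite ψn.toHom.left
    · obtain ⟨-, e⟩ := euler_sq_eq hM hHa.1 hg N ψn hψn hfin pt
      rw [h1 hfin pt] at e
      exact_mod_cast e
    · have hinf : Set.Infinite {a : 𝟙_ (Over (Spec (CommRingCat.of k))) ⟶ A |
          pl (𝟙 A * (toUnit A ≫ a)) (PicF.cl M) = PicF.cl M} :=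
        fun hf => hfin (isFinite_of_nondeg hM hHa.1 hN ψn.toHom hψn hf)
      have h0 : @Curv2.euler k _ A.left ⟨A.hom⟩ M = 0 := chiCl_eq_zero_of_infinite ⟨M, rfl, hM⟩ hinf
      rw [h2 hfin, h0]
      simp
  -- the polynomial identity
  have hid : Polynomial.C ((N : ℚ) ^ (2 * g)) * (Φ * Φ) =
      Polynomial.C ((@Curv2.euler k _ A.left ⟨A.hom⟩ H : ℚ) ^ 2) *
        (P.map (Int.castRingHom ℚ)).comp (Polynomial.C (-(N : ℚ)) * Polynomial.X) := by
    refine Polynomial.eq_of_infinite_eval_eq _ _ ((Set.infinite_range_of_injective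
      (Nat.cast_injective (R := ℚ))).mono ?_)
    rintro _ ⟨n, rfl⟩
    show Polynomial.eval (n : ℚ) _ = Polynomial.eval (n : ℚ) _
    simp only [Polynomial.eval_mul, Polynomial.eval_C, Polynomial.eval_comp, Polynomial.eval_X]
    rw [show (-(N : ℚ)) * n = ((-(N * n : ℤ) : ℤ) : ℚ) by push_cast; ring, Polynomial.eval_intCast_map, eq_intCast]
    linear_combination hsq n
  have hc : Polynomial.C ((@Curv2.euler k _ A.left ⟨A.hom⟩ H : ℚ) ^ 2) ≠ 0 :=
    Polynomial.C_ne_zero.2 (pow_ne_zero 2 (Int.cast_ne_zero.2 hχH))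
  have hPQ : (P.map (Int.castRingHom ℚ)).comp (Polynomial.C (-(N : ℚ)) * Polynomial.X) ≠ 0 := by
    intro h
    rw [Polynomial.comp_C_mul_X_eq_zero_iff (mem_nonZeroDivisors_of_ne_zero (neg_ne_zero.2 (Nat.cast_ne_zero.2 hN.ne')))] at h
    exact (hPm.map (Int.castRingHom ℚ)).ne_zero h
  have hΦ0 : Φ ≠ 0 := fun h => by
    rw [h, mul_zero, mul_zero] at hid
    exact mul_ne_zero hc hPQ hid.symm
  have hm := congrArg (Polynomial.rootMultiplicity (0 : ℚ)) hid
  rw [Polynomial.rootMultiplicity_mul (mul_ne_zero (Polynomial.C_ne_zero.2 (by positivity)) (mul_ne_zero hΦ0 hΦ0)),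
    Polynomial.rootMultiplicity_mul (mul_ne_zero hΦ0 hΦ0), Polynomial.rootMultiplicity_mul (mul_ne_zero hc hPQ),
    Polynomial.rootMultiplicity_C, Polynomial.rootMultiplicity_C,
    rootMultiplicity_zero_comp_C_mul_X _ (neg_ne_zero.2 (Nat.cast_ne_zero.2 hN.ne')),
    ← map_zero (Int.castRingHom ℚ), ← Polynomial.eq_rootMultiplicity_map (Int.castRingHom ℚ).injective_int,
    map_zero, hP0] at hm
  rw [hdim, show Φ.rootMultiplicity 0 = b by omega]

end Groth.Agent.AVIdx
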