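import Groth.Agent.AVIdx.CohGrowth
import Groth.Agent.AVIdx.BoxProduct
import Groth.Agent.H75.Descend

/-!
Degreewise bounds on the cohomology of the twists of a coherent module.
-/

noncomputable section

set_option linter.style.haveILetI false
set_option linter.unusedSectionVars false
set_option backward.isDefEq.respectTransparency false
set_option backward.isDefEq.respectTransparency.types false
set_option autoImplicit false

universe u

open CategoryTheory CategoryTheory.Limits AlgebraicGeometry TopologicalSpace Opposite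
open Groth.Agent.PnCoh.Finite (mapLin deltaLin)

attribute [local instance] Groth.Agent.QCoh.hasFiniteBiproducts

namespace Groth.Agent.AVIdx

open Groth.Agent Groth.Agent.H23
open scoped Groth.Agent.H23.PicMul

/-- Finite sums of acyclic modules are acyclic. -/
theorem subsingleton_HH_biproduct {X : Scheme.{u}} {ι : Type u} [Finite ι] (M : ι → X.Modules) (a : ℕ)
    (h : ∀ i, Subsingleton (Coh.HH X (M i) a)) : Subsingleton (Coh.HH X (⨁ M) a) := by
  classical
  haveI := Fintype.ofFinite ι
  haveI := QCoh.hasFiniteBiproducts X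
  let G := QCoh.toAbFunctor X ⋙ Sheaf.functorH.{u, u, u, u} (Opens.grothendieckTopology X) a
  haveI : G.Additive := inferInstance
  have hz : IsZero (G.obj (⨁ M)) := by
    rw [IsZero.iff_id_eq_zero, ← G.map_id, ← QCoh.biproduct_total' M, G.map_sum]
    refine Finset.sum_eq_zero fun j _ => ?_
    haveI : Subsingleton (G.obj (M j)) := h j
    rw [G.map_comp, (AddCommGrpCat.isZero_of_subsingleton (G.obj (M j))).eq_of_tgt (G.map (biproduct.π M j)) 0,
      zero_comp]
  exact AddCommGrpCat.subsingleton_of_isZero hz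

variable (k : Type u) [Field k] {X : Scheme.{u}} [X.Over (Spec (CommRingCat.of k))]
  [IsProper (X ↘ Spec (CommRingCat.of k))]

/-- The inequalities in single degrees of a short exact sequence. -/
theorem hh_triangle {S : ShortComplex X.Modules} (hS : S.ShortExact)
    (h1 : Coh.IsCoh S.X₁) (h2 : Coh.IsCoh S.X₂) (h3 : Coh.IsCoh S.X₃) (j : ℕ) :
    Module.finrank k (Coh.HH X S.X₂ j) ≤ Module.finrank k (Coh.HH X S.X₁ j) + Module.finrank k (Coh.HH X S.X₃ j) ∧
    Module.finrank k (Coh.HH X S.X₁ j) ≤ Module.finrank k (Coh.HH X S.X₂ j) + Module.finrank k (Coh.HH X S.X₃ (j - 1)) ∧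
    Module.finrank k (Coh.HH X S.X₃ j) ≤ Module.finrank k (Coh.HH X S.X₂ j) + Module.finrank k (Coh.HH X S.X₁ (j + 1)) := by
  haveI := CurveCohLib.isNoetherian_of_proper (k := k) (X := X)
  have := fun n => CurveCohLib.finite_HH (k := k) h1 n
  have := fun n => CurveCohLib.finite_HH (k := k) h2 n
  have := fun n => CurveCohLib.finite_HH (k := k) h3 n
  let φ := fun n => mapLin k S.f n
  let ψ := fun n => mapLin k S.g n
  have e1 := fun n => LinearMap.finrank_range_add_finrank_ker (φ n)
  have e2 : ∀ n, Module.finrank k (LinearMap.range (ψ n)) + Module.finrank k (LinearMap.range (φ n)) =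
      Module.finrank k (Coh.HH X S.X₂ n) := fun n => by
    rw [← CurveCohLib.ker_mapLin_g k hS n]
    exact LinearMap.finrank_range_add_finrank_ker (ψ n)
  have e3 : ∀ n, Module.finrank k (LinearMap.ker (φ (n + 1))) + Module.finrank k (LinearMap.range (ψ n)) =
      Module.finrank k (Coh.HH X S.X₃ n) := fun n => by
    have := LinearMap.finrank_range_add_finrank_ker (deltaLin k hS n)
    rwa [CurveCohLib.ker_deltaLin k hS n, ← CurveCohLib.ker_mapLin_f_succ k hS n] at this
  have hd0 : Module.finrank k (LinearMap.ker (φ 0)) = 0 := by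
    rw [LinearMap.ker_eq_bot.2 (CurveCohLib.mapLin_f_zero_injective k hS), finrank_bot]
  have := e1 j
  have := e1 (j + 1)
  have := e2 j
  have := e3 j
  cases j with
  | zero => omega
  | succ i =>
    have := e3 i
    rw [Nat.add_sub_cancel]
    omega

/-- Dimension of the cohomology in degree `j` of `F ⊗ P`. -/
def hF (F P : X.Modules) (j : ℕ) : ℕ := Module.finrank k (Coh.HH X (CohB1.tensorMod F P) j)

theorem hF_congr {F F' P P' : X.Modules} (e : PicF.cl F * PicF.cl P = PicF.cl F' * PicF.cl P') (j : ℕ) :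
    hF k F P j = hF k F' P' j :=
  (CurveCohLib.hhEquiv (k := k) (PicMul.cl_eq_iff.1 (by rw [PicMul.cl_tensor, PicMul.cl_tensor, e])).some j).finrank_eq

theorem hF_le_hTot {F P : X.Modules} (hFc : Coh.IsCoh F) (hP : PicF.IsInvertible P) (j : ℕ) :
    hF k F P j ≤ hTot k (CohB1.tensorMod F P) := by
  haveI := CurveCohLib.isNoetherian_of_proper (k := k) (X := X)
  exact finrank_le_hTot k (AmpleVan.isCoh_tensor hFc (AmpleVan.isCoh_invertible hP)) j

theorem hF_triangle {P : X.Modules} (hP : PicF.IsInvertible P) {S : ShortComplex X.Modules} (hS : S.ShortExact)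
    (h1 : Coh.IsCoh S.X₁) (h2 : Coh.IsCoh S.X₂) (h3 : Coh.IsCoh S.X₃) (j : ℕ) :
    hF k S.X₂ P j ≤ hF k S.X₁ P j + hF k S.X₃ P j ∧ hF k S.X₁ P j ≤ hF k S.X₂ P j + hF k S.X₃ P (j - 1) ∧
      hF k S.X₃ P j ≤ hF k S.X₂ P j + hF k S.X₁ P (j + 1) := by
  haveI := CurveCohLib.isNoetherian_of_proper (k := k) (X := X)
  haveI := AmpleVan.isEquivalence_tw hP
  haveI : (AmpleVan.tw P).Additive := Functor.additive_of_preserves_binary_products _
  have hc : ∀ {A}, Coh.IsCoh A → Coh.IsCoh ((AmpleVan.tw P).obj A) := fun h =>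
    AmpleVan.isCoh_tensor h (AmpleVan.isCoh_invertible hP)
  exact hh_triangle k (hS.map_of_exact (AmpleVan.tw P)) (hc h1) (hc h2) (hc h3) j

theorem hF_map {A B : X.Modules} (hA : Coh.IsCoh A) (hB : Coh.IsCoh B) (φ : A ⟶ B) {P : X.Modules}
    (hP : PicF.IsInvertible P) (j : ℕ) :
    hF k A P j ≤ hF k B P j + hF k (kernel φ) P j + hF k (cokernel φ) P (j - 1) ∧
      hF k B P j ≤ hF k A P j + hF k (kernel φ) P (j + 1) + hF k (cokernel φ) P j := by
  haveI := CurveCohLib.isNoetherian_of_proper (k := k) (X := X)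
  have hK := QCoh.isCoh_kernel hA hB φ
  have hC := QCoh.isCoh_cokernel hA.1 hB φ
  have hI : Coh.IsCoh (Abelian.image φ) :=
    QCoh.isCoh_of_epi (Abelian.factorThruImage φ) hA (QCoh.isQCoh_kernel hB.1 hC.1 _)
  obtain ⟨a1, a2, a3⟩ := hF_triangle k hP (S := ShortComplex.mk (kernel.ι φ) (Abelian.factorThruImage φ)
      ((cancel_mono (Abelian.image.ι φ)).1 (by rw [Category.assoc, Abelian.image.fac, kernel.condition, zero_comp])))
    { exact := ShortComplex.exact_of_f_is_kernel _ (KernelFork.IsLimit.ofι' _ _ fun {T} t ht =>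
        ⟨kernel.lift φ t (by rw [← Abelian.image.fac φ, reassoc_of% ht, zero_comp]), kernel.lift_ι _ _ _⟩)
      mono_f := inferInstance
      epi_g := inferInstance } hK hA hI j
  obtain ⟨b1, b2, b3⟩ := hF_triangle k hP (S := ShortComplex.mk (Abelian.image.ι φ) (cokernel.π φ) (kernel.condition _))
    { exact := ShortComplex.exact_of_f_is_kernel _ (kernelIsKernel (cokernel.π φ))
      mono_f := inferInstance
      epi_g := inferInstance } hI hB hC j
  dsimp only at a1 a2 a3 b1 b2 b3
  omega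

theorem hF_split {C C₁ C₂ : Closeds X} (hC : (C : Set X) ⊆ ↑C₁ ∪ ↑C₂) {M : X.Modules} (hM : Coh.IsCoh M)
    (hMC : CohB1.support M ⊆ C) :
    ∃ M₁ M₂ : X.Modules, Coh.IsCoh M₁ ∧ Coh.IsCoh M₂ ∧ CohB1.support M₁ ⊆ C₁ ∧ CohB1.support M₂ ⊆ C₂ ∧
      ∀ P, PicF.IsInvertible P → ∀ j, hF k M P j ≤ hF k M₁ P j + hF k M₂ P j := by
  haveI := CurveCohLib.isNoetherian_of_proper (k := k) (X := X)
  let U : X.Opens := ⟨(C₂ : Set X)ᶜ, C₂.isClosed.isOpen_compl⟩
  let φ := Snapper.resMap U M
  have hQ : Coh.IsQCoh ((Scheme.Modules.pushforward U.ι).obj (M.restrict U.ι)) :=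
    QCoh.isQCoh_pushforward U.ι (QCoh.isQCoh_restrict U.ι hM.1)
  have hco := QCoh.isQCoh_cokernel hM.1 hQ φ
  have hI : Coh.IsCoh (Abelian.image φ) :=
    QCoh.isCoh_of_epi (Abelian.factorThruImage φ) hM (QCoh.isQCoh_kernel hQ hco _)
  have hK : Coh.IsCoh (kernel φ) := QCoh.isCoh_of_mono (kernel.ι φ) hM (QCoh.isQCoh_kernel hM.1 hQ φ)
  refine ⟨_, _, hI, hK, fun x hx => ?_, fun x hx => ?_, fun P hP j => ?_⟩
  · by_contra hx1
    have hP := QCoh.mem_support_of_mono hI.1 hQ (Abelian.image.ι φ) hx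
    refine Snapper.notMem_support_push (W := ⟨(C₁ : Set X)ᶜ, C₁.isClosed.isOpen_compl⟩) hx1 ?_ hP
    exact Set.disjoint_left.2 fun y hy hyM => (hC (hMC hyM)).elim hy.1 hy.2
  · exact not_not.1 fun hx2 => (Snapper.support_subset_compl (Snapper.isoOn_resMap U M)).1 hx (show x ∈ U from hx2)
  · refine ((hF_triangle k hP
      (S := ShortComplex.mk (kernel.ι φ) (Abelian.factorThruImage φ)
        ((cancel_mono (Abelian.image.ι φ)).1 (by rw [Category.assoc, Abelian.image.fac, kernel.condition, zero_comp])))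
      { exact := ShortComplex.exact_of_f_is_kernel _ (KernelFork.IsLimit.ofι' _ _ fun {T} t ht =>
          ⟨kernel.lift φ t (by rw [← Abelian.image.fac φ, reassoc_of% ht, zero_comp]), kernel.lift_ι _ _ _⟩)
        mono_f := inferInstance
        epi_g := inferInstance } hK hM hI j).1).trans (le_of_eq (add_comm _ _))

/-- One step in the direction of a module with a frame. -/
theorem exists_step {H : X.Modules} (hH : PicF.IsInvertible H) {C : Closeds X} {U : X.Opens} {e : Γ(H, U)}
    (he : InvX.IsFrame e) {F : X.Modules} (hFc : Coh.IsCoh F) (hFC : CohB1.support F ⊆ C) :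
    ∃ S : List X.Modules, (∀ N ∈ S, Coh.IsCoh N ∧ CohB1.support N ⊆ (C : Set X) \ U) ∧
      ∀ P P' : X.Modules, PicF.IsInvertible P → PicF.cl P' = PicF.cl H * PicF.cl P → ∀ j,
        hF k F P j ≤ hF k F P' j + (S.map fun N => hF k N P (j - 1) + hF k N P j + hF k N P (j + 1)).sum ∧
        hF k F P' j ≤ hF k F P j + (S.map fun N => hF k N P (j - 1) + hF k N P j + hF k N P (j + 1)).sum := by
  haveI := CurveCohLib.isNoetherian_of_proper (k := k) (X := X)
  obtain ⟨K, I, a, b, c, hK, hI, ha, hb, hc⟩ := Snapper.exists_link_frame hH he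
  let T := AmpleVan.tw F
  have hsupp : ∀ A, CohB1.support (T.obj A) ⊆ C := fun A => fun x hx => hFC (CurveTensor.support_tensor_subset hx)
  have hcoh : ∀ {A}, Coh.IsCoh A → Coh.IsCoh (T.obj A) := fun h => AmpleVan.isCoh_tensor h hFc
  have hsmall : ∀ {A B : X.Modules} (φ : A ⟶ B), Coh.IsCoh A → Coh.IsCoh B → CohB1.support A ⊆ C →
      CohB1.support B ⊆ C → Snapper.IsoOn U φ →
      ∀ N ∈ [kernel φ, cokernel φ], Coh.IsCoh N ∧ CohB1.support N ⊆ (C : Set X) \ U := by
    intro A B φ hA hB hAC hBC hφ N hN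
    obtain ⟨hk, hc⟩ := Snapper.support_subset_compl hφ
    obtain ⟨hk', hc'⟩ := Snapper.support_sub_of_map hA hB φ
    simp only [List.mem_cons, List.not_mem_nil, or_false] at hN
    rcases hN with rfl | rfl
    · exact ⟨QCoh.isCoh_kernel hA hB φ, fun x hx => ⟨hAC (hk' hx), hk hx⟩⟩
    · exact ⟨QCoh.isCoh_cokernel hA.1 hB φ, fun x hx => ⟨hBC (hc' hx), hc hx⟩⟩
  have hHc := AmpleVan.isCoh_invertible hH
  refine ⟨[kernel (T.map a), cokernel (T.map a)] ++ [kernel (T.map b), cokernel (T.map b)] ++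
    [kernel (T.map c), cokernel (T.map c)], ?_, fun P P' hP hP' j => ?_⟩
  · intro N hN
    simp only [List.mem_append] at hN
    rcases hN with (hN | hN) | hN
    · exact hsmall _ (hcoh hK) (hcoh QCoh.isCoh_structureModule') (hsupp _) (hsupp _) (ha.tensor F) N hN
    · exact hsmall _ (hcoh hK) (hcoh hI) (hsupp _) (hsupp _) (hb.tensor F) N hN
    · exact hsmall _ (hcoh hHc) (hcoh hI) (hsupp _) (hsupp _) (hc.tensor F) N hN
  · have e1 : hF k (T.obj (Coh.structureModule X)) P j = hF k F P j := hF_congr k (by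
      show PicF.cl (CohB1.tensorMod (Coh.structureModule X) F) * _ = _
      rw [PicMul.cl_tensor, ← PicMul.one_def, one_mul]) j
    have e2 : hF k (T.obj H) P j = hF k F P' j := hF_congr k (by
      show PicF.cl (CohB1.tensorMod H F) * _ = _
      rw [PicMul.cl_tensor, hP']
      ac_rfl) j
    have := hF_map k (hcoh hK) (hcoh QCoh.isCoh_structureModule') (T.map a) hP j
    have := hF_map k (hcoh hK) (hcoh hI) (T.map b) hP j
    have := hF_map k (hcoh hHc) (hcoh hI) (T.map c) hP j
    simp only [List.cons_append, List.nil_append, List.map_cons, List.map_nil, List.sum_cons, List.sum_nil]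
    omega

include k in
/-- Coherent modules inherit vanishing above a degree from finitely many negative twists. -/
theorem exists_amplitude {H M : X.Modules} (hH : CohB1.IsAmple H) (hM : ClSub.IsInverseOf M H) (r : ℕ)
    (F : X.Modules) (hFc : Coh.IsCoh F) :
    ∃ D : ℕ, ∀ P : X.Modules, PicF.IsInvertible P →
      (∀ e ≤ D, ∀ j, r < j → Subsingleton (Coh.HH X (CohB1.tensorMod (CohB1.tensorPow M e) P) j)) →
      ∀ j, r < j → Subsingleton (Coh.HH X (CohB1.tensorMod F P) j) := by
  haveI := CurveCohLib.isNoetherian_of_proper (k := k) (X := X)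
  haveI : X.IsSeparated := ⟨by
    rw [← Limits.terminal.comp_from (X ↘ Spec (CommRingCat.of k))]; infer_instance⟩
  haveI : CompactSpace X := QuasiCompact.compactSpace_of_compactSpace (X ↘ Spec (CommRingCat.of k))
  obtain ⟨d, hd⟩ := QCoh.exists_HH_bound (X := X)
  suffices H' : ∀ (t : ℕ) (F : X.Modules), Coh.IsCoh F → ∃ D : ℕ, ∀ P : X.Modules, PicF.IsInvertible P →
      (∀ e ≤ D, ∀ j, r < j → Subsingleton (Coh.HH X (CohB1.tensorMod (CohB1.tensorPow M e) P) j)) →
      ∀ j, r < j → d ≤ j + t → Subsingleton (Coh.HH X (CohB1.tensorMod F P) j) by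
    obtain ⟨D, hD⟩ := H' d F hFc
    exact ⟨D, fun P hP h j hj => hD P hP h j hj (by omega)⟩
  intro t
  induction t with
  | zero =>
    exact fun F hF => ⟨0, fun P hP _ j _ h =>
      hd _ (AmpleVan.isCoh_tensor hF (AmpleVan.isCoh_invertible hP)).1 j (by omega)⟩
  | succ t ih =>
    intro F hF
    obtain ⟨e, -, m, p, hp⟩ := H75.exists_epi_negPow hH hM 0 F hF
    have hMc := AmpleVan.isCoh_invertible (InvX.isInvertible_tensorPow (H75.isInvertible_inverse hH.1 hM) e)
    have hE : Coh.IsCoh (⨁ fun _ : ULift.{u} (Fin m) => CohB1.tensorPow M e) := QCoh.isCoh_biproduct _ fun _ => hMc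
    have hK := QCoh.isCoh_kernel hE hF p
    obtain ⟨D, hD⟩ := ih _ hK
    refine ⟨max e D, fun P hP h j hj hjt => ?_⟩
    haveI := AmpleVan.isEquivalence_tw hP
    let T := AmpleVan.tw P
    haveI : T.Additive := Functor.additive_of_preserves_binary_products _
    haveI : PreservesBiproductsOfShape (ULift.{u} (Fin m)) T :=
      preservesBiproductsOfShape_of_preservesCoproductsOfShape T
    haveI := hp
    refine PnCoh.Finite.subsingleton_HH_X₃ ((KZ.kerSeq_shortExact p).map_of_exact T) j ?_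
      (hD P hP (fun e' he' => h e' (he'.trans (le_max_right _ _))) (j + 1) (by omega) (by omega))
    exact QCoh.subsingleton_HH_of_iso (T.mapBiproduct fun _ : ULift.{u} (Fin m) => CohB1.tensorPow M e).symm j
      (subsingleton_HH_biproduct _ j fun _ => h e (le_max_left _ _) j hj)

/-- Growth of all the twists by powers of finitely many invertible modules. -/
theorem exists_growth {r : ℕ} {L : Fin r → X.Modules} (hL : ∀ i, PicF.IsInvertible (L i)) {F : X.Modules}
    (hFc : Coh.IsCoh F) {d : ℕ} {C : Closeds X} (hd : topologicalKrullDim ↥(C : Set X) < (d : WithBot ℕ∞))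
    (hFC : CohB1.support F ⊆ C) :
    IsBdd d (fun n : Fin r → ℕ => hTot k (CohB1.tensorMod F (FGA.multiTwist L n))) :=
  (isBdd_of_dim_lt k hL d C hd F hFc hFC).mono fun n => (le_of_eq (hTot_congr k
    (CurveTensor.commIso F (FGA.multiTwist L n) ≪≫ (Snapper.multiTwist_iso L n F).some)))

end Groth.Agent.AVIdx
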