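import Groth.Agent.HilbPoly.Pos
import Groth.Agent.H23.PicMul
import Groth.Agent.Lib.InvEnd
import Groth.Agent.Snapper.IsoOn
import Groth.Agent.VarDim.Local
import Groth.Agent.InvX.Tensor
import Groth.Agent.AmpleX.Basis

/-!
The degree of an invertible module against a power of an ample one: additivity and positivity on effective classes.
-/

set_option linter.style.haveILetI false
set_option linter.unusedSectionVars false
set_option backward.isDefEq.respectTransparency false
set_option backward.isDefEq.respectTransparency.types false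

universe u

open CategoryTheory CategoryTheory.Limits AlgebraicGeometry TopologicalSpace Opposite MonoidalCategory

noncomputable section

namespace Groth.Agent.AVIdx

open Groth.Agent Groth.Agent.HilbPoly Groth.Agent.H23
open scoped Groth.Agent.H23.PicMul

theorem mem_support_structureModule {X : Scheme.{u}} (x : X) : x ∈ CohB1.support (Coh.structureModule X) := by
  obtain ⟨U, hU, hxU⟩ := QCoh.exists_affine_mem x
  refine (QCoh.mem_support_iff QCoh.isQCoh_structureModule hU hxU).2 ⟨(1 : Γ(X, U)), fun a ha h0 => ?_⟩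
  change a * 1 = 0 at h0
  rw [_root_.mul_one] at h0
  subst h0
  rw [Scheme.basicOpen_zero] at ha
  exact ha

variable {X : Scheme.{u}} (k : Type u) [Field k] [X.Over (Spec (CommRingCat.of k))] [IsProper (X ↘ Spec (CommRingCat.of k))]

/-- `(L^d . M)`, computed as a difference of Euler characteristics. -/
def divDeg (L : X.Modules) (d : ℕ) (M : X.Modules) : ℤ :=
  iterD (M :: List.replicate d L) (Curv2.euler k X) (Coh.structureModule X)

variable {L : X.Modules} (hL : CohB1.IsAmple L) {d : ℕ}

theorem divDeg_congr {M N : X.Modules} (hL : PicF.IsInvertible L) (e : M ≅ N) : divDeg k L d M = divDeg k L d N := by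
  haveI : IsNoetherian X := CurveCohLib.isNoetherian_of_proper (k := k)
  exact congrArg (· - _) ((additive_lead (additive_euler k) hL d).iso _ _
    ⟨((DCoh.tensorBi (X := X)).obj (Coh.structureModule X)).mapIso e⟩)

theorem divDeg_tensor (hL : PicF.IsInvertible L) (hd : topologicalKrullDim X ≤ ((d + 1 : ℕ) : WithBot ℕ∞))
    {M N : X.Modules} (hM : PicF.IsInvertible M) (hN : PicF.IsInvertible N) :
    divDeg k L d (CohB1.tensorMod M N) = divDeg k L d M + divDeg k L d N := by
  haveI : IsNoetherian X := CurveCohLib.isNoetherian_of_proper (k := k)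
  have hinv : ∀ P ∈ M :: N :: List.replicate d L, PicF.IsInvertible P := fun P hP => by
    rcases List.mem_cons.1 hP with rfl | hP
    · exact hM
    rcases List.mem_cons.1 hP with rfl | hP
    · exact hN
    exact (List.eq_of_mem_replicate hP) ▸ hL
  have h0 := iterD_eq_zero (d + 2) (additive_euler k) (M :: N :: List.replicate d L)
    (by simp) hinv (Coh.structureModule X) QCoh.isCoh_structureModule'
    (((topologicalKrullDim_subspace_le X _).trans hd).trans_lt (WithBot.coe_lt_coe.2 (Nat.cast_lt.2 (by omega))))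
  have hA := additive_lead (L := L) (additive_euler k) hL d
  let G := iterD (List.replicate d L) (Curv2.euler k X)
  change G ((AmpleVan.tw N).obj ((AmpleVan.tw M).obj (Coh.structureModule X))) -
    G ((AmpleVan.tw M).obj (Coh.structureModule X)) -
    (G ((AmpleVan.tw N).obj (Coh.structureModule X)) - G (Coh.structureModule X)) = 0 at h0
  have e : G ((AmpleVan.tw N).obj ((AmpleVan.tw M).obj (Coh.structureModule X))) =
      G ((AmpleVan.tw (CohB1.tensorMod M N)).obj (Coh.structureModule X)) :=
    hA.iso _ _ (PicMul.assoc _ _ _)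
  show G ((AmpleVan.tw (CohB1.tensorMod M N)).obj (Coh.structureModule X)) - G (Coh.structureModule X) =
    G ((AmpleVan.tw M).obj (Coh.structureModule X)) - G (Coh.structureModule X) +
      (G ((AmpleVan.tw N).obj (Coh.structureModule X)) - G (Coh.structureModule X))
  omega

include hL in
/-- An effective, non-trivial class has positive degree. -/
theorem divDeg_pos [IsIntegral X] (hd : topologicalKrullDim X ≤ ((d + 1 : ℕ) : WithBot ℕ∞))
    (hd' : ((d + 1 : ℕ) : WithBot ℕ∞) ≤ topologicalKrullDim X)
    {M : X.Modules} (hM : PicF.IsInvertible M) (s : Coh.structureModule X ⟶ M)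
    (hne : genericPoint X ∈ CohB1.genLocus M s) {y : X} (hy : y ∉ CohB1.genLocus M s) :
    0 < divDeg k L d M := by
  haveI : IsNoetherian X := CurveCohLib.isNoetherian_of_proper (k := k)
  let O := Coh.structureModule X
  let G := CohB1.genLocus M s
  let μ : O ⟶ CohB1.tensorMod O M := mulHom s O
  have hO : Coh.IsCoh O := QCoh.isCoh_structureModule'
  have hP : Coh.IsCoh (CohB1.tensorMod O M) := AmpleVan.isCoh_tensor hO (AmpleVan.isCoh_invertible hM)
  have hC := QCoh.isCoh_cokernel hO.1 hP μ
  -- `μ` is bijective on the generating locus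
  have hloc : ∀ x ∈ G, x ∉ CohB1.support (cokernel μ) := fun x hx => by
    obtain ⟨(U : X.Opens), hU, hxU⟩ := Opens.mem_sSup.1 hx
    haveI : IsIso ((Scheme.Modules.restrictFunctor U.ι).map s) := hU
    haveI : IsIso ((Scheme.Modules.restrictFunctor U.ι).map μ) := isIso_restrict_mulHom s O
    exact notMem_support_of_isZero_restrict (isZero_restrict_cokernel U μ) hxU
  haveI : Mono μ := by
    refine InvEnd.mono_of_ne_zero (PicLoc.isInvertible_structureModule X) (PicMul.isInvertible_tensor (PicLoc.isInvertible_structureModule X) hM) _ fun h0 => ?_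
    obtain ⟨(U : X.Opens), hU, hxU⟩ := Opens.mem_sSup.1 hne
    haveI : IsIso ((Scheme.Modules.restrictFunctor U.ι).map s) := hU
    haveI hi : IsIso ((Scheme.Modules.restrictFunctor U.ι).map μ) := isIso_restrict_mulHom s O
    rw [show μ = 0 from h0, Functor.map_zero] at hi
    have hz : IsZero ((Scheme.Modules.restrictFunctor U.ι).obj O) :=
      IsZero.of_mono_eq_zero (0 : (Scheme.Modules.restrictFunctor U.ι).obj O ⟶
        (Scheme.Modules.restrictFunctor U.ι).obj (CohB1.tensorMod O M)) rfl
    exact notMem_support_of_isZero_restrict hz hxU (mem_support_structureModule _)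
  have hsub : CohB1.support (cokernel μ) ⊆ (G : Set X)ᶜ := fun x hx hxG => hloc x hxG hx
  -- a point of codimension one outside the locus
  obtain ⟨η, hηG, hη⟩ : ∃ η : X, η ∉ G ∧ d ≤ VarDim.deg (X ↘ Spec (CommRingCat.of k)) η := by
    let f := X ↘ Spec (CommRingCat.of k)
    let Z : Set X := (G : Set X)ᶜ
    have hb : BddAbove (VarDim.deg f '' Z) := ⟨VarDim.deg f (genericPoint X), by
      rintro _ ⟨z, -, rfl⟩
      exact VarDim.deg_le_of_specializes f (genericPoint_specializes z)⟩
    obtain ⟨η, hηZ, hηeq⟩ := Nat.sSup_mem (s := VarDim.deg f '' Z) ⟨_, y, hy, rfl⟩ hb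
    refine ⟨η, hηZ, ?_⟩
    have hmax : ∀ z ∈ Z, z ⤳ η → z = η := fun z hz hzs => by
      by_contra hne'
      have h1 := VarDim.deg_strictMono f (lt_iff_le_not_ge.2 ⟨hzs, fun h => hne' (hzs.antisymm h).eq⟩)
      exact absurd (le_csSup hb ⟨z, hz, rfl⟩) (not_le_of_gt (hηeq ▸ h1))
    obtain ⟨U, hηU, e, he⟩ := InvX.exists_frame hM η
    obtain ⟨_, ⟨W, hW, rfl⟩, hηW, hle⟩ :=
      X.isBasis_affineOpens.exists_subset_of_mem_open (show η ∈ U from hηU) U.2
    have heW := he.res (show W ≤ U from hle)
    obtain ⟨g, hg⟩ := heW.exists_coord le_rfl (AModX.res M (le_top : W ≤ ⊤) (InvX.one s))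
    rw [AModX.res_self] at hg
    have hGW := InvX.genLocus_inf s heW hg
    obtain ⟨p, rfl⟩ := VarDim.exists_fromSpec_eq hW hηW
    have hbasic : ∀ q : PrimeSpectrum Γ(X, W), hW.fromSpec q ∈ G ↔ g ∉ q.asIdeal := fun q => by
      rw [← PrimeSpectrum.mem_basicOpen, ← hW.fromSpec_preimage_basicOpen g, ← hGW]
      exact ⟨fun h => ⟨h, VarDim.fromSpec_mem hW q⟩, fun h => h.1⟩
    have hgp : g ∈ p.asIdeal := by
      by_contra h
      exact hηZ ((hbasic p).2 h)
    have hmin : p.asIdeal ∈ (Ideal.span {g}).minimalPrimes := by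
      refine ⟨⟨p.2, (Ideal.span_singleton_le_iff_mem _).2 hgp⟩, ?_⟩
      rintro q ⟨hq, hgq⟩ hqp
      let q' : PrimeSpectrum Γ(X, W) := ⟨q, hq⟩
      have := hmax (hW.fromSpec q') (fun h => (hbasic q').1 h ((Ideal.span_singleton_le_iff_mem _).1 hgq))
        ((VarDim.fromSpec_specializes_iff hW q' p).2 hqp)
      rw [← show q' = p from hW.fromSpec.isOpenEmbedding.injective this]
    obtain ⟨_, hft⟩ := VarDim.exists_algebra f hW
    haveI : IsNoetherianRing Γ(X, W) := Algebra.FiniteType.isNoetherianRing k _
    haveI : (Ideal.span {g}).IsPrincipal := ⟨⟨g, rfl⟩⟩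
    have hh := Ideal.height_le_one_of_isPrincipal_of_mem_minimalPrimes _ p.asIdeal hmin
    obtain ⟨b, hb', -, hgen⟩ := VarDim.exists_deg_add_stalk f (hW.fromSpec p)
    letI := hW.isLocalization_stalk' p hηW
    letI : Algebra Γ(X, W) (X.presheaf.stalk (hW.fromSpec p)) := TopCat.Presheaf.algebra_section_stalk _ ⟨_, hηW⟩
    have h2 := IsLocalization.AtPrime.ringKrullDim_eq_height p.asIdeal (X.presheaf.stalk (hW.fromSpec p))
    rw [hb'] at h2
    have hb1 : b ≤ 1 := by
      have : ((b : ℕ∞) : WithBot ℕ∞) ≤ ((1 : ℕ∞) : WithBot ℕ∞) := le_of_eq_of_le h2 (WithBot.coe_le_coe.2 hh)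
      exact_mod_cast this
    have h3 := hgen _ (genericPoint_specializes (hW.fromSpec p))
    have h4 : d + 1 ≤ VarDim.deg f (genericPoint X) := by
      have := hd'.trans_eq (VarDim.topologicalKrullDim_eq_deg_genericPoint f)
      exact_mod_cast this
    change d ≤ VarDim.deg f (hW.fromSpec p)
    omega
  have hηs : η ∈ CohB1.support (cokernel μ) :=
    mem_support_cokernel_mulHom hO hM s (mem_support_structureModule _) hηG
  have hcl := QCoh.isClosed_support_of_isFT hC.1 hC.2
  have hge : (d : WithBot ℕ∞) ≤ topologicalKrullDim ↥(CohB1.support (cokernel μ)) := by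
    refine le_trans ?_ (H23.TopDim.dim_le_dim_of_subset
      (hcl.closure_subset_iff.2 (Set.singleton_subset_iff.2 hηs)))
    rw [VarDim.topologicalKrullDim_closure_singleton (X ↘ Spec (CommRingCat.of k))]
    exact_mod_cast hη
  have hlt : topologicalKrullDim ↥(CohB1.support (cokernel μ)) < ((d + 1 : ℕ) : WithBot ℕ∞) :=
    dim_lt_closure (x := genericPoint X) ((topologicalKrullDim_subspace_le X _).trans hd) hcl
      (fun x _ => (genericPoint_specializes x).mem_closure) fun h => hsub h hne
  have hpos := (mult_nonneg_and_pos (k := k) hL d _ hC (le_of_lt_succ hlt)).2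
    ((le_of_lt_succ hlt).antisymm hge)
  have hadd := (additive_lead (additive_euler k) hL.1 d).add
    (ShortComplex.mk μ (cokernel.π μ) (cokernel.condition μ))
    (.mk' (ShortComplex.exact_of_g_is_cokernel _ (cokernelIsCokernel μ)) inferInstance inferInstance) hO hP hC
  change mult k L d (CohB1.tensorMod O M) = mult k L d O + mult k L d (cokernel μ) at hadd
  show 0 < mult k L d (CohB1.tensorMod O M) - mult k L d O
  omega

end Groth.Agent.AVIdx
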