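import Groth.Agent.AVIdx.IsogenyEuler
import Groth.Agent.AVDegLib.MulN
import Groth.Agent.Snapper.Multi

/-!
Homogeneity of the Euler characteristic on an abelian variety: `χ(L^n) = n^g χ(L)` and `χ(L ⊗ Q) = χ(L)` for
additive classes `Q`.
-/

set_option linter.style.haveILetI false
set_option linter.unusedSectionVars false
set_option backward.isDefEq.respectTransparency false
set_option backward.isDefEq.respectTransparency.types false

universe u

open CategoryTheory CategoryTheory.Limits MonoidalCategory CartesianMonoidalCategory MonObj GrpObj AlgebraicGeometry TopologicalSpace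

namespace Groth.Agent.AVIdx

open Groth.Agent Groth.Agent.H23 Groth.Agent.AVCube
open scoped Groth.Agent.H23.PicMul

noncomputable section

/-- The Euler characteristic of a class. -/
def chiCl (k : Type u) [Field k] (X : Scheme.{u}) [X.Over (Spec (CommRingCat.of k))] (c : PicF.Cl X) : ℤ :=
  Quot.lift (Curv2.euler k X) (fun _ _ ⟨e⟩ => CurveCohLib.euler_congr (k := k) e) c

theorem chiCl_cl (k : Type u) [Field k] (X : Scheme.{u}) [X.Over (Spec (CommRingCat.of k))] (L : X.Modules) :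
    chiCl k X (PicF.cl L) = Curv2.euler k X L := rfl

/-- Euler characteristics of products of powers of two classes. -/
theorem exists_poly₂ (k : Type u) [Field k] (X : Scheme.{u}) [X.Over (Spec (CommRingCat.of k))]
    [IsProper (X ↘ Spec (CommRingCat.of k))] {g : ℕ} (hg : topologicalKrullDim X ≤ (g : WithBot ℕ∞))
    {s t : PicF.Cl X} (hs : PicF.IsInvertibleCl s) (ht : PicF.IsInvertibleCl t) :
    ∃ P : MvPolynomial (Fin 2) ℚ, P.totalDegree ≤ g ∧
      ∀ a b : ℕ, (chiCl k X (s ^ a * t ^ b) : ℚ) = MvPolynomial.eval ![(a : ℚ), (b : ℚ)] P := by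
  obtain ⟨S, rfl, hS⟩ := hs
  obtain ⟨T, rfl, hT⟩ := ht
  haveI := CurveCohLib.isNoetherian_of_proper (k := k) (X := X)
  obtain ⟨P, hP, hPn⟩ := Snapper.exists_mpoly k (L := ![S, T]) (Fin.forall_fin_two.2 ⟨hS, hT⟩)
    (M := Coh.structureModule X) QCoh.isCoh_structureModule' (d := g) ((topologicalKrullDim_subspace_le X _).trans hg)
  refine ⟨P, hP, fun a b => ?_⟩
  have h := hPn ![a, b]
  rw [show (fun i => ((![a, b] : Fin 2 → ℕ) i : ℚ)) = ![(a : ℚ), (b : ℚ)] from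
    funext (Fin.forall_fin_two.2 ⟨rfl, rfl⟩)] at h
  rw [← h]
  refine congrArg Int.cast ((?_ : _ = chiCl k X (PicF.cl _)).trans (chiCl_cl k X _))
  refine congrArg _ ?_
  show _ = PicF.cl (Coh.structureModule X) * PicF.cl (CohB1.tensorPow S a) * PicF.cl (CohB1.tensorPow T b)
  rw [PicMul.cl_tensorPow, PicMul.cl_tensorPow, ← PicMul.one_def, _root_.one_mul]

/-- A weighted homogeneous polynomial in two variables of degree at most `g` only depends on the first. -/
theorem eval_eq_of_homogeneous {P : MvPolynomial (Fin 2) ℚ} {g : ℕ} (hP : P.totalDegree ≤ g) (a b : ℕ)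
    (h : ∀ n : ℕ, 1 ≤ n → MvPolynomial.eval ![((n ^ 2 * a : ℕ) : ℚ), ((n * b : ℕ) : ℚ)] P =
      (n : ℚ) ^ (2 * g) * MvPolynomial.eval ![(a : ℚ), (b : ℚ)] P) :
    MvPolynomial.eval ![(a : ℚ), (b : ℚ)] P =
      P.coeff (Finsupp.single 0 g) * (a : ℚ) ^ g := by
  classical
  let f : Polynomial ℚ := ∑ d ∈ P.support, Polynomial.C (P.coeff d * ((a : ℚ) ^ d 0 * (b : ℚ) ^ d 1)) * Polynomial.X ^ (2 * d 0 + d 1)
  have hf : f = Polynomial.C (MvPolynomial.eval ![(a : ℚ), (b : ℚ)] P) * Polynomial.X ^ (2 * g) := by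
    refine Polynomial.eq_of_infinite_eval_eq _ _ (Set.Infinite.mono ?_
      (Set.infinite_range_of_injective (f := fun n : ℕ => ((n + 1 : ℕ) : ℚ))
        fun x y hxy => Nat.succ_injective (Nat.cast_injective hxy)))
    rintro _ ⟨n, rfl⟩
    show Polynomial.eval _ _ = Polynomial.eval _ _
    rw [Polynomial.eval_mul, Polynomial.eval_C, Polynomial.eval_pow, Polynomial.eval_X, mul_comm,
      ← h (n + 1) (Nat.succ_pos n), MvPolynomial.eval_eq', Polynomial.eval_finsetSum]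
    refine Finset.sum_congr rfl fun d _ => ?_
    rw [Polynomial.eval_mul, Polynomial.eval_C, Polynomial.eval_pow, Polynomial.eval_X, Fin.prod_univ_two]
    simp only [Matrix.cons_val_zero, Matrix.cons_val_one]
    push_cast
    rw [pow_add, pow_mul, mul_pow, mul_pow]
    ring
  have hcoef := congrArg (fun p => Polynomial.coeff p (2 * g)) hf
  simp only [Polynomial.coeff_C_mul, Polynomial.coeff_X_pow, _root_.mul_one, f, if_true,
    Polynomial.finsetSum_coeff, mul_ite, mul_zero] at hcoef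
  rw [← hcoef, Finset.sum_eq_single (Finsupp.single 0 g)]
  · simp
  · intro d hd hne
    rw [if_neg]
    intro he
    apply hne
    have hle := (MvPolynomial.le_totalDegree hd).trans hP
    rw [Finsupp.sum_fintype _ _ (fun _ => rfl), Fin.sum_univ_two] at hle
    ext i
    fin_cases i <;> simp <;> omega
  · intro hn
    simp [MvPolynomial.notMem_support_iff.1 hn]

section AV

variable {k : Type u} [Field k] {A : Over (Spec (CommRingCat.of k))}

/-- The pullback of a class along a map into `A`. -/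
abbrev pu {T : Over (Spec (CommRingCat.of k))} (f : T ⟶ A) : PicF.Cl A.left →* PicF.Cl T.left :=
  PicMul.pullHom f.left

theorem pu_pu {T T' : Over (Spec (CommRingCat.of k))} (φ : T' ⟶ T) (f : T ⟶ A) (c : PicF.Cl A.left) :
    PicMul.pullHom φ.left (pu f c) = pu (φ ≫ f) c := by
  show PicF.pullCl φ.left (PicF.pullCl f.left c) = PicF.pullCl (φ ≫ f).left c
  rw [PicClLib.pullCl_comp, Over.comp_left]

theorem pu_id (c : PicF.Cl A.left) : pu (𝟙 A) c = c := by
  show PicF.pullCl (𝟙 A : A ⟶ A).left c = c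
  rw [Over.id_left, PicClLib.pullCl_id]

variable [GrpObj A]

/-- A class which is additive on maps into `A`. -/
def IsAdd (c : PicF.Cl A.left) : Prop :=
  ∀ (T : Over (Spec (CommRingCat.of k))) (f g : T ⟶ A), pu (f * g) c = pu f c * pu g c

theorem IsAdd.mul {c d : PicF.Cl A.left} (hc : IsAdd c) (hd : IsAdd d) : IsAdd (c * d) := fun T f g => by
  rw [map_mul, map_mul, map_mul, hc, hd]; ac_rfl

theorem isAdd_one : IsAdd (1 : PicF.Cl A.left) := fun T f g => by simp only [map_one, _root_.one_mul]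

theorem IsAdd.pow {c : PicF.Cl A.left} (hc : IsAdd c) : ∀ n : ℕ, IsAdd (c ^ n)
  | 0 => by rw [pow_zero]; exact isAdd_one
  | n + 1 => by rw [pow_succ]; exact (IsAdd.pow hc n).mul hc

theorem IsAdd.pu_pow {c : PicF.Cl A.left} (hc : IsAdd c) :
    ∀ n : ℕ, pu (𝟙 A ^ (n + 1)) c = c ^ (n + 1)
  | 0 => by rw [pow_one, pow_one, pu_id]
  | n + 1 => by rw [pow_succ, hc A, IsAdd.pu_pow hc n, pu_id, ← pow_succ]

variable [IsProper A.hom] [GeometricallyIntegral A.hom]

theorem chiCl_pu_pow {g : ℕ} (hg : topologicalKrullDim A.left = g) (n : ℕ) (hn : 1 ≤ n) {c : PicF.Cl A.left}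
    (hc : PicF.IsInvertibleCl c) :
    @chiCl k _ A.left ⟨A.hom⟩ (pu (𝟙 A ^ n) c) = (n : ℤ) ^ (2 * g) * @chiCl k _ A.left ⟨A.hom⟩ c := by
  obtain ⟨L, rfl, hL⟩ := hc
  obtain ⟨hfin, hflat, -⟩ := AVDegLib.zpow_props (A := A) (n : ℤ) (by exact_mod_cast Nat.one_le_iff_ne_zero.1 hn)
  have hfr := AVDegLib.finrank_zpow (A := A) hg (n : ℤ) (by exact_mod_cast Nat.one_le_iff_ne_zero.1 hn)
  rw [zpow_natCast] at hfin hflat
  simp only [zpow_natCast, Int.natAbs_natCast] at hfr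
  haveI : IsLocallyNoetherian A.left := LocallyOfFiniteType.isLocallyNoetherian A.hom
  have h := euler_pullback_av A A (𝟙 A ^ n) (n ^ (2 * g)) hfr (F := L)
    (AmpleVan.isCoh_invertible hL)
  push_cast at h
  exact h

/-- The Euler characteristic does not see additive twists of symmetric classes and is homogeneous on them. -/
theorem chiCl_symm {g : ℕ} (hg : topologicalKrullDim A.left = g) {t : PicF.Cl A.left}
    (ht : PicF.IsInvertibleCl t) (hsym : pu ((𝟙 A)⁻¹ : A ⟶ A) t = t) :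
    ∃ c : ℚ, ∀ (a : ℕ) (q : PicF.Cl A.left), PicF.IsInvertibleCl q → IsAdd q →
      (@chiCl k _ A.left ⟨A.hom⟩ (t ^ a * q) : ℚ) = c * (a : ℚ) ^ g := by
  letI : A.left.Over (Spec (CommRingCat.of k)) := ⟨A.hom⟩
  haveI : IsProper (A.left ↘ Spec (CommRingCat.of k)) := ‹IsProper A.hom›
  obtain ⟨L, rfl, hL⟩ := ht
  have hpc : ∀ n : ℕ, pu (𝟙 A ^ n) (PicF.cl L) = PicF.cl L ^ (n ^ 2) := fun n => by
    have h := congrArg Units.val (AVMulN.pc_pow hL (Units.ext (by rw [val_pc', val_pc_id]; exact hsym)) n)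
    rwa [Units.val_pow_eq_pow_val, val_pc', val_pc_id] at h
  have hinv : PicF.IsInvertibleCl (PicF.cl L) := ⟨L, rfl, hL⟩
  have key : ∀ q : PicF.Cl A.left, PicF.IsInvertibleCl q → IsAdd q →
      ∃ c : ℚ, ∀ a b : ℕ, (chiCl k A.left (PicF.cl L ^ a * q ^ b) : ℚ) = c * (a : ℚ) ^ g := by
    intro q hq hadd
    obtain ⟨P, hP, hPn⟩ := exists_poly₂ k A.left hg.le hinv hq
    refine ⟨P.coeff (Finsupp.single 0 g), fun a b => ?_⟩
    rw [hPn, eval_eq_of_homogeneous hP a b fun n hn => ?_]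
    have hi : PicF.IsInvertibleCl (PicF.cl L ^ a * q ^ b) := by
      refine PicMul.isInvertibleCl_mul ⟨_, PicMul.cl_tensorPow L a, PicMul.isInvertible_tensorPow hL a⟩ ?_
      obtain ⟨M, rfl, hM⟩ := hq
      exact ⟨_, PicMul.cl_tensorPow M b, PicMul.isInvertible_tensorPow hM b⟩
    have h := chiCl_pu_pow hg n hn hi
    obtain ⟨m, rfl⟩ := Nat.exists_eq_add_of_le' hn
    rw [map_mul, map_pow, map_pow, hpc, IsAdd.pu_pow hadd, ← pow_mul, ← pow_mul] at h
    rw [← hPn, ← hPn, h]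
    push_cast
    rfl
  have hone : PicF.IsInvertibleCl (1 : PicF.Cl A.left) :=
    ⟨_, rfl, PicLoc.isInvertible_structureModule A.left⟩
  obtain ⟨c, hc⟩ := key 1 hone isAdd_one
  refine ⟨c, fun a q hq hadd => ?_⟩
  obtain ⟨c', hc'⟩ := key q hq hadd
  have h0 := hc' a 0
  rw [pow_zero, _root_.mul_one] at h0
  have h1 := hc a 0
  rw [pow_zero, _root_.mul_one] at h1
  have h2 := hc' a 1
  rw [pow_one] at h2
  rw [h2, ← h0, h1]

theorem exists_split {c : PicF.Cl A.left} (hc : PicF.IsInvertibleCl c) :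
    ∃ t d : PicF.Cl A.left, PicF.IsInvertibleCl t ∧ PicF.IsInvertibleCl d ∧
      pu ((𝟙 A)⁻¹ : A ⟶ A) t = t ∧ IsAdd d ∧ c ^ 2 = t * d := by
  haveI : IsCommMonObj A := isCommMonObj_of_isProper_of_geometricallyIntegral A
  obtain ⟨L, rfl, hL⟩ := hc
  obtain ⟨L', hL', he⟩ := PicInv.exists_inverse hL
  have he' : PicF.cl L * PicF.cl L' = 1 := (PicGrp.cl_eq_cl_iff _ _).2 he
  have hinv : ((𝟙 A)⁻¹ : A ⟶ A) ≫ (𝟙 A)⁻¹ = 𝟙 A := by rw [GrpObj.comp_inv, Category.comp_id, _root_.inv_inv]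
  have hinvcl : ∀ (f : A ⟶ A) (M : A.left.Modules), PicF.IsInvertible M → PicF.IsInvertibleCl (pu f (PicF.cl M)) :=
    fun f M hM => PicClLib.isInvertibleCl_pullCl f.left ⟨M, rfl, hM⟩
  refine ⟨PicF.cl L * pu (𝟙 A)⁻¹ (PicF.cl L), PicF.cl L * pu (𝟙 A)⁻¹ (PicF.cl L'),
    PicMul.isInvertibleCl_mul ⟨L, rfl, hL⟩ (hinvcl _ L hL), PicMul.isInvertibleCl_mul ⟨L, rfl, hL⟩ (hinvcl _ L' hL'),
    ?_, fun T f g => ?_, ?_⟩
  · rw [map_mul]
    show _ * PicMul.pullHom ((𝟙 A)⁻¹ : A ⟶ A).left (pu (𝟙 A)⁻¹ (PicF.cl L)) = _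
    rw [pu_pu, hinv, pu_id, _root_.mul_comm]
  · simp only [map_mul]
    show pu (f * g) (PicF.cl L) * PicMul.pullHom (f * g).left (pu (𝟙 A)⁻¹ (PicF.cl L')) =
      pu f (PicF.cl L) * PicMul.pullHom f.left (pu (𝟙 A)⁻¹ (PicF.cl L')) *
        (pu g (PicF.cl L) * PicMul.pullHom g.left (pu (𝟙 A)⁻¹ (PicF.cl L')))
    simp only [pu_pu, GrpObj.comp_inv, Category.comp_id]
    have h := congrArg Units.val (cube_rel hL (f * g) f⁻¹ g⁻¹)
    have e1 : f * g * f⁻¹ * g⁻¹ = (1 : T ⟶ A) := by rw [mul_comm f g, mul_inv_cancel_right, mul_inv_cancel]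
    have e2 : f * g * f⁻¹ = g := by rw [mul_comm f g, mul_inv_cancel_right]
    have e3 : f * g * g⁻¹ = f := mul_inv_cancel_right f g
    have e4 : f⁻¹ * g⁻¹ = (f * g)⁻¹ := (_root_.mul_inv f g).symm
    rw [e1, e2, e3, e4, pc_one, _root_.one_mul] at h
    simp only [Units.val_mul, val_pc'] at h
    have hh : ∀ v : T ⟶ A, pu v (PicF.cl L) * pu v (PicF.cl L') = 1 := fun v => by rw [← map_mul, he', map_one]
    calc pu (f * g) (PicF.cl L) * pu (f * g)⁻¹ (PicF.cl L')
        = (pu (f * g) (PicF.cl L) * pu (f * g)⁻¹ (PicF.cl L')) *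
          ((pu f⁻¹ (PicF.cl L) * pu f⁻¹ (PicF.cl L')) * (pu g⁻¹ (PicF.cl L) * pu g⁻¹ (PicF.cl L'))) := by
          rw [hh, hh, _root_.one_mul, _root_.mul_one]
      _ = (pu (f * g) (PicF.cl L) * pu f⁻¹ (PicF.cl L) * pu g⁻¹ (PicF.cl L)) *
          (pu (f * g)⁻¹ (PicF.cl L') * pu f⁻¹ (PicF.cl L') * pu g⁻¹ (PicF.cl L')) := by ac_rfl
      _ = (pu g (PicF.cl L) * pu f (PicF.cl L) * pu (f * g)⁻¹ (PicF.cl L)) *
          (pu (f * g)⁻¹ (PicF.cl L') * pu f⁻¹ (PicF.cl L') * pu g⁻¹ (PicF.cl L')) := congrArg (· * _) h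
      _ = (pu f (PicF.cl L) * pu f⁻¹ (PicF.cl L') * (pu g (PicF.cl L) * pu g⁻¹ (PicF.cl L'))) *
          (pu (f * g)⁻¹ (PicF.cl L) * pu (f * g)⁻¹ (PicF.cl L')) := by ac_rfl
      _ = _ := by rw [hh, _root_.mul_one]
  · have : pu ((𝟙 A)⁻¹ : A ⟶ A) (PicF.cl L) * pu ((𝟙 A)⁻¹ : A ⟶ A) (PicF.cl L') = 1 := by
      rw [← map_mul, he', map_one]
    calc PicF.cl L ^ 2 = PicF.cl L ^ 2 * (pu (𝟙 A)⁻¹ (PicF.cl L) * pu (𝟙 A)⁻¹ (PicF.cl L')) := by
          rw [this, _root_.mul_one]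
      _ = _ := by rw [pow_two]; ac_rfl

/-- `χ` is homogeneous of degree `g` and does not see additive classes. -/
theorem chiCl_pow_mul {g : ℕ} (hg : topologicalKrullDim A.left = g) {c : PicF.Cl A.left}
    (hc : PicF.IsInvertibleCl c) {q : PicF.Cl A.left} (hq : PicF.IsInvertibleCl q) (hadd : IsAdd q) (a : ℕ) :
    @chiCl k _ A.left ⟨A.hom⟩ (c ^ a * q) = (a : ℤ) ^ g * @chiCl k _ A.left ⟨A.hom⟩ c := by
  letI : A.left.Over (Spec (CommRingCat.of k)) := ⟨A.hom⟩
  haveI : IsProper (A.left ↘ Spec (CommRingCat.of k)) := ‹IsProper A.hom›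
  obtain ⟨t, d, ht, hd, hsym, hdadd, he⟩ := exists_split hc
  obtain ⟨C, hC⟩ := chiCl_symm hg ht hsym
  have hpow : ∀ {x : PicF.Cl A.left}, PicF.IsInvertibleCl x → ∀ n : ℕ, PicF.IsInvertibleCl (x ^ n) := by
    rintro _ ⟨M, rfl, hM⟩ n
    exact ⟨_, PicMul.cl_tensorPow M n, PicMul.isInvertible_tensorPow hM n⟩
  have hone : PicF.IsInvertibleCl (1 : PicF.Cl A.left) :=
    ⟨_, rfl, PicLoc.isInvertible_structureModule A.left⟩
  have main : ∀ r : PicF.Cl A.left, PicF.IsInvertibleCl r → IsAdd r → ∀ x : ℕ,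
      (chiCl k A.left (c ^ x * r) : ℚ) = C / 2 ^ g * (x : ℚ) ^ g := by
    intro r hr hra x
    obtain ⟨P, -, hPn⟩ := exists_poly₂ k A.left hg.le hc hr
    let f : Polynomial ℚ := MvPolynomial.eval₂ Polynomial.C ![Polynomial.X, 1] P
    have hf : ∀ y : ℚ, f.eval y = MvPolynomial.eval ![y, 1] P := fun y => by
      show (Polynomial.evalRingHom y) _ = _
      rw [MvPolynomial.eval₂_comp_left, MvPolynomial.eval]
      congr 1
      · ext a; simp
      · ext i; fin_cases i <;> simp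
    have heq : f = Polynomial.C (C / 2 ^ g) * Polynomial.X ^ g := by
      refine Polynomial.eq_of_infinite_eval_eq _ _ (Set.Infinite.mono ?_
        (Set.infinite_range_of_injective (f := fun n : ℕ => ((2 * n : ℕ) : ℚ))
          fun x y hxy => by simpa using Nat.cast_injective hxy))
      rintro _ ⟨n, rfl⟩
      show Polynomial.eval _ _ = Polynomial.eval _ _
      rw [hf, show (1 : ℚ) = ((1 : ℕ) : ℚ) from Nat.cast_one.symm, ← hPn, pow_one, pow_mul, he, mul_pow,
        _root_.mul_assoc, hC n _ (PicMul.isInvertibleCl_mul (hpow hd n) hr) ((hdadd.pow n).mul hra)]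
      rw [Polynomial.eval_mul, Polynomial.eval_C, Polynomial.eval_pow, Polynomial.eval_X]
      push_cast
      rw [mul_pow]
      field_simp
    have h := hPn x 1
    rw [pow_one, Nat.cast_one, ← hf, heq] at h
    simpa using h
  have h1 := main q hq hadd a
  have h2 := main 1 hone isAdd_one 1
  simp only [pow_one, _root_.mul_one, Nat.cast_one, one_pow] at h2
  have h3 : (chiCl k A.left (c ^ a * q) : ℚ) = (((a : ℤ) ^ g * chiCl k A.left c : ℤ) : ℚ) := by
    push_cast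
    rw [h1, h2]
    ring
  exact_mod_cast h3

end AV

end

end Groth.Agent.AVIdx
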