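import Groth.Agent.S12131
import Groth.Agent.QCoh.FlatBC
import Groth.Agent.VarBase.Decomp
import Groth.Agent.VarBase.Restrict
import Groth.Agent.Lib.Euler
import Groth.Agent.ZClosLib.CohDescent
import Groth.Agent.KFlatLib.Scheme.FlatDescent
import Groth.Agent.FlatMisc.DimConstr

/-!
Euler characteristics of pullbacks along finite flat morphisms `f` with `X ×_Y X ≅ X × K`, `K` finite over
the ground field: `χ(X, f^*F) = rank K * χ(Y, F)`.
-/

set_option linter.style.haveILetI false
set_option backward.isDefEq.respectTransparency false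
set_option backward.isDefEq.respectTransparency.types false

universe u

open CategoryTheory CategoryTheory.Limits AlgebraicGeometry TopologicalSpace Opposite
open scoped TensorProduct

namespace Groth.Agent.AVIdx

open Groth.Agent

variable (k : Type u) [Field k]

variable {k} in
/-- A scheme of finite type over a field has finite dimension. -/
theorem exists_dim_le {X : Scheme.{u}} (f : X ⟶ Spec (CommRingCat.of k)) [LocallyOfFiniteType f] [QuasiCompact f] :
    ∃ n : ℕ, topologicalKrullDim X ≤ (n : WithBot ℕ∞) := by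
  obtain ⟨n, hn⟩ := FlatMisc.DimConstr.exists_dim_le f (IsLocalRing.closedPoint k)
  have hsurj : Function.Surjective (f.fiberι (IsLocalRing.closedPoint k)) := fun x => by
    have : x ∈ Set.range (f.fiberι (IsLocalRing.closedPoint k)) := by
      rw [Scheme.Hom.range_fiberι]
      exact @Subsingleton.elim (Spec (CommRingCat.of k)) inferInstance _ _
    exact this
  refine ⟨n, le_trans (le_of_eq ?_) hn⟩
  refine (IsHomeomorph.topologicalKrullDim_eq (f.fiberι (IsLocalRing.closedPoint k)) ?_).symm
  exact isHomeomorph_iff_isEmbedding_surjective.2 ⟨(f.fiberι _).isEmbedding, hsurj⟩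

/-- Euler characteristic after a finite extension of scalars. -/
theorem euler_bc {X W : Scheme.{u}} [X.Over (Spec (CommRingCat.of k))] [W.Over (Spec (CommRingCat.of k))]
    [IsProper (X ↘ Spec (CommRingCat.of k))]
    (B : Type u) [CommRing B] [Algebra k B] [Module.Finite k B] (q : W ⟶ X) (pB : W ⟶ Spec (CommRingCat.of B))
    (h : IsPullback q pB (X ↘ Spec (CommRingCat.of k)) (Spec.map (CommRingCat.ofHom (algebraMap k B))))
    (hW : pB ≫ Spec.map (CommRingCat.ofHom (algebraMap k B)) = W ↘ Spec (CommRingCat.of k))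
    {G : X.Modules} (hG : Coh.IsQCoh G) :
    Curv2.euler k W ((Scheme.Modules.pullback q).obj G) = Module.finrank k B * Curv2.euler k X G := by
  haveI : CompactSpace X := QuasiCompact.compactSpace_of_compactSpace (X ↘ Spec (CommRingCat.of k))
  haveI : QuasiSeparatedSpace X := by
    rw [quasiSeparatedSpace_iff_quasiSeparated]
    rw [show terminal.from X = (X ↘ Spec (CommRingCat.of k)) ≫ terminal.from _ from terminal.hom_ext _ _]
    infer_instance
  rw [Curv2.euler, Curv2.euler, mul_finsum]
  refine finsum_congr fun n => ?_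
  letI := QCoh.modHH (Coh.toGlobal pB) ((Scheme.Modules.pullback q).obj G) n
  obtain ⟨e⟩ := QCoh.HH_flatBaseChange (A := k) (B := B) h hG n
  have hs : ∀ (a : k) (x : Coh.HH W ((Scheme.Modules.pullback q).obj G) n),
      a • x = algebraMap k B a • x := fun a x => by
    show Sheaf.H.map (Coh.smulAb _ (Coh.toGlobal (W ↘ Spec (CommRingCat.of k)) a)) n x =
      Sheaf.H.map (Coh.smulAb _ (Coh.toGlobal pB (algebraMap k B a))) n x
    rw [← hW, Coh.toGlobal, Coh.toGlobal, Scheme.Hom.comp_appTop]
    simp only [RingHom.comp_apply, CommRingCat.hom_comp]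
    exact congrArg (fun t => Sheaf.H.map (Coh.smulAb _ (pB.appTop.hom t)) n x)
      (congr($(Scheme.ΓSpecIso_inv_naturality (CommRingCat.ofHom (algebraMap k B))) a)).symm
  let e' : B ⊗[k] Coh.HH X G n ≃ₗ[k] Coh.HH W ((Scheme.Modules.pullback q).obj G) n :=
    { e.toAddEquiv with
      map_smul' := fun a x => by
        show e (a • x) = a • e x
        rw [hs, ← e.map_smul, algebraMap_smul] }
  rw [← e'.finrank_eq, Module.finrank_tensorProduct]
  push_cast
  ring

/-- The support of a direct image. -/
theorem support_push_subset_closed {X Y : Scheme.{u}} (f : X ⟶ Y) [QuasiCompact f] [QuasiSeparated f] {M : X.Modules}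
    (hM : Coh.IsQCoh M) {T : Set Y} (hT : IsClosed T) (hr : Set.range f ⊆ T) :
    CohB1.support ((Coh.push f).obj M) ⊆ T := fun x hx => by
  by_contra hc
  obtain ⟨_, ⟨U, hU, rfl⟩, hxU, hsub⟩ := Y.isBasis_affineOpens.exists_subset_of_mem_open hc hT.isOpen_compl
  obtain ⟨m, hm⟩ := (QCoh.mem_support_iff (QCoh.isQCoh_pushforward f hM) hU hxU).1 hx
  have hbot : f ⁻¹ᵁ U = ⊥ := bot_unique fun z hz => hsub hz (hr ⟨z, rfl⟩)
  have h1 : (f.app U) 1 = (f.app U) 0 := by
    haveI : Subsingleton Γ(X, f ⁻¹ᵁ U) := by rw [hbot]; infer_instance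
    exact Subsingleton.elim _ _
  refine hm 1 (by rw [Scheme.basicOpen_of_isUnit _ isUnit_one]; exact hxU) ?_
  refine (QCoh.pushforward_smul f U 1 m).trans ?_
  rw [h1, map_zero]
  exact zero_smul Γ(X, f ⁻¹ᵁ U) (show Γ(M, f ⁻¹ᵁ U) from m)

/-- The image of a point is in the support of the direct image of the structure sheaf. -/
theorem mem_support_push_structure {X Y : Scheme.{u}} (f : X ⟶ Y) [QuasiCompact f] [QuasiSeparated f] (z : X) :
    f z ∈ CohB1.support ((Coh.push f).obj (Coh.structureModule X)) := by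
  obtain ⟨U, hU, hzU⟩ := QCoh.exists_affine_mem (f z)
  refine (QCoh.mem_support_iff (QCoh.isQCoh_pushforward f QCoh.isQCoh_structureModule) hU hzU).2
    ⟨(show Γ(Coh.structureModule X, f ⁻¹ᵁ U) from (1 : Γ(X, f ⁻¹ᵁ U))), fun a ha h0 => ?_⟩
  have h0' : (f.app U) a * (1 : Γ(X, f ⁻¹ᵁ U)) = 0 := (QCoh.pushforward_smul f U a
    (show Γ(Coh.structureModule X, f ⁻¹ᵁ U) from (1 : Γ(X, f ⁻¹ᵁ U)))).symm.trans h0
  rw [mul_one] at h0'
  have : z ∈ X.basicOpen ((f.app U) a) := by rw [← Scheme.preimage_basicOpen]; exact ha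
  rw [h0', Scheme.basicOpen_zero] at this
  exact this

/-- A quasi-coherent module with empty support vanishes. -/
theorem isZero_of_support_empty {X : Scheme.{u}} {M : X.Modules} (hM : Coh.IsQCoh M)
    (h : CohB1.support M = ∅) : IsZero M := by
  refine QCoh.isZero_of_app_eq_zero hM fun U x => by_contra fun hx => ?_
  let I : Ideal Γ(X, U.1) :=
    { carrier := {a | a • x = 0}
      add_mem' := fun {a b} (ha : a • x = 0) (hb : b • x = 0) => show (a + b) • x = 0 by rw [add_smul, ha, hb, add_zero]
      zero_mem' := zero_smul _ x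
      smul_mem' := fun c a (ha : a • x = 0) => show (c * a) • x = 0 by rw [mul_smul, ha, smul_zero] }
  have hI : I ≠ ⊤ := fun e => hx (by rw [← one_smul Γ(X, U.1) x]; exact (Ideal.eq_top_iff_one I).1 e)
  obtain ⟨m, hm, hle⟩ := Ideal.exists_le_maximal I hI
  let q : PrimeSpectrum Γ(X, U.1) := ⟨m, hm.isPrime⟩
  have hq : U.2.fromSpec q ∈ U.1 := by rw [← SetLike.mem_coe, ← U.2.range_fromSpec]; exact ⟨q, rfl⟩
  have : U.2.fromSpec q ∈ CohB1.support M := (QCoh.mem_support_iff hM U.2 hq).2
    ⟨x, fun a ha h0 => (QCoh.mem_basicOpen_fromSpec U.2 q a).1 ha (hle h0)⟩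
  rw [h] at this
  exact this

section

variable {X Y W : Scheme.{u}} [X.Over (Spec (CommRingCat.of k))] [Y.Over (Spec (CommRingCat.of k))]
  [IsProper (X ↘ Spec (CommRingCat.of k))] [IsProper (Y ↘ Spec (CommRingCat.of k))]
  (f : X ⟶ Y) [IsFinite f] [Flat f] [Surjective f]
  (hf : f ≫ (Y ↘ Spec (CommRingCat.of k)) = X ↘ Spec (CommRingCat.of k))
  (q₁ q₂ : W ⟶ X) (hsq : IsPullback q₂ q₁ f f)
  (B : Type u) [CommRing B] [Algebra k B] [Module.Finite k B] (pB : W ⟶ Spec (CommRingCat.of B))
  (hbc : IsPullback q₂ pB (X ↘ Spec (CommRingCat.of k)) (Spec.map (CommRingCat.ofHom (algebraMap k B))))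

/-- The defect of multiplicativity. -/
noncomputable def defect (F : Y.Modules) : ℤ :=
  Curv2.euler k X ((Scheme.Modules.pullback f).obj F) - Module.finrank k B * Curv2.euler k Y F

include hf hsq hbc in
theorem defect_push {G : X.Modules} (hG : Coh.IsCoh G) : defect k f B ((Coh.push f).obj G) = 0 := by
  letI : W.Over (Spec (CommRingCat.of k)) := ⟨pB ≫ Spec.map (CommRingCat.ofHom (algebraMap k B))⟩
  haveI : IsAffineHom q₁ := MorphismProperty.of_isPullback hsq inferInstance
  haveI : Coh.IsQCoh G := hG.1
  haveI := S12131.result f f q₂ q₁ hsq G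
  let e : (Scheme.Modules.pullback f).obj ((Coh.push f).obj G) ≅
      (Coh.push q₁).obj ((Scheme.Modules.pullback q₂).obj G) :=
    asIso (((Scheme.Modules.pullbackPushforwardAdjunction f).homEquiv ((Scheme.Modules.pushforward f).obj G)
      ((Scheme.Modules.pushforward q₁).obj ((Scheme.Modules.pullback q₂).obj G))).symm
      ((Scheme.Modules.pushforward f).map ((Scheme.Modules.pullbackPushforwardAdjunction q₂).unit.app G) ≫
        (Scheme.Modules.pushforwardComp q₂ f).hom.app ((Scheme.Modules.pullback q₂).obj G) ≫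
        (Scheme.Modules.pushforwardCongr hsq.w).hom.app ((Scheme.Modules.pullback q₂).obj G) ≫
        (Scheme.Modules.pushforwardComp q₁ f).inv.app ((Scheme.Modules.pullback q₂).obj G)))
  have hq₁ : q₁ ≫ (X ↘ Spec (CommRingCat.of k)) = W ↘ Spec (CommRingCat.of k) := by
    rw [← hf, ← Category.assoc, ← hsq.w, Category.assoc, hf]
    exact hbc.w
  rw [defect, Euler.euler_congr k e, VarBase.euler_push q₁ k hq₁ (QCoh.isQCoh_pullback q₂ hG.1),
    euler_bc k B q₂ pB hbc rfl hG.1, VarBase.euler_push f k hf hG.1, sub_self]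

include hf hsq hbc in
/-- The Euler characteristic of a pullback. -/
theorem euler_pullback {F : Y.Modules} (hF : Coh.IsCoh F) :
    Curv2.euler k X ((Scheme.Modules.pullback f).obj F) = Module.finrank k B * Curv2.euler k Y F := by
  haveI : IsNoetherian Y := CurveCohLib.isNoetherian_of_proper (k := k) (X := Y)
  haveI : IsNoetherian X := CurveCohLib.isNoetherian_of_proper (k := k) (X := X)
  let Ψ := defect k f B (X := X) (Y := Y)
  suffices H : ∀ (d : ℕ) (M : Y.Modules), Coh.IsCoh M →
      topologicalKrullDim ↥(CohB1.support M) < (d : WithBot ℕ∞) → Ψ M = 0 by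
    obtain ⟨n, hn⟩ := exists_dim_le (k := k) (Y ↘ Spec (CommRingCat.of k))
    exact sub_eq_zero.1 (H (n + 1) F hF
      (((topologicalKrullDim_subspace_le Y _).trans hn).trans_lt (by exact_mod_cast Nat.lt_succ_self n)))
  have hiso : ∀ M N : Y.Modules, Nonempty (M ≅ N) → Ψ M = Ψ N := fun M N ⟨e⟩ => by
    simp only [Ψ, defect, Euler.euler_congr k e, Euler.euler_congr k ((Scheme.Modules.pullback f).mapIso e)]
  have hadd : ∀ S : ShortComplex Y.Modules, S.ShortExact → Coh.IsCoh S.X₁ → Coh.IsCoh S.X₂ → Coh.IsCoh S.X₃ →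
      Ψ S.X₂ = Ψ S.X₁ + Ψ S.X₃ := fun S hS h₁ h₂ h₃ => by
    haveI := KFlatLib.preservesHomology_pullback f
    haveI : PreservesFiniteLimits (Scheme.Modules.pullback f) :=
      (Scheme.Modules.pullback f).preservesFiniteLimits_of_preservesHomology
    have hS' : (S.map (Scheme.Modules.pullback f)).ShortExact := hS.map_of_exact _
    simp only [Ψ, defect]
    rw [Euler.euler_add k hS h₁ h₂ h₃]
    have := Euler.euler_add k hS' (ZClosLib.isCoh_pullback f h₁) (ZClosLib.isCoh_pullback f h₂)
      (ZClosLib.isCoh_pullback f h₃)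
    simp only [ShortComplex.map_X₁, ShortComplex.map_X₂, ShortComplex.map_X₃] at this
    rw [this]
    ring
  intro d
  induction d with
  | zero =>
    intro M hM hd
    have hempty : CohB1.support M = ∅ := by
      by_contra hne
      exact (VarBase.dim_nonneg_of_nonempty (Set.nonempty_iff_ne_empty.2 hne)).not_gt (by simpa using hd)
    have hz : IsZero M := isZero_of_support_empty hM.1 hempty
    simp only [Ψ, defect]
    rw [show Curv2.euler k Y M = 0 from finsum_eq_zero_of_forall_eq_zero fun i => by
        haveI := Euler.subsingleton_HH_of_isZero hz i; simp [Module.finrank_zero_of_subsingleton],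
      show Curv2.euler k X ((Scheme.Modules.pullback f).obj M) = 0 from finsum_eq_zero_of_forall_eq_zero fun i => by
        haveI := Euler.subsingleton_HH_of_isZero ((Scheme.Modules.pullback f).map_isZero hz) i
        simp [Module.finrank_zero_of_subsingleton]]
    ring
  | succ d ih =>
    intro M hM hd
    have hle : ∀ T : Set Y, topologicalKrullDim ↥T < ((d + 1 : ℕ) : WithBot ℕ∞) →
        topologicalKrullDim ↥T ≤ (d : WithBot ℕ∞) := fun T h => by
      generalize topologicalKrullDim ↥T = a at h ⊢
      induction a using WithBot.recBotCoe with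
      | bot => exact bot_le
      | coe a =>
        induction a using ENat.recTopCoe with
        | top => exact absurd h (by exact_mod_cast not_top_lt)
        | coe a => exact_mod_cast Nat.lt_succ_iff.1 (by exact_mod_cast h)
    rw [VarBase.eq_compSum Ψ hiso d hadd ih hM (hle _ hd)]
    refine finsum_eq_zero_of_forall_eq_zero fun ξ => ?_
    split_ifs with hξ
    · suffices Ψ (ClSub.quotMod (VarBase.clIdeal ξ)) = 0 by rw [this, smul_zero]
      obtain ⟨x, hx⟩ := f.surjective ξ
      let i := (VarBase.clIdeal x).subschemeι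
      let G := ClSub.quotMod (VarBase.clIdeal x)
      have hG : Coh.IsCoh G := VarBase.isCoh_quot _
      let N := (Coh.push f).obj G
      let N' := (Coh.push (i ≫ f)).obj (Coh.structureModule _)
      have hN : Coh.IsCoh N := QCoh.isCoh_pushforward_finite f hG
      let eN : N ≅ N' := (Scheme.Modules.pushforwardComp i f).app _
      have hN' : Coh.IsCoh N' := QCoh.isCoh_of_mono eN.inv hN (QCoh.isQCoh_pushforward _ QCoh.isQCoh_structureModule)
      have hr : Set.range (i ≫ f) ⊆ closure ({ξ} : Set Y) := by
        rintro _ ⟨z, rfl⟩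
        have : i z ∈ closure ({x} : Set X) := VarBase.range_clIdeal x ▸ ⟨z, rfl⟩
        exact closure_mono (by simp [hx]) (image_closure_subset_closure_image f.continuous ⟨_, this, rfl⟩)
      have hsupp : CohB1.support N' ⊆ closure ({ξ} : Set Y) :=
        support_push_subset_closed _ QCoh.isQCoh_structureModule isClosed_closure hr
      have hξN : ξ ∈ CohB1.support N' := by
        obtain ⟨z, hz⟩ : x ∈ Set.range i := VarBase.range_clIdeal x ▸ subset_closure rfl
        have := mem_support_push_structure (i ≫ f) z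
        rwa [Scheme.Hom.comp_apply, hz, hx] at this
      have hdim : topologicalKrullDim ↥(CohB1.support N') ≤ (d : WithBot ℕ∞) :=
        (H23.TopDim.dim_le_dim_of_subset hsupp).trans hξ.le
      have h0 : Ψ N' = 0 := (hiso _ _ ⟨eN⟩).symm.trans (defect_push k f hf q₁ q₂ hsq B pB hbc hG)
      rw [VarBase.eq_compSum Ψ hiso d hadd ih hN' hdim, VarBase.compSum, finsum_eq_single _ ξ, if_pos hξ] at h0
      · refine (smul_eq_zero.1 h0).resolve_left fun hl => ?_
        rcases (ENat.toNat_eq_zero.1 hl) with hl | hl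
        · haveI : Subsingleton (N'.presheaf.stalk ξ) := Module.length_eq_zero_iff.1 hl
          exact hξN ‹_›
        · exact VarBase.length_ne_top hN' hdim hξ hl
      · intro ζ hne
        split_ifs with hζ
        · rw [VarBase.lenAt_eq_zero, zero_smul]
          intro hζM
          exact hne (VarBase.eq_of_specializes_of_dim isClosed_closure hξ.le (subset_closure rfl)
            (specializes_iff_mem_closure.2 (hsupp hζM)) hζ).symm
        · rfl
    · rfl

end

end Groth.Agent.AVIdx
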