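import Groth.Agent.AVIdx.Simple
import Groth.Agent.AVIdx.EulerHom

/-!
Abelian subvarieties inside an infinite stabilizer of a class, and the seesaw principle along them.
-/

set_option linter.style.haveILetI false
set_option linter.unusedSectionVars false
set_option backward.isDefEq.respectTransparency false
set_option backward.isDefEq.respectTransparency.types false

universe u

open CategoryTheory CategoryTheory.Limits MonoidalCategory CartesianMonoidalCategory MonObj GrpObj AlgebraicGeometry TopologicalSpace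

namespace Groth.Agent.AVIdx

open Groth.Agent Groth.Agent.H23 Groth.Agent.H23.TrivBasic Groth.Agent.InvX Groth.Agent.AVAmple Groth.Agent.AVPair
open scoped Groth.Agent.H23.PicMul

variable {k : Type u} [Field k] [IsAlgClosed k]

/-- An invertible module on a product trivial on a vertical slice and on all horizontal rational slices is trivial. -/
theorem triv_of_slices (X Y : Over (Spec (CommRingCat.of k))) [IsProper X.hom] [GeometricallyIntegral X.hom]
    [LocallyOfFiniteType Y.hom] [IsIntegral Y.left] (x₀ : 𝟙_ (Over (Spec (CommRingCat.of k))) ⟶ X)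
    {M : (X ⊗ Y).left.Modules} (hM : PicF.IsInvertible M)
    (hσ : Triv ((Scheme.Modules.pullback (lift (toUnit Y ≫ x₀) (𝟙 Y)).left).obj M))
    (hall : ∀ b : 𝟙_ (Over (Spec (CommRingCat.of k))) ⟶ Y,
      Triv ((Scheme.Modules.pullback (lift (𝟙 X) (toUnit X ≫ b)).left).obj M)) : Triv M := by
  haveI : IsProper (snd X Y).left := inferInstanceAs (IsProper (pullback.snd X.hom Y.hom))
  haveI : Flat (snd X Y).left := inferInstanceAs (Flat (pullback.snd X.hom Y.hom))
  haveI : GeometricallyIntegral (snd X Y).left := inferInstanceAs (GeometricallyIntegral (pullback.snd X.hom Y.hom))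
  haveI : IsLocallyNoetherian Y.left := LocallyOfFiniteType.isLocallyNoetherian Y.hom
  haveI : JacobsonSpace ↥Y.left := LocallyOfFiniteType.jacobsonSpace Y.hom
  have hfield : ∀ w, SeesawGlobal.FieldTriv (snd X Y).left M w := by
    intro w
    have hsub : closedPoints Y.left ⊆ {w | SeesawGlobal.FieldTriv (snd X Y).left M w} := by
      intro z hz
      obtain ⟨p, hp⟩ := ((pointEquivClosedPoint Y.hom).surjective ⟨z, hz⟩)
      have hz' : (Over.homMk p.1 p.2 : 𝟙_ (Over (Spec (CommRingCat.of k))) ⟶ Y).left (IsLocalRing.closedPoint k) = z :=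
        congrArg Subtype.val hp
      rw [← hz']
      exact fieldTriv_of_slice X Y hM _ (hall _)
    exact closure_minimal hsub (SeesawGlobal.isClosed_fieldTriv (snd X Y).left hM)
      (by rw [closure_closedPoints]; trivial)
  refine SeesawGlobal.triv_of_section (f := (snd X Y).left) (fun U => Rigid.bijective_app_snd X.hom Y.hom U)
    (lift (toUnit Y ≫ x₀) (𝟙 Y)).left (by rw [← Over.comp_left, lift_snd]; rfl) hσ
    fun w => SeesawGlobal.exists_frame_of_isReduced (snd X Y).left hM
      (fun v K _ k' _ => by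
        show Function.Bijective (pullback.snd (pullback.snd X.hom Y.hom) k').appTop
        rw [← pullbackLeftPullbackSndIso_hom_snd X.hom Y.hom k', Scheme.Hom.comp_appTop]
        exact (SeesawGlobal.bijective_appTop_iso (pullbackLeftPullbackSndIso X.hom Y.hom k')).comp
          (Rigid.bijective_app_snd X.hom (k' ≫ Y.hom) ⊤))
      hfield w

variable {A : Over (Spec (CommRingCat.of k))} [GrpObj A] [IsProper A.hom] [GeometricallyIntegral A.hom]

/-- An infinite stabilizer of a class contains the rational points of a positive-dimensional abelian subvariety. -/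
theorem exists_fixed_subvariety {c : PicF.Cl A.left} (hc : PicF.IsInvertibleCl c)
    (hinf : Set.Infinite {a : 𝟙_ (Over (Spec (CommRingCat.of k))) ⟶ A | pl (tr a) c = c}) :
    ∃ (B : Over (Spec (CommRingCat.of k))) (_ : GrpObj B) (incl : B ⟶ A), IsMonHom incl ∧
      IsClosedImmersion incl.left ∧ GeometricallyIntegral B.hom ∧ IsProper B.hom ∧ Infinite ↥B.left ∧
      ∀ b : 𝟙_ (Over (Spec (CommRingCat.of k))) ⟶ B, pl (tr (b ≫ incl)) c = c := by
  classical
  haveI : IsIntegral A.left := GeometricallyIntegral.isIntegral_of_subsingleton A.hom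
  haveI : IsCommMonObj A := isCommMonObj_of_isProper_of_geometricallyIntegral A
  haveI : JacobsonSpace A.left := LocallyOfFiniteType.jacobsonSpace A.hom
  haveI : IsLocallyNoetherian A.left := LocallyOfFiniteType.isLocallyNoetherian A.hom
  haveI : CompactSpace A.left := QuasiCompact.compactSpace_of_compactSpace A.hom
  haveI : IsNoetherian A.left := {}
  obtain ⟨d, hd, hcd⟩ := exists_inv (PicMul.isInvertibleCl_mul (isInv_pl (fst A A) hc) (isInv_pl (snd A A) hc))
  obtain ⟨M, hMd, hM⟩ := PicMul.isInvertibleCl_mul (isInv_pl (fst A A * snd A A) hc) hd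
  let Z : Set A.left := {w | SeesawGlobal.FieldTriv (snd A A).left M w}
  have hZ : IsClosed Z := CubeAb.isClosed_locus hM
  let H := fixing hc
  have hmem : ∀ a, pt a ∈ Z ↔ a ∈ H := by
    intro a
    have key : Triv ((Scheme.Modules.pullback (lift (𝟙 A) (toUnit A ≫ a)).left).obj M) ↔
        pl (𝟙 A * (toUnit A ≫ a)) c = c := by
      have e : pl (lift (𝟙 A) (toUnit A ≫ a)) (PicF.cl M) =
          pl (𝟙 A * (toUnit A ≫ a)) c * pl (lift (𝟙 A) (toUnit A ≫ a)) d := by
        rw [hMd, map_mul, pl_pl, MonObj.comp_mul, lift_fst, lift_snd]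
      have e' : c * pl (lift (𝟙 A) (toUnit A ≫ a)) d = 1 := by
        have := congrArg (pl (lift (𝟙 A) (toUnit A ≫ a))) hcd
        simpa only [map_mul, map_one, pl_pl, lift_fst, lift_snd, pl_id, pl_const hc a, _root_.mul_one] using this
      rw [triv_iff, e]
      exact ⟨fun h => eq_of_mul_inv e' h, fun h => by rw [h, e']⟩
    refine Iff.trans ⟨fun h => ?_, fun h => CubeAb.fieldTriv_of_rational hM a h⟩ key
    refine SeesawGlobal.triv_of_factor
      (pullback.lift (lift (𝟙 A) (toUnit A ≫ a)).left A.hom ?_ : A.left ⟶ pullback (snd A A).left a.left) ?_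
      (h k a.left rfl)
    · show _ ≫ (snd A A).left = _
      rw [← Over.comp_left, lift_snd, Over.comp_left]
      rfl
    · rw [pullback.lift_fst]
  have hinj : ∀ a b : 𝟙_ (Over (Spec (CommRingCat.of k))) ⟶ A, pt a = pt b → a = b := fun a b h =>
    Over.OverMorphism.ext (congrArg Subtype.val ((pointEquivClosedPoint A.hom).injective
      (a₁ := ⟨a.left, Over.w a⟩) (a₂ := ⟨b.left, Over.w b⟩) (Subtype.ext h)))
  obtain ⟨Y, hY, hYinf⟩ : ∃ Y ∈ irreducibleComponents ↥Z, (Subtype.val '' Y : Set A.left).Infinite := by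
    by_contra hall
    push Not at hall
    refine hinf (Set.Finite.of_finite_image (f := fun a => pt a) ?_ (fun a _ b _ h => hinj a b h))
    refine ((NoetherianSpace.finite_irreducibleComponents (α := ↥Z)).biUnion
      fun Y hY => hall Y hY).subset ?_
    rintro _ ⟨a, ha, rfl⟩
    exact Set.mem_biUnion (irreducibleComponent_mem_irreducibleComponents (⟨pt a, (hmem a).2 ha⟩ : Z))
      ⟨⟨pt a, (hmem a).2 ha⟩, mem_irreducibleComponent, rfl⟩
  let V : Set A.left := Subtype.val '' Y
  have hVc : IsClosed V :=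
    hZ.isClosedEmbedding_subtypeVal.isClosedMap _ (isClosed_of_mem_irreducibleComponents _ hY)
  have hVi : IsIrreducible V := hY.1.image _ continuous_subtype_val.continuousOn
  obtain ⟨y, hy, hyc⟩ := nonempty_inter_closedPoints (Z := V) hVi.nonempty hVc.isLocallyClosed
  obtain ⟨p, rfl⟩ := exists_pt (mem_closedPoints_iff.1 hyc)
  have hVH : ∀ a, pt a ∈ V → a ∈ H := by
    rintro a ⟨z, -, hz⟩
    exact (hmem a).1 (hz ▸ z.2)
  have happ : ∀ a b : 𝟙_ (Over (Spec (CommRingCat.of k))) ⟶ A, (tr b).left (pt a) = pt (a * b) := by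
    intro a b
    rw [show a * b = a ≫ tr b by rw [comp_tr, unit_comp]]
    rfl
  let V' : Set A.left := (tr p).left ⁻¹' V
  let e : A.left ≃ₜ A.left := (tr p).left.homeomorph
  have hV'c : IsClosed V' := hVc.preimage (tr p).left.continuous
  have hV'i : IsIrreducible V' := by
    rw [show V' = e.symm '' V from (Homeomorph.image_symm e ▸ rfl)]
    exact hVi.image _ e.symm.continuous.continuousOn
  have hpt : ∀ (a : 𝟙_ (Over (Spec (CommRingCat.of k))) ⟶ A),
      Set.range a.left ⊆ V' ↔ pt (a * p) ∈ V := by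
    intro a
    rw [← happ]
    refine ⟨fun h => h ⟨_, rfl⟩, ?_⟩
    rintro h _ ⟨z, rfl⟩
    rw [show z = IsLocalRing.closedPoint k from
      @Subsingleton.elim (Spec (CommRingCat.of k)) inferInstance z _]
    exact h
  obtain ⟨B, _, incl, _, _, hBi, hBp, hsub, hker⟩ := exists_subvariety_in_ker A
    ((𝟙_ (Over (Spec (CommRingCat.of k))) ⟶ A) ⧸ H) (QuotientGroup.mk' H) V' hV'c hV'i
    (by
      rw [show η[A] = (1 : 𝟙_ (Over (Spec (CommRingCat.of k))) ⟶ A) by
        rw [Hom.one_def, toUnit_unique (toUnit _) (𝟙 _), Category.id_comp]]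
      exact (hpt 1).2 (by rwa [_root_.one_mul]))
    (fun a ha => (QuotientGroup.eq_one_iff a).2 (by
      have h1 := hVH _ ((hpt a).1 ha)
      have h2 := hVH p hy
      simpa using H.mul_mem h1 (H.inv_mem h2)))
  refine ⟨B, inferInstance, incl, inferInstance, inferInstance, hBi, hBp, ?_,
    fun b => (QuotientGroup.eq_one_iff (b ≫ incl)).1 (hker b)⟩
  by_contra hfin
  rw [not_infinite_iff_finite] at hfin
  have hV' : V'.Finite := (Set.finite_range incl.left).subset hsub
  refine hYinf ((hV'.image fun x => (tr p).left x).subset fun x hx => ?_)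
  exact ⟨e.symm x, by show (tr p).left (e.symm x) ∈ V; rw [show (tr p).left (e.symm x) = x from e.apply_symm_apply x]; exact hx,
    e.apply_symm_apply x⟩

/-- The seesaw principle along a subvariety fixing a class. -/
theorem pl_mul_eq {B : Over (Spec (CommRingCat.of k))} [GrpObj B] [IsProper B.hom] [GeometricallyIntegral B.hom]
    (incl : B ⟶ A) [IsMonHom incl] {c : PicF.Cl A.left} (hc : PicF.IsInvertibleCl c)
    (h : ∀ b : 𝟙_ (Over (Spec (CommRingCat.of k))) ⟶ B, pl (tr (b ≫ incl)) c = c) :
    pl (fst A B * (snd A B ≫ incl)) c = pl (fst A B) c * pl (snd A B ≫ incl) c := by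
  haveI : IsIntegral B.left := GeometricallyIntegral.isIntegral_of_subsingleton B.hom
  have hr := PicMul.isInvertibleCl_mul (isInv_pl (fst A B) hc) (isInv_pl (snd A B ≫ incl) hc)
  obtain ⟨d, hd, hcd⟩ := exists_inv hr
  obtain ⟨M, hMd, hM⟩ := PicMul.isInvertibleCl_mul (isInv_pl (fst A B * (snd A B ≫ incl)) hc) hd
  have hslice : ∀ {T : Over (Spec (CommRingCat.of k))} (σ : T ⟶ A ⊗ B),
      pl ((σ ≫ fst A B) * (σ ≫ snd A B ≫ incl)) c = pl (σ ≫ fst A B) c * pl (σ ≫ snd A B ≫ incl) c →
        Triv ((Scheme.Modules.pullback σ.left).obj M) := by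
    intro T σ hσ
    rw [triv_iff]
    have h' := congrArg (pl σ) hcd
    simp only [map_mul, map_one, pl_pl] at h'
    rw [hMd, map_mul, pl_pl, MonObj.comp_mul, hσ, h']
  have hM1 : Triv M := by
    refine triv_of_slices A B η[A] hM (hslice _ ?_) fun b => hslice _ ?_
    · rw [lift_fst, lift_snd_assoc, Category.id_comp,
        show (toUnit B ≫ η[A] : B ⟶ A) = 1 from rfl, _root_.one_mul,
        show pl (1 : B ⟶ A) c = 1 from CubeAb.F_one hc, _root_.one_mul]
    · rw [lift_fst, lift_snd_assoc, Category.assoc,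
        show pl (toUnit A ≫ b ≫ incl) c = 1 from CubeAb.F_const hc (b ≫ incl),
        _root_.mul_one, pl_id]
      exact h b
  have hone : pl (fst A B * (snd A B ≫ incl)) c * d = 1 := by
    rw [← hMd]
    exact PicMul.cl_eq_iff.2 hM1
  exact eq_of_mul_inv hcd hone

end Groth.Agent.AVIdx
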