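import Groth.Agent.InvX.Tensor
import Groth.Agent.InvX.GenLocus
import Groth.Agent.InvX.Pullback
import Groth.Agent.H23.PicMul

/-!
Pulling an invertible module back along a `q`-th power map gives its `q`-th tensor power.
-/

set_option linter.style.haveILetI false
set_option backward.isDefEq.respectTransparency false
set_option backward.isDefEq.respectTransparency.types false

universe u

open CategoryTheory AlgebraicGeometry TopologicalSpace Opposite

namespace Groth.Agent.AVIdx.FrobPull

open Groth.Agent Groth.Agent.InvX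
open scoped Groth.Agent.H23.PicMul

variable {X : Scheme.{u}} {L : X.Modules}

/-- The tensor power of a section. -/
noncomputable def pw {U : X.Opens} (e : Γ(L, U)) : ∀ n : ℕ, Γ(CohB1.tensorPow L n, U)
  | 0 => (show Γ(X, U) from 1)
  | n + 1 => tmul (pw e n) e

theorem isFrame_pw {U : X.Opens} {e : Γ(L, U)} (he : IsFrame e) : ∀ n : ℕ, IsFrame (pw e n)
  | 0 => isFrame_one U
  | n + 1 => isFrame_tmul (isFrame_pw he n) he

theorem res_pw {U V : X.Opens} (h : V ≤ U) (e : Γ(L, U)) :
    ∀ n : ℕ, AModX.res (CohB1.tensorPow L n) h (pw e n) = pw (AModX.res L h e) n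
  | 0 => map_one (AModX.resR h)
  | n + 1 => by
    show AModX.res (CohB1.tensorMod (CohB1.tensorPow L n) L) h (tmul (pw e n) e) = _
    rw [res_tmul, res_pw h e n]
    rfl

theorem pw_smul {U : X.Opens} (g : Γ(X, U)) (e : Γ(L, U)) :
    ∀ n : ℕ, pw (g • e) n = g ^ n • pw e n
  | 0 => by rw [pow_zero, one_smul]; rfl
  | n + 1 => by
    show tmul (pw (g • e) n) (g • e) = g ^ (n + 1) • (show Γ(CohB1.tensorMod (CohB1.tensorPow L n) L, U) from tmul (pw e n) e)
    rw [pw_smul g e n, tmul_smul_left, tmul_smul_right, ← mul_smul, ← pow_succ]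

/-- The pullback along a `q`-th power map is the `q`-th tensor power. -/
theorem nonempty_iso (hL : PicF.IsInvertible L) (π : X ⟶ X) (hb : π.base = 𝟙 _) (q : ℕ)
    (hle : ∀ U : X.Opens, U ≤ π ⁻¹ᵁ U) (happ : ∀ (U : X.Opens) (s : Γ(X, U)), (π.appLE U U (hle U)).hom s = s ^ q) :
    Nonempty ((Scheme.Modules.pullback π).obj L ≅ CohB1.tensorPow L q) := by
  choose U hU e he using InvX.exists_frame hL
  let P := (Scheme.Modules.pullback π).obj L
  let ι := ↥X
  let p : ∀ a : ι, Γ(P, U a) := fun a => AModX.res P (hle (U a)) (pullElt π (e a))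
  have hp : ∀ a, IsFrame (p a) := fun a => (isFrame_pullElt π (he a)).res _
  let n : ∀ a : ι, Γ(CohB1.tensorPow L q, U a) := fun a => pw (e a) q
  have hn : ∀ a, IsFrame (n a) := fun a => isFrame_pw (he a) q
  have hcov : ∀ x : X, ∃ a, x ∈ U a := fun x => ⟨x, hU x⟩
  have hη : ∀ (W : X.Opens) (g : Γ(X, W)) (y : Γ(L, W)),
      AModX.res P (hle W) (pullElt π (g • y)) = g ^ q • AModX.res P (hle W) (pullElt π y) := by
    intro W g y
    have h1 : pullElt π (g • y) = π.app W g • pullElt π y :=
      Scheme.Modules.Hom.app_smul ((Scheme.Modules.pullbackPushforwardAdjunction π).unit.app L) g y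
    rw [h1, AModX.res_smul, ← happ W g]
    rfl
  have hpres : ∀ {W : X.Opens} (a : ι) (h : W ≤ U a),
      AModX.res P h (p a) = AModX.res P (hle W) (pullElt π (AModX.res L h (e a))) := by
    intro W a h
    have h1 : pullElt π (AModX.res L h (e a)) = AModX.res P (π.preimage_mono h) (pullElt π (e a)) :=
      AModX.app_res ((Scheme.Modules.pullbackPushforwardAdjunction π).unit.app L) h (e a)
    rw [h1]
    simp only [p, AModX.res_res]
  have key : ∀ (a b : ι) (W : X.Opens) (ha : W ≤ U a) (hb : W ≤ U b),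
      ∃ g : Γ(X, W), AModX.res P hb (p b) = g ^ q • AModX.res P ha (p a) ∧
        AModX.res (CohB1.tensorPow L q) hb (n b) = g ^ q • AModX.res (CohB1.tensorPow L q) ha (n a) := by
    intro a b W ha hb
    obtain ⟨g, hg⟩ := (he a).exists_coord ha (AModX.res L hb (e b))
    refine ⟨g, ?_, ?_⟩
    · rw [hpres b hb, hpres a ha, hg, hη]
    · simp only [n, res_pw]
      rw [hg, pw_smul]
  have hc1 : ∀ (a b : ι) (W : X.Opens) (ha : W ≤ U a) (hb : W ≤ U b) (g : Γ(X, W)),
      AModX.res P hb (p b) = g • AModX.res P ha (p a) →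
        AModX.res (CohB1.tensorPow L q) hb (n b) = g • AModX.res (CohB1.tensorPow L q) ha (n a) := by
    intro a b W ha hb g hg
    obtain ⟨g', h1, h2⟩ := key a b W ha hb
    rw [(hp a).coord_unique ha (hg.symm.trans h1)]
    exact h2
  have hc2 : ∀ (a b : ι) (W : X.Opens) (ha : W ≤ U a) (hb : W ≤ U b) (g : Γ(X, W)),
      AModX.res (CohB1.tensorPow L q) hb (n b) = g • AModX.res (CohB1.tensorPow L q) ha (n a) →
        AModX.res P hb (p b) = g • AModX.res P ha (p a) := by
    intro a b W ha hb g hg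
    obtain ⟨g', h1, h2⟩ := key a b W ha hb
    rw [(hn a).coord_unique ha (hg.symm.trans h2)]
    exact h1
  refine ⟨⟨ofFrames hcov hp hc1, ofFrames hcov hn hc2, ?_, ?_⟩⟩
  · refine hom_ext_of_frames U hcov p hp fun a => ?_
    show (ofFrames hcov hn hc2).app (U a) ((ofFrames hcov hp hc1).app (U a) (p a)) = p a
    rw [ofFrames_app, ofFrames_app]
  · refine hom_ext_of_frames U hcov n hn fun a => ?_
    show (ofFrames hcov hp hc1).app (U a) ((ofFrames hcov hn hc2).app (U a) (n a)) = n a
    rw [ofFrames_app, ofFrames_app]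

/-- The class of the pullback along a `q`-th power map. -/
theorem cl_pullback (hL : PicF.IsInvertible L) (π : X ⟶ X) (hb : π.base = 𝟙 _) (q : ℕ)
    (hle : ∀ U : X.Opens, U ≤ π ⁻¹ᵁ U) (happ : ∀ (U : X.Opens) (s : Γ(X, U)), (π.appLE U U (hle U)).hom s = s ^ q) :
    PicF.pullCl π (PicF.cl L) = PicF.cl L ^ q :=
  (H23.PicMul.cl_eq_iff.2 (nonempty_iso hL π hb q hle happ)).trans (H23.PicMul.cl_tensorPow L q)

end Groth.Agent.AVIdx.FrobPull
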