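import Groth.Agent.AVIdx.TateInjBc
import Groth.Agent.AVIdx.TateCoker
import Groth.Prelude.Def_AlgGrp

/-!
Geometric points along finite surjective homomorphisms.
-/

set_option linter.style.haveILetI false
set_option backward.isDefEq.respectTransparency false
set_option backward.isDefEq.respectTransparency.types false

universe u

open CategoryTheory CategoryTheory.Limits MonoidalCategory CartesianMonoidalCategory MonObj AlgebraicGeometry

namespace Groth.Agent.AVIdx

variable {k : Type u} [Field k] (K : Type u) [Field K] [Algebra k K] [IsAlgClosed K]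

/-- Geometric points lift along a finite surjective map. -/
theorem exists_geom_lift {X Y : Over (Spec (CommRingCat.of k))} (f : X ⟶ Y) [IsFinite f.left] [Surjective f.left]
    (y : Over.mk (fieldMap (k := k) K) ⟶ Y) : ∃ x : Over.mk (fieldMap (k := k) K) ⟶ X, x ≫ f = y := by
  let q : pullback f.left y.left ⟶ Spec (CommRingCat.of K) := pullback.snd f.left y.left
  haveI : IsFinite q := inferInstanceAs (IsFinite (pullback.snd f.left y.left))
  haveI : Surjective q := inferInstanceAs (Surjective (pullback.snd f.left y.left))
  haveI : JacobsonSpace (pullback f.left y.left : Scheme.{u}) := LocallyOfFiniteType.jacobsonSpace q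
  obtain ⟨w, -⟩ := q.surjective (IsLocalRing.closedPoint K)
  obtain ⟨c, -, hc⟩ := nonempty_inter_closedPoints
    (Z := (Set.univ : Set ↥(pullback f.left y.left))) ⟨w, trivial⟩ isOpen_univ.isLocallyClosed
  let s := pointOfClosedPoint q c hc
  have hs : s ≫ q = 𝟙 _ := pointOfClosedPoint_comp _ _ _
  refine ⟨Over.homMk (s ≫ pullback.fst f.left y.left) ?_, Over.OverMorphism.ext ?_⟩
  · show (s ≫ pullback.fst f.left y.left) ≫ X.hom = fieldMap K
    rw [← Over.w f, Category.assoc, pullback.condition_assoc, Over.w y, ← Category.assoc]
    exact (congrArg (· ≫ _) hs).trans (Category.id_comp _)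
  · show (s ≫ pullback.fst f.left y.left) ≫ f.left = y.left
    rw [Category.assoc, pullback.condition, ← Category.assoc]
    exact (congrArg (· ≫ y.left) hs).trans (Category.id_comp _)

/-- A finite map has finitely many geometric points over a given one. -/
theorem finite_geom_fibre {X Y : Over (Spec (CommRingCat.of k))} (f : X ⟶ Y) [IsFinite f.left]
    (y : Over.mk (fieldMap (k := k) K) ⟶ Y) :
    Finite {x : Over.mk (fieldMap (k := k) K) ⟶ X // x ≫ f = y} := by
  let q : pullback f.left y.left ⟶ Spec (CommRingCat.of K) := pullback.snd f.left y.left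
  haveI : IsFinite q := inferInstanceAs (IsFinite (pullback.snd f.left y.left))
  haveI : Finite ↥(pullback f.left y.left) := by
    have h := IsFinite.finite_preimage_singleton q (IsLocalRing.closedPoint K)
    exact Set.finite_univ_iff.1 (h.subset fun w _ =>
      @Subsingleton.elim (Spec (CommRingCat.of K)) inferInstance (q w) (IsLocalRing.closedPoint K))
  let lft : ∀ x : {x : Over.mk (fieldMap (k := k) K) ⟶ X // x ≫ f = y},
      {s : Spec (CommRingCat.of K) ⟶ pullback f.left y.left // s ≫ q = 𝟙 _} := fun x =>
    ⟨pullback.lift x.1.left (𝟙 _) (by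
      rw [← Over.comp_left, x.2]
      exact (Category.id_comp _).symm), pullback.lift_snd _ _ _⟩
  refine Finite.of_injective (fun x => (lft x).1 (IsLocalRing.closedPoint K)) fun x x' h => Subtype.ext ?_
  have := congrArg (· ≫ pullback.fst f.left y.left) (ext_of_apply_closedPoint_eq q (lft x).2 (lft x').2 h)
  apply Over.OverMorphism.ext
  simpa [lft] using this

end Groth.Agent.AVIdx
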