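import Groth.Agent.AVIdx.DivDeg
import Groth.Agent.AVIdx.FrobPull
import Groth.Agent.AVIdx.DegenEuler
import Groth.Agent.Lib.AVCube
import Groth.Agent.Lib.AVProj
import Groth.Agent.AVIsog3.Basic
import Groth.Agent.AmpleVan.Pull
import Groth.Agent.InvX.GenLocusPull
import Groth.Prelude.Def_EndRing

/-!
A positive definite integral quadratic form on the homomorphisms of abelian varieties over any field.
-/

set_option linter.style.haveILetI false
set_option linter.unusedSectionVars false
set_option backward.isDefEq.respectTransparency false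
set_option backward.isDefEq.respectTransparency.types false

universe u

open CategoryTheory CategoryTheory.Limits MonoidalCategory CartesianMonoidalCategory MonObj GrpObj AlgebraicGeometry TopologicalSpace

noncomputable section

namespace Groth.Agent.AVIdx

open Groth.Agent Groth.Agent.H23
open scoped Groth.Agent.H23.PicMul

variable {k : Type u} [Field k]

/-- A symmetric ample module. -/
theorem exists_symm_ample (B : Over (Spec (CommRingCat.of k)))
    [GrpObj B] [IsProper B.hom] [GeometricallyIntegral B.hom] :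
    ∃ H : B.left.Modules, CohB1.IsAmple H ∧
      PicF.pullCl ((𝟙 B : B ⟶ B)⁻¹).left (PicF.cl H) = PicF.cl H := by
  haveI : IsCommMonObj B := isCommMonObj_of_isProper_of_geometricallyIntegral B
  obtain ⟨L, hL⟩ := AVProj.exists_isAmple (X := B)
  let nu : B ⟶ B := (𝟙 B)⁻¹
  have hnunu : nu ≫ nu = 𝟙 B := by
    show nu ≫ (𝟙 B : B ⟶ B)⁻¹ = _
    rw [GrpObj.comp_inv, Category.comp_id]
    exact inv_inv (𝟙 B : B ⟶ B)
  haveI : IsIso nu.left := ⟨nu.left, by rw [← Over.comp_left, hnunu, Over.id_left],
    by rw [← Over.comp_left, hnunu, Over.id_left]⟩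
  haveI : CompactSpace B.left := QuasiCompact.compactSpace_of_compactSpace B.hom
  have hL' : CohB1.IsAmple ((Scheme.Modules.pullback nu.left).obj L) :=
    AmpleVan.isAmple_pullback_of_isEmbedding nu.left nu.left.isOpenEmbedding.isEmbedding hL
  refine ⟨_, AmpleX.isAmple_tensor hL hL'.1 fun x => ?_, ?_⟩
  · obtain ⟨n, s, hx, -⟩ := hL'.2.2 x
    exact ⟨n, s, hx⟩
  · have h1 : PicF.cl (CohB1.tensorMod L ((Scheme.Modules.pullback nu.left).obj L)) =
        PicF.cl L * PicF.pullCl nu.left (PicF.cl L) := rfl
    rw [h1, PicMul.pullCl_mul, PicClLib.pullCl_comp, ← Over.comp_left, hnunu, Over.id_left,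
      PicClLib.pullCl_id]
    exact _root_.mul_comm _ _

/-- The quadratic form on morphisms to an abelian variety attached to a symmetric ample module. -/
theorem exists_quad_frob (A B : Over (Spec (CommRingCat.of k)))
    [GrpObj A] [IsProper A.hom] [GeometricallyIntegral A.hom]
    [GrpObj B] [IsProper B.hom] [GeometricallyIntegral B.hom] :
    ∃ Q : (A ⟶ B) → ℤ,
      (∀ f g h, Q (f * g * h) + Q f + Q g + Q h = Q (f * g) + Q (f * h) + Q (g * h)) ∧
      (∀ f, Q f⁻¹ = Q f) ∧ (∀ f, IsMonHom f → f ≠ 1 → 0 < Q f) ∧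
      ∀ (π : B ⟶ B) (q : ℕ), π.left.base = 𝟙 _ → ∀ hle : ∀ U : B.left.Opens, U ≤ π.left ⁻¹ᵁ U,
        (∀ (U : B.left.Opens) (s : Γ(B.left, U)), (π.left.appLE U U (hle U)).hom s = s ^ q) →
          ∀ f, Q (f ≫ π) = q * Q f := by
  haveI : IsCommMonObj B := isCommMonObj_of_isProper_of_geometricallyIntegral B
  haveI : IsIntegral A.left := GeometricallyIntegral.isIntegral_of_subsingleton A.hom
  letI : A.left.Over (Spec (CommRingCat.of k)) := ⟨A.hom⟩
  haveI : IsProper (A.left ↘ Spec (CommRingCat.of k)) := ‹IsProper A.hom›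
  haveI : B.left.IsSeparated := ⟨by
    rw [← Limits.terminal.comp_from B.hom]
    infer_instance⟩
  obtain ⟨H, hH, hsymm⟩ := exists_symm_ample B
  obtain ⟨L, hL⟩ := AVProj.exists_isAmple (X := A)
  obtain ⟨g, hg⟩ := exists_dim_av A
  let d := g - 1
  have hd : topologicalKrullDim A.left ≤ ((d + 1 : ℕ) : WithBot ℕ∞) := by
    rw [hg]; exact_mod_cast (by omega : g ≤ d + 1)
  have hinv : ∀ f : A ⟶ B, PicF.IsInvertible ((Scheme.Modules.pullback f.left).obj H) := fun f =>
    PicLoc.isInvertible_pullback f.left hH.1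
  let Q : (A ⟶ B) → ℤ := fun f => divDeg k L d ((Scheme.Modules.pullback f.left).obj H)
  have hadd : ∀ {M N : A.left.Modules}, PicF.IsInvertible M → PicF.IsInvertible N →
      divDeg k L d (CohB1.tensorMod M N) = divDeg k L d M + divDeg k L d N :=
    fun hM hN => divDeg_tensor k hL.1 hd hM hN
  have hcl : ∀ {M N : A.left.Modules}, PicF.cl M = PicF.cl N → divDeg k L d M = divDeg k L d N :=
    fun h => divDeg_congr k hL.1 (PicMul.cl_eq_iff.1 h).some
  have hpow : ∀ (f : A ⟶ B) (n : ℕ), divDeg k L d (CohB1.tensorPow ((Scheme.Modules.pullback f.left).obj H) n) = n * Q f := by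
    intro f n
    induction n with
    | zero =>
      have hO := PicLoc.isInvertible_structureModule A.left
      have := hcl (M := CohB1.tensorMod (Coh.structureModule A.left) (Coh.structureModule A.left))
        (N := Coh.structureModule A.left) (PicMul.cl_eq_iff.2 (PicMul.unit _))
      rw [hadd hO hO] at this
      show divDeg k L d (Coh.structureModule A.left) = _
      simp only [Nat.cast_zero, zero_mul]
      omega
    | succ n ih =>
      show divDeg k L d (CohB1.tensorMod _ _) = _
      rw [hadd (PicMul.isInvertible_tensorPow (hinv f) n) (hinv f), ih]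
      push_cast
      ring
  refine ⟨Q, fun f g h => ?_, fun f => ?_, fun f hf hne => ?_, fun π q hb hle happ f => ?_⟩
  · let P := fun f : A ⟶ B => (Scheme.Modules.pullback f.left).obj H
    have hc := congrArg Units.val (AVCube.cube_rel hH.1 f g h)
    simp only [Units.val_mul, AVCube.val_pc] at hc
    have e := hcl (M := CohB1.tensorMod (CohB1.tensorMod (CohB1.tensorMod (P (f * g * h)) (P f)) (P g)) (P h))
      (N := CohB1.tensorMod (CohB1.tensorMod (P (f * g)) (P (f * h))) (P (g * h))) hc
    rw [hadd (PicMul.isInvertible_tensor (PicMul.isInvertible_tensor (hinv _) (hinv _)) (hinv _)) (hinv _),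
      hadd (PicMul.isInvertible_tensor (hinv _) (hinv _)) (hinv _), hadd (hinv _) (hinv _),
      hadd (PicMul.isInvertible_tensor (hinv _) (hinv _)) (hinv _), hadd (hinv _) (hinv _)] at e
    exact e
  · refine hcl ?_
    show PicF.pullCl (f⁻¹).left (PicF.cl H) = PicF.pullCl f.left (PicF.cl H)
    have : f⁻¹ = f ≫ (𝟙 B : B ⟶ B)⁻¹ := by rw [GrpObj.comp_inv, Category.comp_id]
    rw [this, Over.comp_left, ← PicClLib.pullCl_comp, hsymm]
  · haveI := hf
    haveI : Subsingleton ↥(𝟙_ (Over (Spec (CommRingCat.of k)))).left :=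
      inferInstanceAs (Subsingleton (PrimeSpectrum k))
    haveI : Nonempty ↥(𝟙_ (Over (Spec (CommRingCat.of k)))).left :=
      inferInstanceAs (Nonempty (PrimeSpectrum k))
    let ξ := genericPoint A.left
    obtain ⟨y, hy⟩ : ∃ y, f.left y ≠ f.left ξ := by
      by_contra! hall
      refine hne (AVIsog3.eq_one_of_range f ?_)
      rintro _ ⟨x, rfl⟩
      obtain ⟨p⟩ : Nonempty ↥(𝟙_ (Over (Spec (CommRingCat.of k)))).left := inferInstance
      refine ⟨p, ?_⟩
      rw [hall x, ← hall (η[A].left p), ← Scheme.Hom.comp_apply, ← Over.comp_left, IsMonHom.one_hom f]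
    have hg1 : 1 ≤ g := by
      by_contra h0
      have hlt := HilbPoly.dim_lt_closure (x := ξ)
        ((topologicalKrullDim_subspace_le _ _).trans (hg.le.trans (le_of_eq (by rw [show g = 0 by omega]))))
        (isClosed_closure (s := ({y} : Set A.left))) (fun z _ => (genericPoint_specializes z).mem_closure)
        (fun hm => hy (congrArg f.left ((genericPoint_specializes y).antisymm (specializes_iff_mem_closure.2 hm)).eq.symm))
      rw [Nat.cast_zero] at hlt
      exact absurd (VarBase.dim_nonneg_of_nonempty (T := closure ({y} : Set A.left)) ⟨y, subset_closure rfl⟩)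
        (not_le_of_gt hlt)
    have hd' : ((d + 1 : ℕ) : WithBot ℕ∞) ≤ topologicalKrullDim A.left := by
      rw [hg]; exact_mod_cast (by omega : d + 1 ≤ g)
    let U : B.left.Opens := ⟨(closure ({f.left y} : Set B.left))ᶜ, isClosed_closure.isOpen_compl⟩
    have hξU : f.left ξ ∈ U := fun hm => hy
      ((specializes_iff_mem_closure.2 hm).antisymm ((genericPoint_specializes y).map f.left.continuous)).eq
    obtain ⟨m, hm, s, hξs, hsU, -⟩ := AmpleX.exists_genLocus_le hH hξU
    have hys : f.left y ∉ CohB1.genLocus _ s := fun h => hsU h (subset_closure rfl)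
    have hHm := InvX.isInvertible_tensorPow hH.1 m
    let e := (PicClLib.nonempty_pullback_structureModule f.left).some.symm
    have hgl := InvX.genLocus_pullback f.left hHm s e
    have hpos := divDeg_pos k hL hd hd' (PicLoc.isInvertible_pullback f.left hHm)
      (e.hom ≫ (Scheme.Modules.pullback f.left).map s) (by rw [hgl]; exact hξs)
      (y := y) (by rw [hgl]; exact hys)
    rw [hcl (M := (Scheme.Modules.pullback f.left).obj (CohB1.tensorPow H m))
      (N := CohB1.tensorPow ((Scheme.Modules.pullback f.left).obj H) m), hpow f] at hpos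
    · exact pos_of_mul_pos_right hpos (Nat.cast_nonneg m)
    · show PicF.pullCl f.left (PicF.cl (CohB1.tensorPow H m)) = _
      rw [PicMul.cl_tensorPow, PicMul.cl_tensorPow]
      exact map_pow (PicMul.pullHom f.left) _ m
  · rw [← hpow f q]
    refine hcl ?_
    show PicF.pullCl (f ≫ π).left (PicF.cl H) = _
    rw [Over.comp_left, ← PicClLib.pullCl_comp, FrobPull.cl_pullback hH.1 π.left hb q hle happ, PicMul.cl_tensorPow]
    exact map_pow (PicMul.pullHom f.left) _ q

/-- The quadratic form without the Frobenius property. -/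
theorem exists_quad (A B : Over (Spec (CommRingCat.of k)))
    [GrpObj A] [IsProper A.hom] [GeometricallyIntegral A.hom]
    [GrpObj B] [IsProper B.hom] [GeometricallyIntegral B.hom] :
    ∃ Q : (A ⟶ B) → ℤ,
      (∀ f g h, Q (f * g * h) + Q f + Q g + Q h = Q (f * g) + Q (f * h) + Q (g * h)) ∧
      (∀ f, Q f⁻¹ = Q f) ∧ ∀ f, IsMonHom f → f ≠ 1 → 0 < Q f :=
  let ⟨Q, h1, h2, h3, _⟩ := exists_quad_frob A B
  ⟨Q, h1, h2, h3⟩

end Groth.Agent.AVIdx
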