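import Groth.Agent.AVIdx.Vanishing
import Groth.Agent.AVIdx.TateRank
import Groth.Agent.QCoh.FlatBC
import Groth.Agent.CurveCohLib.Proper
import Groth.Agent.AVPhi.Api

/-!
Concentrated cohomology means non-degenerate geometrically; the index of the inverse over any field.
-/

set_option linter.style.haveILetI false
set_option linter.unusedSectionVars false
set_option backward.isDefEq.respectTransparency false
set_option backward.isDefEq.respectTransparency.types false
set_option autoImplicit false

universe u

open CategoryTheory CategoryTheory.Limits MonoidalCategory CartesianMonoidalCategory MonObj AlgebraicGeometry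
open TopologicalSpace

namespace Groth.Agent.AVIdx

open Groth.Agent.H23 Groth.Agent.AVPair Groth.Agent.AVAmple
open scoped Groth.Agent.H23.PicMul

/-- The geometric fibre. -/
noncomputable abbrev geo {k : Type u} [Field k] (A : Over (Spec (CommRingCat.of k))) :
    Over (Spec (CommRingCat.of (AlgebraicClosure k))) :=
  Red.bc (fieldMap (k := k) (AlgebraicClosure k)) A

variable {k : Type u} [Field k] (A : Over (Spec (CommRingCat.of k))) [IsProper A.hom]

/-- Vanishing of cohomology is insensitive to extension of the ground field. -/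
theorem subsingleton_HH_geo_iff {L : A.left.Modules} (hL : Coh.IsQCoh L) (n : ℕ) :
    Subsingleton (Coh.HH (geo A).left ((Scheme.Modules.pullback (pullback.fst A.hom
      (fieldMap (k := k) (AlgebraicClosure k)))).obj L) n) ↔ Subsingleton (Coh.HH A.left L n) := by
  let σ := fieldMap (k := k) (AlgebraicClosure k)
  haveI : CompactSpace A.left := QuasiCompact.compactSpace_of_compactSpace A.hom
  haveI : A.left.IsSeparated := ⟨by rw [← Limits.terminal.comp_from A.hom]; infer_instance⟩
  haveI : QuasiSeparatedSpace A.left := by
    rw [quasiSeparatedSpace_iff_quasiSeparated]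
    infer_instance
  letI := QCoh.modHH (Coh.toGlobal A.hom) L n
  letI := QCoh.modHH (Coh.toGlobal (pullback.snd A.hom σ)) ((Scheme.Modules.pullback (pullback.fst A.hom σ)).obj L) n
  obtain ⟨e⟩ := QCoh.HH_flatBaseChange (A := k) (B := AlgebraicClosure k) (IsPullback.of_hasPullback A.hom σ) hL n
  exact ⟨fun h => (Module.FaithfullyFlat.subsingleton_tensorProduct_iff_right k (AlgebraicClosure k)).1
      (@Equiv.subsingleton _ _ e.toEquiv h), fun h => e.symm.toEquiv.subsingleton⟩

variable [GrpObj A] [GeometricallyIntegral A.hom]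

/-- An invertible module with concentrated cohomology has finite fixing group over an algebraically closed field. -/
theorem finite_fixing_of_concentrated [IsAlgClosed k] {L : A.left.Modules} (hL : PicF.IsInvertible L) (i : ℕ)
    (hvan : ∀ j, j ≠ i → Subsingleton (Coh.HH A.left L j)) (hne : ¬ Subsingleton (Coh.HH A.left L i)) :
    Set.Finite {a : 𝟙_ (Over (Spec (CommRingCat.of k))) ⟶ A | pl (tr a) (PicF.cl L) = PicF.cl L} := by
  letI : A.left.Over (Spec (CommRingCat.of k)) := ⟨A.hom⟩
  haveI : IsProper (A.left ↘ Spec (CommRingCat.of k)) := ‹IsProper A.hom›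
  haveI := CurveCohLib.isNoetherian_of_proper (k := k) (X := A.left)
  by_contra hinf
  have h0 : Curv2.euler k A.left L = 0 := chiCl_eq_zero_of_infinite (c := PicF.cl L) ⟨L, rfl, hL⟩ hinf
  rw [Curv2.euler, finsum_eq_single _ i fun j hj => by
    haveI := hvan j hj
    rw [Module.finrank_zero_of_subsingleton, Nat.cast_zero, mul_zero]] at h0
  rcases mul_eq_zero.1 h0 with h | h
  · exact absurd h (pow_ne_zero _ (by norm_num))
  · haveI := CurveCohLib.finite_HH (k := k) (CurveDeg.isCoh_of_isInvertible hL) i
    exact hne (Module.finrank_zero_iff.1 (Nat.cast_eq_zero.1 h))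

/-- If the cohomology of `L` sits in degree `i`, that of the inverse sits in degree `g - i`. -/
theorem index_inverse {g : ℕ} (hg : topologicalKrullDim A.left = g) {L M : A.left.Modules}
    (hL : PicF.IsInvertible L) (hM : PicF.IsInvertible M) (hLM : PicF.cl L * PicF.cl M = 1) (i : ℕ)
    (hvan : ∀ j, j ≠ i → Subsingleton (Coh.HH A.left L j)) (hne : ¬ Subsingleton (Coh.HH A.left L i)) :
    i ≤ g ∧ (∀ j, j ≠ g - i → Subsingleton (Coh.HH A.left M j)) ∧ ¬ Subsingleton (Coh.HH A.left M (g - i)) := by
  let π := pullback.fst A.hom (fieldMap (k := k) (AlgebraicClosure k))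
  haveI : IsProper (geo A).hom := inferInstanceAs (IsProper (pullback.snd A.hom _))
  haveI : GeometricallyIntegral (geo A).hom := inferInstanceAs (GeometricallyIntegral (pullback.snd A.hom _))
  have hL' : PicF.IsInvertible ((Scheme.Modules.pullback π).obj L) := PicClLib.isInvertible_pullback _ hL
  have hM' : PicF.IsInvertible ((Scheme.Modules.pullback π).obj M) := PicClLib.isInvertible_pullback _ hM
  have bc := fun {N : A.left.Modules} (hN : PicF.IsInvertible N) (n : ℕ) =>
    subsingleton_HH_geo_iff A (ProjUPX.isQCoh_of_isInvertible hN) n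
  have hnd := finite_fixing_of_concentrated (geo A) hL' i (fun j hj => (bc hL j).2 (hvan j hj))
    (fun h => hne ((bc hL i).1 h))
  obtain ⟨i', hi', hL0, hLi, hM0, hMi⟩ := exists_index_pair (A := geo A) (dim_bc (AlgebraicClosure k) A hg) hL' hM'
    (show PicMul.pullHom π (PicF.cl L) * PicMul.pullHom π (PicF.cl M) = 1 by rw [← map_mul, hLM, map_one]) hnd
  obtain rfl : i' = i := by_contra fun h => hne ((bc hL i).1 (hL0 i (Ne.symm h)))
  exact ⟨hi', fun j hj => (bc hM j).1 (hM0 j hj), fun h => hMi ((bc hM _).2 h)⟩

end Groth.Agent.AVIdx
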