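import Groth.Agent.QCoh.RpushModel
import Groth.Agent.FlatCxLib.Rank
import Groth.Agent.KFlatLib.Scheme.RpushQCoh

/-!
Openness of the vanishing of the cohomology of the fibres, and local constancy of the index of a
family with concentrated cohomology.
-/

set_option linter.style.haveILetI false
set_option backward.isDefEq.respectTransparency false

universe u

open CategoryTheory CategoryTheory.Limits AlgebraicGeometry TopologicalSpace

namespace Groth.Agent.AVIdx

theorem dRank_eq_zero_of_isZero {A : Type u} [CommRing A] (P : ChainComplex (ModuleCat.{u} A) ℤ) {q : ℤ}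
    (h : IsZero (P.X q)) (x : PrimeSpectrum A) : CohIII.dRank P q x = 0 := by
  let φ := algebraMap A x.asIdeal.ResidueField
  haveI : Subsingleton ((CohIII.bcCx φ P).homology q) := by
    refine ModuleCat.isZero_iff_subsingleton.1 ?_
    exact ShortComplex.isZero_homology_of_isZero_X₂ ((CohIII.bcCx φ P).sc q)
      ((ModuleCat.extendScalars φ).map_isZero h)
  exact Module.finrank_zero_of_subsingleton

/-- Near a point all the cohomology of the fibres vanishing there in given degrees vanishes. -/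
theorem eventually_subsingleton_fiberH {X S : Scheme.{u}} (f : X ⟶ S) (M : X.Modules) [IsProper f]
    [IsLocallyNoetherian S] (hM : Coh.IsCoh M) (hfl : FlatMod.IsFlatOver f M) (s : S) :
    ∀ᶠ t in nhds s, ∀ p : ℕ, Subsingleton (CohIII.fiberH f M s p) → Subsingleton (CohIII.fiberH f M t p) := by
  haveI : HasInjectiveResolutions X.Modules := KFlatLib.hasInjectiveResolutions_modules
  obtain ⟨_, ⟨V, hV, rfl⟩, hs, -⟩ :=
    S.isBasis_affineOpens.exists_subset_of_mem_open (Set.mem_univ s) isOpen_univ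
  have hV : IsAffineOpen V := hV
  haveI : IsNoetherianRing Γ(S, V) := IsLocallyNoetherian.component_noetherian ⟨V, hV⟩
  obtain ⟨P, hP⟩ := QCoh.exists_isLocalModel hM hfl hV
  obtain ⟨c, hc⟩ := hP.2.2.1
  have hus : ∀ p : ℕ, IsOpen {z | CohIII.dRank P (-(p : ℤ)) z < 1} := fun p =>
    upperSemicontinuous_iff_isOpen_preimage.1 (FlatCxLib.upperSemicontinuous_dRank P
      (fun i => haveI := hP.1 i; Module.finitePresentation_of_finite _ _)
      (fun i => @Module.Flat.of_free _ _ _ _ _ (hP.2.1 i)) _) 1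
  let T : Finset ℕ := (Finset.range ((-c).toNat + 1)).filter fun p =>
    CohIII.dRank P (-(p : ℤ)) (hV.primeIdealOf ⟨s, hs⟩) = 0
  let W : Set (PrimeSpectrum Γ(S, V)) := ⋂ p ∈ T, {z | CohIII.dRank P (-(p : ℤ)) z < 1}
  have hW : IsOpen W := isOpen_biInter_finset fun p _ => hus p
  have hWs : hV.primeIdealOf ⟨s, hs⟩ ∈ W := by
    simp only [W, T, Set.mem_iInter, Finset.mem_filter]
    exact fun p hp => by simp [hp.2]
  refine Filter.eventually_of_mem ((hV.fromSpec.isOpenEmbedding.isOpenMap _ hW).mem_nhds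
    ⟨_, hWs, hV.fromSpec_primeIdealOf ⟨s, hs⟩⟩) ?_
  rintro t ⟨z, hz, rfl⟩ p hp
  have ht : hV.fromSpec z ∈ V := by
    rw [← SetLike.mem_coe, ← hV.range_fromSpec]; exact ⟨z, rfl⟩
  have hzt : hV.primeIdealOf ⟨_, ht⟩ = z :=
    hV.fromSpec.isOpenEmbedding.injective (hV.fromSpec_primeIdealOf ⟨_, ht⟩)
  obtain ⟨h1, h2⟩ := hP.2.2.2.2.2 p _ ht
  haveI := h2
  refine Module.finrank_zero_iff.1 (show CohIII.fiberRank f M p _ = 0 from ?_)
  rw [h1, hzt]
  by_cases hlt : -(p : ℤ) < c
  · exact dRank_eq_zero_of_isZero P (hc _ hlt) _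
  · have hp0 : CohIII.dRank P (-(p : ℤ)) (hV.primeIdealOf ⟨s, hs⟩) = 0 := by
      rw [← (hP.2.2.2.2.2 p s hs).1]
      exact Module.finrank_zero_of_subsingleton
    simp only [W, T, Set.mem_iInter, Finset.mem_filter, Finset.mem_range] at hz
    exact Nat.lt_one_iff.1 (hz p ⟨by lia, hp0⟩)

/-- The index of a family with concentrated non-zero fibre cohomology is locally constant. -/
theorem isLocallyConstant_index {X S : Scheme.{u}} (f : X ⟶ S) (M : X.Modules) [IsProper f]
    [IsLocallyNoetherian S] (hM : Coh.IsCoh M) (hfl : FlatMod.IsFlatOver f M) (idx : S → ℕ)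
    (hidx : ∀ t, (∀ j, j ≠ idx t → Subsingleton (CohIII.fiberH f M t j)) ∧
      Nontrivial (CohIII.fiberH f M t (idx t))) : IsLocallyConstant idx := by
  refine (IsLocallyConstant.iff_eventually_eq _).2 fun s => ?_
  filter_upwards [eventually_subsingleton_fiberH f M hM hfl s] with t ht
  by_contra h
  exact (not_subsingleton_iff_nontrivial.2 (hidx t).2) (ht _ ((hidx s).1 _ h))

end Groth.Agent.AVIdx
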