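import Groth.Agent.AVIdx.EulerPull
import Groth.Agent.GrpSchLib.RigidHom
import Mathlib.AlgebraicGeometry.Morphisms.FlatRank

/-!
Multiplicativity of the Euler characteristic under finite flat morphisms of abelian varieties.
-/

set_option linter.style.haveILetI false
set_option backward.isDefEq.respectTransparency false
set_option backward.isDefEq.respectTransparency.types false

universe u

open CategoryTheory CategoryTheory.Limits MonoidalCategory CartesianMonoidalCategory MonObj GrpObj AlgebraicGeometry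

namespace Groth.Agent.AVIdx

open Groth.Agent

variable {k : Type u} [Field k]

/-- A finite flat morphism between group schemes out of an abelian variety is multiplicative in the left
variable up to a constant. -/
theorem exists_shear {X Y : Over (Spec (CommRingCat.of k))} [GrpObj X] [IsProper X.hom] [GeometricallyIntegral X.hom]
    [GrpObj Y] [IsSeparated Y.hom] (f : X ⟶ Y) :
    ∃ (K : Over (Spec (CommRingCat.of k))) (i : K ⟶ X),
      IsPullback i (toUnit K) f (η[X] ≫ f) ∧
        IsPullback (fst X K) (fst X K * (snd X K ≫ i)) f f := by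
  let c : 𝟙_ (Over (Spec (CommRingCat.of k))) ⟶ Y := η[X] ≫ f
  let t : X ⟶ Y := f * (toUnit X ≫ c)⁻¹
  haveI : IsMonHom t := GrpSchLib.RigidHom.isMonHom_of_one t (by
    simp only [t, c, MonObj.comp_mul, GrpObj.comp_inv, ← Category.assoc,
      toUnit_unique (η[X] ≫ toUnit X) (𝟙 _), Category.id_comp, mul_inv_cancel])
  have hf : f = t * (toUnit X ≫ c) := by simp [t]
  have hcomp : ∀ {T : Over (Spec (CommRingCat.of k))} (a : T ⟶ X), a ≫ f = (a ≫ t) * (toUnit T ≫ c) := by
    intro T a
    conv_lhs => rw [hf, MonObj.comp_mul, ← Category.assoc, toUnit_unique (a ≫ toUnit X) (toUnit T)]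
  let K := pullback f c
  let i : K ⟶ X := pullback.fst f c
  have hK : IsPullback i (toUnit K) f c := by
    have := IsPullback.of_hasPullback f c
    rwa [toUnit_unique (toUnit K) (pullback.snd f c)]
  have hker : ∀ {T : Over (Spec (CommRingCat.of k))} (b : T ⟶ X), b ≫ f = toUnit T ≫ c ↔ b ≫ t = 1 := by
    intro T b
    rw [hcomp, mul_eq_right]
  refine ⟨K, i, hK, ⟨⟨?_⟩, ⟨?_⟩⟩⟩
  · rw [hcomp, hcomp, MonObj.mul_comp, (hker (snd X K ≫ i)).1, _root_.mul_one]
    rw [Category.assoc, hK.w, ← Category.assoc, toUnit_unique (snd X K ≫ toUnit K) (toUnit _)]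
  · refine PullbackCone.IsLimit.mk _ (fun s => lift s.fst (hK.lift (s.fst⁻¹ * s.snd) (toUnit _) ?_)) ?_ ?_ ?_
    · have h := s.condition
      rw [hcomp, hcomp] at h
      rw [hker, MonObj.mul_comp, GrpObj.inv_comp, mul_right_cancel h, inv_mul_cancel]
    · intro s
      exact lift_fst _ _
    · intro s
      show lift s.fst _ ≫ (fst X K * (snd X K ≫ i)) = s.snd
      rw [MonObj.comp_mul, lift_fst, lift_snd_assoc, hK.lift_fst, mul_inv_cancel_left]
    · intro s m h1 h2
      refine CartesianMonoidalCategory.hom_ext _ _ (h1.trans (lift_fst _ _).symm) ?_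
      rw [lift_snd]
      refine hK.hom_ext ?_ (toUnit_unique _ _)
      rw [hK.lift_fst]
      have h2' : m ≫ (fst X K * (snd X K ≫ i)) = s.snd := h2
      rw [MonObj.comp_mul, show m ≫ fst X K = s.fst from h1] at h2'
      rw [← h2', inv_mul_cancel_left, Category.assoc]

/-- The Euler characteristic of a pullback along a finite flat morphism of abelian varieties. -/
theorem euler_pullback_av (X Y : Over (Spec (CommRingCat.of k))) [GrpObj X] [IsProper X.hom] [GeometricallyIntegral X.hom]
    [GrpObj Y] [IsProper Y.hom] (f : X ⟶ Y) [IsFinite f.left] [Flat f.left] (d : ℕ)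
    (hd : ∀ y : Y.left, Scheme.Hom.finrank f.left y = d) {F : Y.left.Modules} (hF : Coh.IsCoh F) :
    @Curv2.euler k _ X.left ⟨X.hom⟩ ((Scheme.Modules.pullback f.left).obj F) =
      (d : ℤ) * @Curv2.euler k _ Y.left ⟨Y.hom⟩ F := by
  letI : X.left.Over (Spec (CommRingCat.of k)) := ⟨X.hom⟩
  letI : Y.left.Over (Spec (CommRingCat.of k)) := ⟨Y.hom⟩
  haveI : IsProper (X.left ↘ Spec (CommRingCat.of k)) := ‹IsProper X.hom›
  haveI : IsProper (Y.left ↘ Spec (CommRingCat.of k)) := ‹IsProper Y.hom›
  obtain ⟨K, i, hK, hsq⟩ := exists_shear f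
  have hK' : IsPullback i.left K.hom f.left (η[X] ≫ f).left := hK.map (Over.forget _)
  haveI : IsFinite K.hom := MorphismProperty.of_isPullback hK' inferInstance
  haveI : Flat K.hom := MorphismProperty.of_isPullback hK' inferInstance
  haveI : IsAffine K.left := isAffine_of_isAffineHom K.hom
  have hd0 : 1 ≤ d := hd _ ▸ Scheme.Hom.one_le_finrank_map f.left (η[X].left (IsLocalRing.closedPoint k))
  haveI : Surjective f.left :=
    (Scheme.Hom.one_le_finrank_iff_surjective f.left).1 fun y => (hd y).symm ▸ hd0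
  let B := Γ(K.left, ⊤)
  letI : Algebra k B := (Coh.toGlobal (A := k) K.hom).toAlgebra
  let σ : Spec (CommRingCat.of B) ⟶ Spec (CommRingCat.of k) := Spec.map (CommRingCat.ofHom (algebraMap k B))
  have hσ : K.left.isoSpec.hom ≫ σ = K.hom := by
    show K.left.toSpecΓ ≫ Spec.map ((Scheme.ΓSpecIso _).inv ≫ K.hom.appTop) = _
    rw [Spec.map_comp, ← Category.assoc, ← Scheme.toSpecΓ_naturality, Category.assoc,
      toSpecΓ_SpecMap_ΓSpecIso_inv, Category.comp_id]
  have hσ' : σ = K.left.isoSpec.inv ≫ K.hom := by rw [← hσ, Iso.inv_hom_id_assoc]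
  haveI : IsFinite σ := by rw [hσ']; infer_instance
  haveI : Module.Finite k B := RingHom.finite_algebraMap.1 ((IsFinite.SpecMap_iff _).1 ‹IsFinite σ›)
  have hdB : Module.finrank k B = d := by
    have h := Scheme.Hom.finrank_SpecMap_algebraMap k B (IsLocalRing.closedPoint k)
    rw [Module.rankAtStalk_eq_finrank_of_free] at h
    simp only [Pi.natCast_apply, Nat.cast_id] at h
    rw [← h, show Spec.map (CommRingCat.ofHom (algebraMap k B)) = K.left.isoSpec.inv ≫ K.hom from hσ',
      Scheme.Hom.finrank_comp_left_of_isIso, Scheme.Hom.finrank_of_isPullback _ _ _ _ hK']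
    exact hd _
  have hbc : IsPullback (fst X K).left ((snd X K).left ≫ K.left.isoSpec.hom) X.hom σ :=
    (IsPullback.of_hasPullback X.hom K.hom).of_iso (Iso.refl _) (Iso.refl _) K.left.isoSpec (Iso.refl _)
      (by simp) (by simp) (by simp) (by simp [hσ])
  rw [← hdB]
  exact euler_pullback k f.left (Over.w f) (fst X K * (snd X K ≫ i)).left (fst X K).left
    (hsq.map (Over.forget _)) B ((snd X K).left ≫ K.left.isoSpec.hom) hbc hF

end Groth.Agent.AVIdx
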