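import Groth.Agent.AVIdx.IndexJump
import Groth.Agent.AVIdx.TateInj
import Groth.Agent.AVIdx.IsogenyEuler
import Groth.Agent.AVIsog3.Basic
import Groth.Agent.CurveBC.Coh
import Groth.Agent.ShStabX.Ascent
import Groth.Agent.AmpleX.Pow
import Groth.Agent.Lib.AVProj

/-!
The index of an invertible module over any field, read off from its Hilbert polynomial.
-/

noncomputable section

set_option linter.style.haveILetI false
set_option linter.unusedSectionVars false
set_option backward.isDefEq.respectTransparency false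
set_option backward.isDefEq.respectTransparency.types false
set_option autoImplicit false
set_option maxHeartbeats 800000

universe u

open CategoryTheory CategoryTheory.Limits AlgebraicGeometry
open TopologicalSpace

namespace Groth.Agent.AVIdx

open Groth.Agent Groth.Agent.H23 Groth.Agent.AVPair Groth.Agent.AVCube Groth.Agent.AVAmple
open scoped Groth.Agent.H23.PicMul

/-- A module whose class is invertible is invertible. -/
theorem isInvertible_of_cl {X : Scheme.{u}} {M : X.Modules} (h : PicF.IsInvertibleCl (PicF.cl M)) :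
    PicF.IsInvertible M := by
  obtain ⟨N, e, hN⟩ := h
  exact PicMul.isInvertible_of_iso (PicMul.cl_eq_iff.1 e).some hN

/-- An invertible module, as a unit. -/
def unitCl {X : Scheme.{u}} {L : X.Modules} (hL : PicF.IsInvertible L) : (PicF.Cl X)ˣ :=
  Units.mkOfMulEqOne _ _ (AVPair.exists_inv ⟨L, rfl, hL⟩).choose_spec.2

theorem val_unitCl {X : Scheme.{u}} {L : X.Modules} (hL : PicF.IsInvertible L) :
    (unitCl hL : PicF.Cl X) = PicF.cl L := rfl

variable {k : Type u} [Field k] {A : Over (Spec (CommRingCat.of k))}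
  [GrpObj A] [IsProper A.hom] [GeometricallyIntegral A.hom]

/-- Euler characteristics do not change under extension of the ground field. -/
theorem euler_geo {M : A.left.Modules} (hM : Coh.IsQCoh M) :
    @Curv2.euler (AlgebraicClosure k) _ (geo A).left ⟨(geo A).hom⟩ ((Scheme.Modules.pullback (pullback.fst A.hom
      (fieldMap (k := k) (AlgebraicClosure k)))).obj M) = @Curv2.euler k _ A.left ⟨A.hom⟩ M := by
  letI : A.left.Over (Spec (CommRingCat.of k)) := ⟨A.hom⟩
  letI : (geo A).left.Over (Spec (CommRingCat.of (AlgebraicClosure k))) := ⟨(geo A).hom⟩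
  haveI : CompactSpace A.left := QuasiCompact.compactSpace_of_compactSpace A.hom
  haveI : A.left.IsSeparated := ⟨by rw [← Limits.terminal.comp_from A.hom]; infer_instance⟩
  haveI : QuasiSeparatedSpace A.left := by
    rw [quasiSeparatedSpace_iff_quasiSeparated]
    infer_instance
  exact CurveBC.euler_eq k (AlgebraicClosure k) _ (IsPullback.of_hasPullback A.hom _) M hM

/-- An invertible module of non-zero Euler characteristic has concentrated cohomology. -/
theorem exists_concentrated {L : A.left.Modules} (hL : PicF.IsInvertible L)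
    (hχ : @Curv2.euler k _ A.left ⟨A.hom⟩ L ≠ 0) :
    ∃ i, (∀ j, j ≠ i → Subsingleton (Coh.HH A.left L j)) ∧ ¬ Subsingleton (Coh.HH A.left L i) := by
  let π := pullback.fst A.hom (fieldMap (k := k) (AlgebraicClosure k))
  haveI : IsProper (geo A).hom := inferInstanceAs (IsProper (pullback.snd A.hom _))
  haveI : GeometricallyIntegral (geo A).hom := inferInstanceAs (GeometricallyIntegral (pullback.snd A.hom _))
  obtain ⟨g, hg⟩ := exists_dim A
  have hq := ProjUPX.isQCoh_of_isInvertible hL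
  obtain ⟨i, -, h⟩ := exists_hasIdx (A := geo A) (c := PicF.cl ((Scheme.Modules.pullback π).obj L))
    (dim_bc (AlgebraicClosure k) A hg) ⟨_, rfl, PicClLib.isInvertible_pullback π hL⟩
    (by rw [chiCl_cl, euler_geo hq]; exact hχ)
  exact ⟨i, fun j hj => (subsingleton_HH_geo_iff A hq j).1 (h.subsingleton hj),
    fun hs => h.not_subsingleton ((subsingleton_HH_geo_iff A hq i).2 hs)⟩

/-- Concentrated cohomology gives a non-zero Euler characteristic. -/
theorem euler_ne_zero {L : A.left.Modules} (hL : PicF.IsInvertible L) {i : ℕ}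
    (hvan : ∀ j, j ≠ i → Subsingleton (Coh.HH A.left L j)) (hne : ¬ Subsingleton (Coh.HH A.left L i)) :
    @Curv2.euler k _ A.left ⟨A.hom⟩ L ≠ 0 := by
  rw [← chiCl_cl]
  exact HasIdx.chiCl_ne_zero (i := i) ⟨L, hL, rfl, hvan, hne⟩

/-- Existence of the Hilbert polynomial. -/
theorem exists_hilb {L H : A.left.Modules} (hL : PicF.IsInvertible L) (hH : PicF.IsInvertible H) :
    ∃ Φ : Polynomial ℚ, ∀ n : ℕ, Φ.eval (n : ℚ) =
      (@Curv2.euler k _ A.left ⟨A.hom⟩ (CohB1.tensorMod L (CohB1.tensorPow H n)) : ℚ) := by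
  letI : A.left.Over (Spec (CommRingCat.of k)) := ⟨A.hom⟩
  haveI : IsProper (A.left ↘ Spec (CommRingCat.of k)) := ‹IsProper A.hom›
  haveI := CurveCohLib.isNoetherian_of_proper (k := k) (X := A.left)
  obtain ⟨g, hg⟩ := exists_dim A
  have hlt : topologicalKrullDim ↥((⊤ : Closeds A.left) : Set A.left) < ((g + 1 : ℕ) : WithBot ℕ∞) :=
    lt_of_le_of_lt ((topologicalKrullDim_subspace_le A.left _).trans hg.le) (by exact_mod_cast Nat.lt_succ_self g)
  obtain ⟨Q, -, hQn⟩ := Snapper.isPolyLt_of_dim_lt k hH (g + 1) ⊤ hlt L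
    (AmpleVan.isCoh_invertible hL) (fun _ _ => trivial)
  exact ⟨Q, fun n => (hQn n).symm⟩

/-- The roots of the Hilbert polynomial are real, and the index of `L ⊗ H ^ m` counts those above `m`. -/
theorem index_card {L H M : A.left.Modules} (hL : PicF.IsInvertible L) (hH : CohB1.IsAmple H) (m : ℕ)
    (hM : PicF.cl M = PicF.cl L * PicF.cl H ^ m) {i : ℕ}
    (hvan : ∀ j, j ≠ i → Subsingleton (Coh.HH A.left M j)) (hne : ¬ Subsingleton (Coh.HH A.left M i))
    (Φ : Polynomial ℚ)
    (hΦ : ∀ n : ℕ, Φ.eval (n : ℚ) =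
      (@Curv2.euler k _ A.left ⟨A.hom⟩ (CohB1.tensorMod L (CohB1.tensorPow H n)) : ℚ)) :
    Multiset.card (Φ.map (algebraMap ℚ ℝ)).roots = Φ.natDegree ∧
      i = Multiset.card ((Φ.map (algebraMap ℚ ℝ)).roots.filter fun t => (m : ℝ) < t) := by
  letI : A.left.Over (Spec (CommRingCat.of k)) := ⟨A.hom⟩
  haveI : IsProper (A.left ↘ Spec (CommRingCat.of k)) := ‹IsProper A.hom›
  let π := pullback.fst A.hom (fieldMap (k := k) (AlgebraicClosure k))
  haveI : IsProper (geo A).hom := inferInstanceAs (IsProper (pullback.snd A.hom _))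
  haveI : GeometricallyIntegral (geo A).hom := inferInstanceAs (GeometricallyIntegral (pullback.snd A.hom _))
  obtain ⟨g, hg⟩ := exists_dim A
  obtain ⟨q, hq2, hq⟩ : ∃ q : ℕ, 2 ≤ q ∧ (q : AlgebraicClosure k) ≠ 0 := by
    by_cases h : ((2 : ℕ) : AlgebraicClosure k) = 0
    · exact ⟨3, by omega, by rw [Nat.cast_succ, h, zero_add]; exact one_ne_zero⟩
    · exact ⟨2, le_rfl, h⟩
  haveI hpb : IsPullback π (geo A).hom A.hom (fieldMap (k := k) (AlgebraicClosure k)) :=
    IsPullback.of_hasPullback _ _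
  letI : (geo A).left.Over (Spec (CommRingCat.of (AlgebraicClosure k))) := ⟨(geo A).hom⟩
  have hL' := PicClLib.isInvertible_pullback π hL
  have hH' : CohB1.IsAmple ((Scheme.Modules.pullback π).obj H) :=
    ShStabX.isAmple_bc k (AlgebraicClosure k) π hpb hH
  have hcl : ∀ {N : A.left.Modules} (n : ℕ), PicF.cl N = PicF.cl L * PicF.cl H ^ n →
      PicF.cl ((Scheme.Modules.pullback π).obj N) = ((unitCl hL' * unitCl hH'.1 ^ n : (PicF.Cl _)ˣ) : PicF.Cl _) :=
    fun {N} n h => by
    rw [Units.val_mul, Units.val_pow_eq_pow_val, val_unitCl, val_unitCl]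
    show PicMul.pullHom π (PicF.cl N) = PicMul.pullHom π (PicF.cl L) * PicMul.pullHom π (PicF.cl H) ^ n
    rw [← map_pow, ← map_mul, h]
  let D : Fam (geo A) :=
    { g := g
      dim := dim_bc (AlgebraicClosure k) A hg
      u := unitCl hL'
      hu := ⟨_, rfl, hL'⟩
      v := unitCl hH'.1
      hv := ⟨_, rfl, hH'.1⟩
      H := _
      amp := hH'
      clH := (val_unitCl hH'.1).symm
      q := q
      two_le := hq2
      hq := hq
      Φ := Φ
      hΦ := fun n => by
        rw [hΦ n, ← euler_geo (ProjUPX.isQCoh_of_isInvertible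
          (PicMul.isInvertible_tensor hL (PicMul.isInvertible_tensorPow hH.1 n))), ← chiCl_cl,
          hcl n (by rw [PicMul.cl_tensor, PicMul.cl_tensorPow])] }
  have hMi : PicF.IsInvertible M := isInvertible_of_cl (hM ▸ PicMul.isInvertibleCl_mul ⟨_, rfl, hL⟩
    (isInvertibleCl_pow ⟨_, rfl, hH.1⟩ m))
  have hqc := ProjUPX.isQCoh_of_isInvertible hMi
  have hidx : HasIdx (D.E 0 (m : ℤ) : PicF.Cl (geo A).left) i :=
    ⟨(Scheme.Modules.pullback π).obj M, PicClLib.isInvertible_pullback π hMi, by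
      rw [hcl m hM, Fam.E, Fam.N, Nat.mul_zero, pow_zero, pow_one, zpow_natCast],
      fun j hj => (subsingleton_HH_geo_iff A hqc j).2 (hvan j hj),
      fun h => hne ((subsingleton_HH_geo_iff A hqc i).1 h)⟩
  have := D.roots_and_index hidx
  simpa only [Int.cast_natCast] using this

/-- Modules with proportional Hilbert polynomials have the same index. -/
theorem index_eq_of_scale {B : Over (Spec (CommRingCat.of k))} [GrpObj B] [IsProper B.hom]
    [GeometricallyIntegral B.hom] {L H : A.left.Modules} (hL : PicF.IsInvertible L) (hH : CohB1.IsAmple H)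
    {L' H' : B.left.Modules} (hL' : PicF.IsInvertible L') (hH' : CohB1.IsAmple H') {c : ℕ} (hc : c ≠ 0)
    (hχ : ∀ n : ℕ, @Curv2.euler k _ B.left ⟨B.hom⟩ (CohB1.tensorMod L' (CohB1.tensorPow H' n)) =
      (c : ℤ) * @Curv2.euler k _ A.left ⟨A.hom⟩ (CohB1.tensorMod L (CohB1.tensorPow H n)))
    {i : ℕ} (hvan : ∀ j, j ≠ i → Subsingleton (Coh.HH A.left L j)) (hne : ¬ Subsingleton (Coh.HH A.left L i)) :
    (∀ j, j ≠ i → Subsingleton (Coh.HH B.left L' j)) ∧ ¬ Subsingleton (Coh.HH B.left L' i) := by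
  have h0 : ∀ {X : Scheme.{u}} (M N : X.Modules), PicF.cl (CohB1.tensorMod M (CohB1.tensorPow N 0)) = PicF.cl M :=
    fun M N => by rw [PicMul.cl_tensor, PicMul.cl_tensorPow, pow_zero, _root_.mul_one]
  have hne' : @Curv2.euler k _ B.left ⟨B.hom⟩ L' ≠ 0 := by
    rw [← chiCl_cl, ← h0 L' H', chiCl_cl, hχ 0]
    refine mul_ne_zero (Nat.cast_ne_zero.2 hc) ?_
    rw [← chiCl_cl, h0, chiCl_cl]
    exact euler_ne_zero hL hvan hne
  obtain ⟨i', hvan', hne''⟩ := exists_concentrated hL' hne'
  obtain ⟨Φ, hΦ⟩ := exists_hilb (A := A) hL hH.1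
  have hΦ' : ∀ n : ℕ, (Polynomial.C (c : ℚ) * Φ).eval (n : ℚ) =
      (@Curv2.euler k _ B.left ⟨B.hom⟩ (CohB1.tensorMod L' (CohB1.tensorPow H' n)) : ℚ) := fun n => by
    rw [Polynomial.eval_mul, Polynomial.eval_C, hΦ n, hχ n]
    push_cast
    rfl
  have e := (index_card hL hH 0 (by rw [pow_zero, _root_.mul_one]) hvan hne Φ hΦ).2
  have e' := (index_card hL' hH' 0 (by rw [pow_zero, _root_.mul_one]) hvan' hne'' _ hΦ').2
  rw [Polynomial.map_mul, Polynomial.map_C, Polynomial.roots_C_mul _ (by simpa using hc), ← e] at e'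
  subst e'
  exact ⟨hvan', hne''⟩

/-- Powers keep the index. -/
theorem index_pow {L : A.left.Modules} (hL : PicF.IsInvertible L) {i : ℕ}
    (hvan : ∀ j, j ≠ i → Subsingleton (Coh.HH A.left L j)) (hne : ¬ Subsingleton (Coh.HH A.left L i))
    {m : ℕ} (hm : 0 < m) :
    (∀ j, j ≠ i → Subsingleton (Coh.HH A.left (CohB1.tensorPow L m) j)) ∧
      ¬ Subsingleton (Coh.HH A.left (CohB1.tensorPow L m) i) := by
  obtain ⟨H, hH⟩ := AVProj.exists_isAmple (X := A)
  obtain ⟨g, hg⟩ := exists_dim A
  refine index_eq_of_scale hL hH (PicMul.isInvertible_tensorPow hL m) (AmpleX.isAmple_tensorPow hH hm)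
    (c := m ^ g) (pow_ne_zero _ hm.ne') (fun n => ?_) hvan hne
  have e : PicF.cl (CohB1.tensorMod (CohB1.tensorPow L m) (CohB1.tensorPow (CohB1.tensorPow H m) n)) =
      PicF.cl (CohB1.tensorMod L (CohB1.tensorPow H n)) ^ m * 1 := by
    simp only [PicMul.cl_tensor, PicMul.cl_tensorPow, mul_pow, _root_.mul_one, ← pow_mul, mul_comm n m]
  rw [← chiCl_cl, e, chiCl_pow_mul (q := 1) hg ⟨_, rfl, PicMul.isInvertible_tensor hL (PicMul.isInvertible_tensorPow hH.1 n)⟩
    ⟨_, rfl, PicLoc.isInvertible_structureModule A.left⟩ isAdd_one, chiCl_cl, Nat.cast_pow]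

/-- Pullback along an isogeny keeps the index. -/
theorem index_pullback {B : Over (Spec (CommRingCat.of k))} [GrpObj B] [IsProper B.hom]
    [GeometricallyIntegral B.hom] (f : B ⟶ A) [IsFinite f.left] [Flat f.left] [Surjective f.left]
    {L : A.left.Modules} (hL : PicF.IsInvertible L) {i : ℕ}
    (hvan : ∀ j, j ≠ i → Subsingleton (Coh.HH A.left L j)) (hne : ¬ Subsingleton (Coh.HH A.left L i)) :
    (∀ j, j ≠ i → Subsingleton (Coh.HH B.left ((Scheme.Modules.pullback f.left).obj L) j)) ∧
      ¬ Subsingleton (Coh.HH B.left ((Scheme.Modules.pullback f.left).obj L) i) := by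
  haveI := AVIsog3.lfp_left f
  haveI : IsIntegral A.left := GeometricallyIntegral.isIntegral_of_subsingleton A.hom
  haveI : CompactSpace B.left := QuasiCompact.compactSpace_of_compactSpace B.hom
  haveI : IsLocallyNoetherian A.left := LocallyOfFiniteType.isLocallyNoetherian A.hom
  obtain ⟨H, hH⟩ := AVProj.exists_isAmple (X := A)
  obtain ⟨y₀⟩ : Nonempty A.left := inferInstance
  have hd : ∀ y : A.left, f.left.finrank y = f.left.finrank y₀ := fun y =>
    (f.left.isLocallyConstant_finrank).apply_eq_of_preconnectedSpace y y₀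
  have hd0 : f.left.finrank y₀ ≠ 0 := by
    exact Nat.one_le_iff_ne_zero.1 ((Scheme.Hom.one_le_finrank_iff_surjective f.left).2 ‹_› y₀)
  refine index_eq_of_scale hL hH (PicClLib.isInvertible_pullback _ hL)
    (ShStabX.isAmple_pullback_affine f.left hH) (c := f.left.finrank y₀) hd0 (fun n => ?_) hvan hne
  rw [← euler_pullback_av B A f _ hd
    (CurveDeg.isCoh_of_isInvertible (PicMul.isInvertible_tensor hL (PicMul.isInvertible_tensorPow hH.1 n))),
    ← chiCl_cl, ← chiCl_cl]
  congr 1
  rw [PicMul.cl_tensor, PicMul.cl_tensorPow]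
  show PicMul.pullHom f.left (PicF.cl L) * PicMul.pullHom f.left (PicF.cl H) ^ n =
    PicMul.pullHom f.left (PicF.cl (CohB1.tensorMod L (CohB1.tensorPow H n)))
  rw [← map_pow, ← map_mul, PicMul.cl_tensor, PicMul.cl_tensorPow]

end Groth.Agent.AVIdx
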