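import Groth.Agent.AVIdx.IndexRoots

/-!
The index along a ray changes at a root by at most its multiplicity; it is the number of roots to the right.
-/

noncomputable section

set_option linter.style.haveILetI false
set_option linter.unusedSectionVars false
set_option backward.isDefEq.respectTransparency false
set_option backward.isDefEq.respectTransparency.types false
set_option autoImplicit false
set_option maxHeartbeats 800000

universe u

open CategoryTheory CategoryTheory.Limits AlgebraicGeometry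
open TopologicalSpace Filter

namespace Groth.Agent.AVIdx

open Groth.Agent Groth.Agent.H23 Groth.Agent.AVPair Groth.Agent.AVCube Groth.Agent.AVAmple
open scoped Groth.Agent.H23.PicMul

/-- A closed subset of an irreducible closed set missing its generic point has smaller dimension. -/
theorem dim_sdiff_lt {X : Type*} [TopologicalSpace X] {C : Closeds X} {U : Opens X} {η : X}
    (hirr : IsIrreducible (C : Set X)) (hηC : η ∈ (C : Set X)) (hηU : η ∈ U) {d : ℕ}
    (hC : topologicalKrullDim ↥(C : Set X) < ((d + 1 : ℕ) : WithBot ℕ∞)) :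
    topologicalKrullDim ↥((C : Set X) \ U) < (d : WithBot ℕ∞) := by
  haveI : IrreducibleSpace ↥(C : Set X) := isIrreducible_iff_irreducibleSpace.1 hirr
  let Y : Set ↥(C : Set X) := {y | (y : X) ∈ (U : Set X)ᶜ}
  have hlt := H23.TopDim.dim_lt_of_ssubset (X := ↥(C : Set X)) (fun h => by rw [h] at hC; exact not_top_lt hC)
    (Y := Y) (U.2.isClosed_compl.preimage continuous_subtype_val)
    (fun h => (h.ge (Set.mem_univ ⟨η, hηC⟩) : η ∈ (U : Set X)ᶜ) hηU)
  have hle : topologicalKrullDim ↥((C : Set X) \ U) ≤ topologicalKrullDim ↥Y := by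
    let g : ↥((C : Set X) \ U) → ↥Y := fun p => ⟨⟨p.1, p.2.1⟩, p.2.2⟩
    have hcomp : Topology.IsInducing ((Subtype.val ∘ Subtype.val : ↥Y → X) ∘ g) :=
      show Topology.IsInducing (Subtype.val : ↥((C : Set X) \ U) → X) from Topology.IsInducing.subtypeVal
    exact ((Topology.IsInducing.subtypeVal.comp Topology.IsInducing.subtypeVal).of_comp_iff.1 hcomp).topologicalKrullDim_le
  refine lt_of_le_of_lt hle ?_
  revert hlt hC
  generalize topologicalKrullDim ↥Y = a
  generalize topologicalKrullDim ↥(C : Set X) = b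
  intro hC hlt
  cases a with
  | bot => exact WithBot.bot_lt_coe _
  | coe a =>
    cases b with
    | bot => exact absurd hlt not_lt_bot
    | coe b =>
      have h1 : a < b := WithBot.coe_lt_coe.1 hlt
      have h2 : b < ((d + 1 : ℕ) : ℕ∞) := WithBot.coe_lt_coe.1 hC
      refine WithBot.coe_lt_coe.2 (lt_of_lt_of_le h1 ?_)
      exact ENat.lt_add_one_iff (ENat.natCast_ne_top d) |>.1 (by exact_mod_cast h2)

theorem le_of_steps {f : ℤ → ℝ} {δ : ℝ} {B : ℤ} : ∀ (t : ℕ) (b : ℤ), b + t = B →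
    (∀ b', b ≤ b' → b' < B → f b' ≤ f (b' + 1) + δ) → f b ≤ f B + t * δ
  | 0, b, h, _ => by
    obtain rfl : b = B := by simpa using h
    simp
  | t + 1, b, h, hs => by
    have h1 := le_of_steps t (b + 1) (by push_cast at h ⊢; omega) fun b' hb' hB => hs b' (by omega) hB
    have h2 := hs b le_rfl (by push_cast at h; omega)
    push_cast
    linarith

theorem card_filter_split {S : Multiset ℝ} {a a' τ b' b : ℝ} (h1 : a < a') (h2 : a' < τ) (h3 : τ < b') (h4 : b' < b) :
    (S.filter fun r => a < r ∧ r < a').card + S.count τ + (S.filter fun r => b' < r ∧ r < b).card ≤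
      (S.filter fun r => a < r ∧ r < b).card := by
  induction S using Multiset.induction with
  | empty => simp
  | cons r S ih =>
    simp only [Multiset.filter_cons, Multiset.count_cons, Multiset.card_add]
    split_ifs with ha hb hc hd
    all_goals first
      | (simp only [Multiset.card_singleton, Multiset.card_zero]; omega)
      | omega
      | (exfalso; grind)

variable {k : Type u} [Field k] {A : Over (Spec (CommRingCat.of k))}
  [GrpObj A] [IsProper A.hom] [GeometricallyIntegral A.hom]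

namespace Fam

variable [IsAlgClosed k] (D : Fam A)

/-- The index is `i` on the interval `[α, β]` at all high levels. -/
def IdxOn (α β : ℝ) (i : ℕ) : Prop :=
  ∀ᶠ s in atTop, ∀ b : ℤ, α * D.N s ≤ b → (b : ℝ) ≤ β * D.N s → HasIdx (D.E s b : PicF.Cl A.left) i

/-- The index near `t`. -/
def Near (t : ℝ) (i : ℕ) : Prop := ∃ δ > 0, D.IdxOn (t - δ) (t + δ) i

variable {D}

theorem eventually_le_N (C : ℝ) : ∀ᶠ s in atTop, C ≤ (D.N s : ℝ) := D.tendsto_N.eventually_ge_atTop C

theorem exists_int_between {α β : ℝ} {s : ℕ} (h : 1 ≤ (β - α) * D.N s) :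
    ∃ b : ℤ, α * D.N s ≤ b ∧ (b : ℝ) ≤ β * D.N s :=
  ⟨⌈α * D.N s⌉, Int.le_ceil _, by have := Int.ceil_lt_add_one (α * D.N s); nlinarith⟩

theorem eventually_exists_int {α β : ℝ} (h : α < β) :
    ∀ᶠ s in atTop, ∃ b : ℤ, α * D.N s ≤ b ∧ (b : ℝ) ≤ β * D.N s :=
  (eventually_le_N (1 / (β - α))).mono fun s hs => exists_int_between (by
    rwa [div_le_iff₀ (sub_pos.2 h), mul_comm] at hs)

theorem IdxOn.mono {α β α' β' : ℝ} {i : ℕ} (h : D.IdxOn α β i) (hα : α ≤ α') (hβ : β' ≤ β) :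
    D.IdxOn α' β' i :=
  Filter.Eventually.mono h fun s hs b h1 h2 => hs b ((mul_le_mul_of_nonneg_right hα (D.N_pos s).le).trans h1)
    (h2.trans (mul_le_mul_of_nonneg_right hβ (D.N_pos s).le))

theorem IdxOn.unique {α β : ℝ} {i i' : ℕ} (h : D.IdxOn α β i) (h' : D.IdxOn α β i') (hlt : α < β) : i = i' := by
  obtain ⟨s, h1, h2, b, hb1, hb2⟩ := (Filter.Eventually.and h (Filter.Eventually.and h' (eventually_exists_int (D := D) hlt))).exists
  exact (h1 b hb1 hb2).unique (h2 b hb1 hb2)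

theorem Near.unique {t : ℝ} {i i' : ℕ} (h : D.Near t i) (h' : D.Near t i') : i = i' := by
  obtain ⟨δ, hδ, h⟩ := h
  obtain ⟨δ', hδ', h'⟩ := h'
  refine (h.mono (α' := t - min δ δ') (β' := t + min δ δ') ?_ ?_).unique (h'.mono ?_ ?_)
    (by have := lt_min hδ hδ'; linarith) <;>
    linarith [min_le_left δ δ', min_le_right δ δ']

theorem ne_zero_of_idx {s : ℕ} {b : ℤ} {i : ℕ} (h : HasIdx (D.E s b : PicF.Cl A.left) i) :
    D.val (b / D.N s) ≠ 0 := fun h0 => h.chiCl_ne_zero (by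
  have := D.chi_E s b
  rw [h0, mul_zero] at this
  exact_mod_cast this)

/-- Bounds for finitely many modules combine. -/
theorem exists_bound_sum {S : List A.left.Modules} {Pr : A.left.Modules → ℝ → Prop}
    (hmono : ∀ N K K', K ≤ K' → Pr N K → Pr N K') (h : ∀ N ∈ S, ∃ K, 0 ≤ K ∧ Pr N K) :
    ∃ K, 0 ≤ K ∧ ∀ N ∈ S, Pr N K := by
  induction S with
  | nil => exact ⟨0, le_rfl, by simp⟩
  | cons N S ih =>
    obtain ⟨K, hK, hKS⟩ := ih fun M hM => h M (List.mem_cons_of_mem _ hM)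
    obtain ⟨K', hK', hKN⟩ := h N List.mem_cons_self
    refine ⟨max K K', hK.trans (le_max_left _ _), fun M hM => ?_⟩
    rcases List.mem_cons.1 hM with rfl | hM
    · exact hmono _ _ _ (le_max_right _ _) hKN
    · exact hmono _ _ _ (le_max_left _ _) (hKS M hM)

/-- The error of one step. -/
def err (S : List A.left.Modules) (s : ℕ) (b : ℤ) (j : ℕ) : ℝ :=
  (S.map fun N => ((D.h N s b (j - 1) + D.h N s b j + D.h N s b (j + 1) : ℕ) : ℝ)).sum

theorem err_le {S : List A.left.Modules} {s : ℕ} {b : ℤ} {j : ℕ} {R : ℝ}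
    (h : ∀ N ∈ S, ∀ i, j - 1 ≤ i → (D.h N s b i : ℝ) * D.N s ≤ R) :
    D.err S s b j * D.N s ≤ S.length * (3 * R) := by
  induction S with
  | nil => simp [err]
  | cons M S ih =>
    have h0 := ih fun N hN => h N (List.mem_cons_of_mem _ hN)
    have h1 := h M List.mem_cons_self (j - 1) le_rfl
    have h2 := h M List.mem_cons_self j (Nat.sub_le _ _)
    have h3 := h M List.mem_cons_self (j + 1) (by omega)
    simp only [err, List.map_cons, List.sum_cons, List.length_cons] at h0 ⊢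
    push_cast at h0 ⊢
    linarith

theorem exists_step_h {C : Closeds A.left} {U : A.left.Opens} {e : Γ(D.H, U)} (he : InvX.IsFrame e)
    {F : A.left.Modules} (hFc : Coh.IsCoh F) (hFC : CohB1.support F ⊆ C) :
    ∃ S : List A.left.Modules, (∀ N ∈ S, Coh.IsCoh N ∧ CohB1.support N ⊆ (C : Set A.left) \ U) ∧
      ∀ s b j, (D.h F s b j : ℝ) ≤ D.h F s (b + 1) j + D.err S s b j ∧
        (D.h F s (b + 1) j : ℝ) ≤ D.h F s b j + D.err S s b j := by
  letI : A.left.Over (Spec (CommRingCat.of k)) := ⟨A.hom⟩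
  haveI : IsProper (A.left ↘ Spec (CommRingCat.of k)) := ‹IsProper A.hom›
  obtain ⟨S, hS, hstep⟩ := exists_step k D.amp.1 he hFc hFC
  refine ⟨S, hS, fun s b j => ?_⟩
  obtain ⟨h1, h2⟩ := hstep (D.P s b) (D.P s (b + 1)) (D.invCl_E s b).rep (D.cl_P_succ s b) j
  have e : D.err S s b j = (((S.map fun N => hF k N (D.P s b) (j - 1) + hF k N (D.P s b) j +
      hF k N (D.P s b) (j + 1)).sum : ℕ) : ℝ) := by
    rw [Nat.cast_list_sum, List.map_map]
    rfl
  rw [e]
  exact ⟨by exact_mod_cast h1, by exact_mod_cast h2⟩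

/-- The index is constant on root-free intervals. -/
theorem exists_idxOn {α β : ℝ} (hαβ : α < β) (hz : ∀ t ∈ Set.Icc α β, D.val t ≠ 0) :
    ∃ i, i ≤ D.g ∧ D.IdxOn α β i := by
  letI : A.left.Over (Spec (CommRingCat.of k)) := ⟨A.hom⟩
  haveI : IsProper (A.left ↘ Spec (CommRingCat.of k)) := ‹IsProper A.hom›
  haveI := CurveCohLib.isNoetherian_of_proper (k := k) (X := A.left)
  haveI : IsIntegral A.left := GeometricallyIntegral.isIntegral_of_subsingleton A.hom
  obtain ⟨t₀, ht₀, hmin⟩ := isCompact_Icc.exists_isMinOn (Set.nonempty_Icc.2 hαβ.le)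
    ((D.Φ.map (algebraMap ℚ ℝ)).continuous.abs.continuousOn)
  let c : ℝ := |D.val t₀|
  have hc : 0 < c := abs_pos.2 (hz t₀ ht₀)
  have hcle : ∀ t ∈ Set.Icc α β, c ≤ |D.val t| := fun t ht => hmin ht
  let η := genericPoint A.left
  obtain ⟨U, hηU, e, he⟩ := InvX.exists_frame D.amp.1 η
  have hdim : topologicalKrullDim ↥((⊤ : Closeds A.left) : Set A.left) < ((D.g + 1 : ℕ) : WithBot ℕ∞) :=
    lt_of_le_of_lt ((topologicalKrullDim_subspace_le A.left _).trans D.dim.le) (by exact_mod_cast Nat.lt_succ_self _)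
  obtain ⟨S, hS, hstep⟩ := D.exists_step_h (C := ⊤) he (F := Coh.structureModule A.left)
    QCoh.isCoh_structureModule' (fun _ _ => trivial)
  have hd := dim_sdiff_lt (C := ⊤) (U := U) (η := η) (by simpa using IrreducibleSpace.isIrreducible_univ A.left)
    trivial hηU hdim
  obtain ⟨K, hK0, hK⟩ := exists_bound_sum (S := S)
    (Pr := fun N K => ∀ s (b : ℤ), |(b : ℝ)| ≤ (|α| + |β|) * D.N s → ∀ j,
      (D.h N s b j : ℝ) * D.N s ≤ K * (D.N s : ℝ) ^ D.g)
    (fun N K K' hKK h s b hb j => (h s b hb j).trans (mul_le_mul_of_nonneg_right hKK (by positivity)))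
    fun N hN => D.exists_growth_h (C := ⟨_, (⊤ : Closeds A.left).isClosed.sdiff U.2⟩) hd (hS N hN).1 (hS N hN).2
      _ (by positivity)
  have hmem : ∀ {s : ℕ} {b : ℤ}, α * D.N s ≤ b → (b : ℝ) ≤ β * D.N s → (b : ℝ) / D.N s ∈ Set.Icc α β :=
    fun h1 h2 => ⟨(le_div_iff₀ (D.N_pos _)).2 h1, (div_le_iff₀ (D.N_pos _)).2 h2⟩
  have hev : ∀ᶠ s in atTop, (S.length * (3 * K) + 1) / c ≤ (D.N s : ℝ) ∧
      ∃ b : ℤ, α * D.N s ≤ b ∧ (b : ℝ) ≤ β * D.N s := (eventually_le_N _).and (eventually_exists_int hαβ)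
  obtain ⟨s₀, hs₀⟩ := eventually_atTop.1 hev
  have hconst : ∀ s, s₀ ≤ s → ∀ b : ℤ, α * D.N s ≤ b → (b + 1 : ℝ) ≤ β * D.N s → ∀ i i',
      HasIdx (D.E s b : PicF.Cl A.left) i → HasIdx (D.E s (b + 1) : PicF.Cl A.left) i' → i = i' := by
    intro s hs b h1 h2 i i' hi hi'
    by_contra hne
    have hb : |(b : ℝ)| ≤ (|α| + |β|) * D.N s := abs_le.2
      ⟨by nlinarith [neg_abs_le α, abs_nonneg β, D.N_pos s], by nlinarith [le_abs_self β, abs_nonneg α, D.N_pos s]⟩
    have hh := (hstep s b i).1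
    rw [D.h_structure hi, D.h_structure_eq_zero hi' hne, Nat.cast_zero, zero_add] at hh
    have he := err_le (D := D) (S := S) (s := s) (b := b) (j := i) fun N hN j _ => hK N hN s b hb j
    have hv := hcle _ (hmem h1 (by linarith))
    have hN := (div_le_iff₀ hc).1 (hs₀ s hs).1
    have hp : (0 : ℝ) < (D.N s : ℝ) ^ D.g := pow_pos (D.N_pos s) _
    have : c * (D.N s : ℝ) ^ D.g * D.N s ≤ S.length * (3 * (K * (D.N s : ℝ) ^ D.g)) :=
      ((mul_le_mul_of_nonneg_right ((mul_le_mul_of_nonneg_right hv hp.le).trans hh) (D.N_pos s).le)).trans he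
    nlinarith
  have hall : ∀ s, s₀ ≤ s → ∀ b b' : ℤ, α * D.N s ≤ b → b ≤ b' → (b' : ℝ) ≤ β * D.N s → ∀ i,
      HasIdx (D.E s b : PicF.Cl A.left) i → HasIdx (D.E s b' : PicF.Cl A.left) i := by
    intro s hs b b' h1 hbb
    induction b', hbb using Int.leInduction with
    | base => exact fun _ i hi => hi
    | succ c hc ih =>
      intro h2 i hi
      push_cast at h2
      have hi1 := ih (by linarith) i hi
      have hcb : (b : ℝ) ≤ (c : ℝ) := by exact_mod_cast hc
      obtain ⟨i', -, hi'⟩ := D.exists_idx s (c + 1) (hz _ (hmem (by push_cast; linarith) (by push_cast; linarith)))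
      rwa [hconst s hs c (h1.trans hcb) h2 i i' hi1 hi']
  obtain ⟨b₀, hb₀, hb₀'⟩ := (hs₀ s₀ le_rfl).2
  obtain ⟨i, hig, hi⟩ := D.exists_idx s₀ b₀ (hz _ (hmem hb₀ hb₀'))
  have hlev : ∀ s, s₀ ≤ s → ∀ b : ℤ, α * D.N s ≤ b → (b : ℝ) ≤ β * D.N s → HasIdx (D.E s b : PicF.Cl A.left) i := by
    intro s hs
    suffices H : ∃ b : ℤ, α * D.N s ≤ b ∧ (b : ℝ) ≤ β * D.N s ∧ HasIdx (D.E s b : PicF.Cl A.left) i by
      obtain ⟨c, hc1, hc2, hc⟩ := H
      intro b h1 h2
      rcases le_total c b with h | h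
      · exact hall s hs c b hc1 h h2 i hc
      · obtain ⟨j, -, hj⟩ := D.exists_idx s b (hz _ (hmem h1 h2))
        rwa [(hall s hs b c h1 h hc2 j hj).unique hc] at hj
    induction s, hs using Nat.le_induction with
    | base => exact ⟨b₀, hb₀, hb₀', hi⟩
    | succ s hs ih =>
      obtain ⟨b, h1, h2, hb⟩ := ih
      refine ⟨((D.q ^ 2 : ℕ) : ℤ) * b, ?_, ?_, D.idx_succ hb⟩ <;>
        · rw [D.N_succ]
          push_cast
          nlinarith [pow_nonneg (Nat.cast_nonneg (α := ℝ) D.q) 2]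
  exact ⟨i, hig, eventually_atTop.2 ⟨s₀, hlev⟩⟩

/-- Bounds of the cohomology in high degrees near a root. -/
def Bd (D : Fam A) (τ ε₀ : ℝ) (r m d : ℕ) (F : A.left.Modules) : Prop :=
  ∃ K, 0 ≤ K ∧ ∀ ε, 0 < ε → ε ≤ ε₀ → ∀ᶠ s in atTop, ∀ b : ℤ, (τ - ε) * D.N s ≤ b → (b : ℝ) ≤ (τ + ε) * D.N s →
    ∀ j, r + m ≤ j → (D.h F s b j : ℝ) * D.N s ≤ K * ε ^ m * (D.N s : ℝ) ^ d

theorem bd_of_dim_lt {τ ε₀ : ℝ} (hε₀ : 0 < ε₀) {r : ℕ}
    (hR : ∀ ε, 0 < ε → ε ≤ ε₀ → D.IdxOn (τ + ε / 2) (τ + ε) r) (m : ℕ) :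
    ∀ (d : ℕ) (C : Closeds A.left), topologicalKrullDim ↥(C : Set A.left) < (d : WithBot ℕ∞) →
      ∀ F, Coh.IsCoh F → CohB1.support F ⊆ C → D.Bd τ ε₀ r m d F := by
  letI : A.left.Over (Spec (CommRingCat.of k)) := ⟨A.hom⟩
  haveI : IsProper (A.left ↘ Spec (CommRingCat.of k)) := ‹IsProper A.hom›
  haveI := CurveCohLib.isNoetherian_of_proper (k := k) (X := A.left)
  induction m with
  | zero =>
    intro d C hC F hFc hFC
    obtain ⟨K, hK0, hK⟩ := D.exists_growth_h hC hFc hFC (|τ| + ε₀) (by positivity)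
    refine ⟨K, hK0, fun ε hε hεε => Eventually.of_forall fun s b h1 h2 j _ => ?_⟩
    rw [pow_zero, _root_.mul_one]
    refine hK s b (abs_le.2 ⟨?_, ?_⟩) j <;> nlinarith [neg_abs_le τ, le_abs_self τ, D.N_pos s]
  | succ m IHm =>
    intro d C
    induction C using WellFoundedLT.induction with
    | ind C IH =>
      intro hC F hFc hFC
      rcases Set.eq_empty_or_nonempty (C : Set A.left) with h0 | hne
      · haveI : IsEmpty ↥((⊥ : Closeds A.left) : Set A.left) := Set.isEmpty_coe_sort.2 rfl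
        haveI : IsEmpty (IrreducibleCloseds ↥((⊥ : Closeds A.left) : Set A.left)) :=
          ⟨fun Z => IsEmpty.false Z.isIrreducible'.nonempty.some⟩
        obtain ⟨K, -, hK⟩ := D.exists_growth_h (d := 0) (C := ⊥) (by
            rw [topologicalKrullDim, Order.krullDim_eq_bot]; exact WithBot.bot_lt_coe _)
          hFc ((hFC.trans h0.le).trans (Set.empty_subset _)) (|τ| + ε₀) (by positivity)
        refine ⟨0, le_rfl, fun ε hε hεε => ?_⟩
        filter_upwards [eventually_le_N (D := D) (K + 1)] with s hs b h1 h2 j _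
        have h3 := hK s b (abs_le.2 ⟨by nlinarith [neg_abs_le τ, le_abs_self τ, D.N_pos s],
          by nlinarith [neg_abs_le τ, le_abs_self τ, D.N_pos s]⟩) j
        rw [pow_zero, _root_.mul_one] at h3
        have h4 : D.h F s b j = 0 := by
          by_contra hne
          have : (1 : ℝ) ≤ D.h F s b j := by exact_mod_cast Nat.one_le_iff_ne_zero.2 hne
          nlinarith
        simp [h4]
      by_cases hirr : IsIrreducible (C : Set A.left)
      · obtain ⟨η, hη⟩ := QuasiSober.sober hirr C.isClosed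
        obtain ⟨d, rfl⟩ : ∃ d', d = d' + 1 := by
          refine ⟨d - 1, (Nat.sub_add_cancel (Nat.one_le_iff_ne_zero.2 fun h0 => ?_)).symm⟩
          subst h0
          haveI : Nonempty ↥(C : Set A.left) := hne.to_subtype
          haveI : IrreducibleSpace ↥(C : Set A.left) := isIrreducible_iff_irreducibleSpace.1 hirr
          haveI : Nonempty (IrreducibleCloseds ↥(C : Set A.left)) :=
            ⟨⟨Set.univ, IrreducibleSpace.isIrreducible_univ _, isClosed_univ⟩⟩
          exact absurd hC (not_lt.2 (by exact_mod_cast Order.krullDim_nonneg))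
        obtain ⟨U, hηU, e, he⟩ := InvX.exists_frame D.amp.1 η
        obtain ⟨S, hS, hstep⟩ := D.exists_step_h he hFc hFC
        have hd := dim_sdiff_lt hirr hη.mem hηU hC
        obtain ⟨K, hK0, hK⟩ := exists_bound_sum (S := S)
          (Pr := fun N K => ∀ ε, 0 < ε → ε ≤ ε₀ → ∀ᶠ s in atTop, ∀ b : ℤ, (τ - ε) * D.N s ≤ b →
            (b : ℝ) ≤ (τ + ε) * D.N s → ∀ j, r + m ≤ j → (D.h N s b j : ℝ) * D.N s ≤ K * ε ^ m * (D.N s : ℝ) ^ d)
          (fun N K K' hKK h ε hε hεε => (h ε hε hεε).mono fun s hs b h1 h2 j hj =>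
            (hs b h1 h2 j hj).trans (by gcongr))
          fun N hN => IHm d ⟨_, C.isClosed.sdiff U.2⟩ hd N (hS N hN).1 (hS N hN).2
        obtain ⟨B₀, hB₀⟩ := exists_amplitude k (H := D.H) (M := rep D.v⁻¹) D.amp (PicMul.cl_eq_iff.1 (by
          rw [PicMul.cl_tensor, cl_rep, D.clH, ← Units.val_mul, inv_mul_cancel]; rfl)) r F hFc
        refine ⟨S.length * (6 * K), by positivity, fun ε hε hεε => ?_⟩
        have hev : ∀ᶠ s in atTop, ∀ N ∈ S, ∀ b : ℤ, (τ - ε) * D.N s ≤ b → (b : ℝ) ≤ (τ + ε) * D.N s →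
            ∀ j, r + m ≤ j → (D.h N s b j : ℝ) * D.N s ≤ K * ε ^ m * (D.N s : ℝ) ^ d :=
          (List.finite_toSet S).eventually_all.2 fun N hN => hK N hN ε hε hεε
        filter_upwards [hev, hR ε hε hεε, eventually_le_N (D := D) ((B₀ + 1) / (ε / 2))] with s hsS hsR hsN
        intro b h1 h2 j hj
        let B : ℤ := ⌊(τ + ε) * D.N s⌋
        have hbB : b ≤ B := Int.le_floor.2 h2
        obtain ⟨t, ht⟩ : ∃ t : ℕ, b + t = B := ⟨(B - b).toNat, by omega⟩
        have hδ : ∀ b', b ≤ b' → b' < B →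
            (D.h F s b' j : ℝ) ≤ D.h F s (b' + 1) j + S.length * (3 * (K * ε ^ m * (D.N s : ℝ) ^ d)) / D.N s := by
          intro b' hb hB
          refine ((hstep s b' j).1).trans (add_le_add_right ?_ _)
          rw [le_div_iff₀ (D.N_pos s)]
          exact err_le fun N hN i hi => hsS N hN b' (h1.trans (by exact_mod_cast hb))
            ((Int.cast_le.2 hB.le).trans (Int.floor_le _)) i (by omega)
        have hB : D.h F s B j = 0 := by
          refine @Module.finrank_zero_of_subsingleton _ _ _ _ _ _ (hB₀ (D.P s B) (D.invCl_E s B).rep ?_ j (by omega))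
          intro e he j hj
          have hfl := Int.sub_one_lt_floor ((τ + ε) * (D.N s : ℝ))
          have hN' : ((B₀ : ℝ) + 1) ≤ D.N s * (ε / 2) := (div_le_iff₀ (by linarith)).1 hsN
          have he' : (e : ℝ) ≤ B₀ := Nat.cast_le.2 he
          have hidx := hsR (B - e) (by push_cast; simp only [B]; nlinarith)
            (by push_cast; nlinarith [Int.floor_le ((τ + ε) * (D.N s : ℝ))])
          refine HasIdx.subsingleton (i := r) ?_ hj.ne'
          rw [PicMul.cl_tensor, PicMul.cl_tensorPow, cl_rep]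
          show HasIdx (_ * PicF.cl (rep (D.E s B))) r
          rw [cl_rep, ← Units.val_pow_eq_pow_val, ← Units.val_mul]
          rwa [show D.v⁻¹ ^ e * D.E s B = D.E s (B - e) by
            rw [E, E, zpow_sub, zpow_natCast, inv_pow]; ac_rfl]
        have hsum := le_of_steps (f := fun b => (D.h F s b j : ℝ)) t b ht hδ
        simp only [hB, Nat.cast_zero, zero_add] at hsum
        have htN : (t : ℝ) ≤ 2 * ε * D.N s := by
          have : (b : ℝ) + t = (B : ℝ) := by exact_mod_cast ht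
          have := Int.floor_le ((τ + ε) * (D.N s : ℝ))
          simp only [B] at *
          nlinarith
        have hnn : (0 : ℝ) ≤ S.length * (3 * (K * ε ^ m * (D.N s : ℝ) ^ d)) / D.N s := by positivity
        calc (D.h F s b j : ℝ) * D.N s
            ≤ t * (S.length * (3 * (K * ε ^ m * (D.N s : ℝ) ^ d)) / D.N s) * D.N s :=
              mul_le_mul_of_nonneg_right hsum (D.N_pos s).le
          _ ≤ 2 * ε * D.N s * (S.length * (3 * (K * ε ^ m * (D.N s : ℝ) ^ d)) / D.N s) * D.N s :=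
              mul_le_mul_of_nonneg_right (mul_le_mul_of_nonneg_right htN hnn) (D.N_pos s).le
          _ = _ := by
            have := (D.N_pos s).ne'
            field_simp
            ring
      · obtain ⟨Z, W, hZ, hW, hsub, hnZ, hnW⟩ : ∃ Z W : Set A.left, IsClosed Z ∧ IsClosed W ∧
            (C : Set A.left) ⊆ Z ∪ W ∧ ¬ (C : Set A.left) ⊆ Z ∧ ¬ (C : Set A.left) ⊆ W := by
          by_contra! hno
          exact hirr ⟨hne, isPreirreducible_iff_isClosed_union_isClosed.2 fun Z W hZ hW hs =>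
            or_iff_not_imp_left.2 fun hZ' => hno Z W hZ hW hs hZ'⟩
        let C₁ : Closeds A.left := ⟨(C : Set A.left) ∩ Z, C.isClosed.inter hZ⟩
        let C₂ : Closeds A.left := ⟨(C : Set A.left) ∩ W, C.isClosed.inter hW⟩
        have h1 : C₁ < C := lt_of_le_of_ne (Set.inter_subset_left : (C : Set A.left) ∩ Z ⊆ C)
          fun h => hnZ (Set.inter_eq_left.1 (congrArg (SetLike.coe) h))
        have h2 : C₂ < C := lt_of_le_of_ne (Set.inter_subset_left : (C : Set A.left) ∩ W ⊆ C)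
          fun h => hnW (Set.inter_eq_left.1 (congrArg (SetLike.coe) h))
        have hdim : ∀ C' : Closeds A.left, C' ≤ C → topologicalKrullDim ↥(C' : Set A.left) < (d : WithBot ℕ∞) :=
          fun C' h => lt_of_le_of_lt (H23.TopDim.dim_le_dim_of_subset (show (C' : Set A.left) ⊆ C from h)) hC
        obtain ⟨M₁, M₂, hM₁, hM₂, hs₁, hs₂, hle⟩ := hF_split k (C := C) (C₁ := C₁) (C₂ := C₂)
          (fun x hx => (hsub hx).imp (fun h => ⟨hx, h⟩) fun h => ⟨hx, h⟩) hFc hFC
        obtain ⟨K₁, hK₁, hb₁⟩ := IH C₁ h1 (hdim C₁ h1.le) M₁ hM₁ hs₁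
        obtain ⟨K₂, hK₂, hb₂⟩ := IH C₂ h2 (hdim C₂ h2.le) M₂ hM₂ hs₂
        refine ⟨K₁ + K₂, by positivity, fun ε hε hεε => ?_⟩
        filter_upwards [hb₁ ε hε hεε, hb₂ ε hε hεε] with s hs1 hs2 b hb1 hb2 j hj
        have : (D.h F s b j : ℝ) ≤ D.h M₁ s b j + D.h M₂ s b j :=
          by exact_mod_cast hle (D.P s b) (D.invCl_E s b).rep j
        nlinarith [hs1 b hb1 hb2 j hj, hs2 b hb1 hb2 j hj, D.N_pos s]

theorem exists_gap (hΦ : D.Φ ≠ 0) (τ : ℝ) : ∃ δ > 0, ∀ t, |t - τ| ≤ δ → t ≠ τ → D.val t ≠ 0 := by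
  have hne : D.Φ.map (algebraMap ℚ ℝ) ≠ 0 :=
    (Polynomial.map_ne_zero_iff (algebraMap ℚ ℝ).injective).2 hΦ
  have hcl : IsClosed {t | t ∈ (D.Φ.map (algebraMap ℚ ℝ)).roots.toFinset.erase τ} :=
    (Finset.finite_toSet _).isClosed
  obtain ⟨δ, hδ, hball⟩ := Metric.isOpen_iff.1 hcl.isOpen_compl τ (by simp)
  refine ⟨δ / 2, by linarith, fun t ht htne h0 => hball (show t ∈ Metric.ball τ δ by
    rw [Metric.mem_ball, Real.dist_eq]; linarith) ?_⟩
  show t ∈ (D.Φ.map (algebraMap ℚ ℝ)).roots.toFinset.erase τ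
  rw [Finset.mem_erase, Multiset.mem_toFinset, Polynomial.mem_roots hne]
  exact ⟨htne, h0⟩

theorem exists_near_pair (hΦ : D.Φ ≠ 0) {a b : ℝ} (hab : a ≤ b) (hz : ∀ t ∈ Set.Icc a b, D.val t ≠ 0) :
    ∃ i, i ≤ D.g ∧ D.Near a i ∧ D.Near b i := by
  obtain ⟨δ₁, hδ₁, g₁⟩ := exists_gap hΦ a
  obtain ⟨δ₂, hδ₂, g₂⟩ := exists_gap hΦ b
  obtain ⟨δ, hδ, hl, hr⟩ : ∃ δ > 0, δ ≤ δ₁ ∧ δ ≤ δ₂ :=
    ⟨min δ₁ δ₂, lt_min hδ₁ hδ₂, min_le_left _ _, min_le_right _ _⟩
  obtain ⟨i, hi, h⟩ := D.exists_idxOn (α := a - δ) (β := b + δ) (by linarith) fun t ht => by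
    obtain ⟨ht1, ht2⟩ := ht
    rcases lt_or_ge t a with h | h
    · exact g₁ t (abs_le.2 ⟨by linarith, by linarith⟩) h.ne
    rcases lt_or_ge b t with h' | h'
    · exact g₂ t (abs_le.2 ⟨by linarith, by linarith⟩) h'.ne'
    · exact hz t ⟨h, h'⟩
  exact ⟨i, hi, ⟨δ, hδ, h.mono le_rfl (by linarith)⟩, ⟨δ, hδ, h.mono (by linarith) le_rfl⟩⟩

/-- At a root the index drops by at most the multiplicity. -/
theorem exists_jump (hΦ : D.Φ ≠ 0) (τ : ℝ) : ∃ δ > 0, ∀ a b : ℝ, τ - δ ≤ a → a < τ → τ < b → b ≤ τ + δ →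
    ∀ i i', D.Near a i → D.Near b i' → i ≤ i' + (D.Φ.map (algebraMap ℚ ℝ)).rootMultiplicity τ := by
  letI : A.left.Over (Spec (CommRingCat.of k)) := ⟨A.hom⟩
  haveI : IsProper (A.left ↘ Spec (CommRingCat.of k)) := ‹IsProper A.hom›
  haveI := CurveCohLib.isNoetherian_of_proper (k := k) (X := A.left)
  let p := D.Φ.map (algebraMap ℚ ℝ)
  have hp : p ≠ 0 := (Polynomial.map_ne_zero_iff (algebraMap ℚ ℝ).injective).2 hΦ
  let μ := p.rootMultiplicity τ
  obtain ⟨R, hRp, hRnd⟩ := Polynomial.exists_eq_pow_rootMultiplicity_mul_and_not_dvd p hp τ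
  have hR : R.eval τ ≠ 0 := fun h => hRnd (Polynomial.dvd_iff_isRoot.2 h)
  obtain ⟨δ, hδ, hgap⟩ := exists_gap hΦ τ
  refine ⟨δ, hδ, fun a b ha ha' hb hb' i i' hia hib => ?_⟩
  have hleft : ∀ t, τ - δ ≤ t → t < τ → D.Near t i := by
    intro t ht ht'
    obtain ⟨j, -, h1, h2⟩ := exists_near_pair hΦ (min_le_max : min a t ≤ max a t) fun x hx =>
      hgap x (abs_le.2 ⟨by linarith [hx.1, le_min ha ht], by linarith [hx.2, max_le ha'.le ht'.le]⟩)
        (lt_of_le_of_lt hx.2 (max_lt ha' ht')).ne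
    rcases le_total a t with h | h
    · rw [min_eq_left h] at h1; rw [max_eq_right h] at h2; rwa [hia.unique h1]
    · rw [min_eq_right h] at h1; rw [max_eq_left h] at h2; rwa [hia.unique h2]
  have hright : ∀ t, τ < t → t ≤ τ + δ → D.Near t i' := by
    intro t ht ht'
    obtain ⟨j, -, h1, h2⟩ := exists_near_pair hΦ (min_le_max : min b t ≤ max b t) fun x hx =>
      hgap x (abs_le.2 ⟨by linarith [hx.1, le_min hb.le ht.le], by linarith [hx.2, max_le hb' ht']⟩)
        (lt_of_lt_of_le (lt_min hb ht) hx.1).ne'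
    rcases le_total b t with h | h
    · rw [min_eq_left h] at h1; rw [max_eq_right h] at h2; rwa [hib.unique h1]
    · rw [min_eq_right h] at h1; rw [max_eq_left h] at h2; rwa [hib.unique h2]
  have honR : ∀ ε, 0 < ε → ε ≤ δ → D.IdxOn (τ + ε / 2) (τ + ε) i' := fun ε hε hεδ => by
    obtain ⟨j, -, hj⟩ := D.exists_idxOn (α := τ + ε / 2) (β := τ + ε) (by linarith) fun t ht =>
      hgap t (abs_le.2 ⟨by linarith [ht.1], by linarith [ht.2]⟩) (by have := ht.1; intro h; linarith)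
    have : D.Near (τ + 3 * ε / 4) j := ⟨ε / 4, by linarith, hj.mono (by linarith) (by linarith)⟩
    rwa [(hright _ (by linarith) (by linarith)).unique this]
  have honL : ∀ ε, 0 < ε → ε ≤ δ → D.IdxOn (τ - ε) (τ - ε / 2) i := fun ε hε hεδ => by
    obtain ⟨j, -, hj⟩ := D.exists_idxOn (α := τ - ε) (β := τ - ε / 2) (by linarith) fun t ht =>
      hgap t (abs_le.2 ⟨by linarith [ht.1], by linarith [ht.2]⟩) (by have := ht.2; intro h; linarith)
    have : D.Near (τ - 3 * ε / 4) j := ⟨ε / 4, by linarith, hj.mono (by linarith) (by linarith)⟩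
    rwa [(hleft _ (by linarith) (by linarith)).unique this]
  by_contra hlt
  push Not at hlt
  obtain ⟨K, hK0, hK⟩ := bd_of_dim_lt hδ honR (μ + 1) (D.g + 1) ⊤
    (lt_of_le_of_lt ((topologicalKrullDim_subspace_le A.left _).trans D.dim.le) (by exact_mod_cast Nat.lt_succ_self _))
    (Coh.structureModule A.left) QCoh.isCoh_structureModule' (fun _ _ => trivial)
  have hopen : IsOpen {t : ℝ | |R.eval τ| / 2 < |R.eval t|} :=
    isOpen_lt continuous_const R.continuous.abs
  obtain ⟨η, hη, hball⟩ := Metric.isOpen_iff.1 hopen τ (show |R.eval τ| / 2 < |R.eval τ| by linarith [abs_pos.2 hR])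
  let c : ℝ := |R.eval τ| / 2 / 2 ^ μ
  have hc : 0 < c := by have := abs_pos.2 hR; positivity
  obtain ⟨ε, hε, hεδ, hεη, hεc⟩ : ∃ ε > 0, ε ≤ δ ∧ ε < η ∧ K * ε < c := by
    refine ⟨min δ (min (η / 2) (c / (K + 1))), lt_min hδ (lt_min (by linarith) (by positivity)), min_le_left _ _,
      lt_of_le_of_lt ((min_le_right _ _).trans (min_le_left _ _)) (by linarith), ?_⟩
    have h1 : min δ (min (η / 2) (c / (K + 1))) ≤ c / (K + 1) := (min_le_right _ _).trans (min_le_right _ _)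
    have h2 : c / (K + 1) * (K + 1) = c := div_mul_cancel₀ _ (by linarith)
    nlinarith [lt_min hδ (lt_min (show (0 : ℝ) < η / 2 by linarith) (show 0 < c / (K + 1) by positivity))]
  obtain ⟨s, hsK, hsL, bb, hb1, hb2⟩ :=
    ((hK ε hε hεδ).and ((honL ε hε hεδ).and (eventually_exists_int (D := D) (α := τ - ε) (β := τ - ε / 2) (by linarith)))).exists
  have hbb := hsK bb hb1 (hb2.trans (by nlinarith [D.N_pos s])) i (by show i' + (μ + 1) ≤ i; exact hlt)
  rw [D.h_structure (hsL bb hb1 hb2)] at hbb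
  set t : ℝ := (bb : ℝ) / D.N s with ht
  have ht1 : τ - ε ≤ t := (le_div_iff₀ (D.N_pos s)).2 hb1
  have ht2 : t ≤ τ - ε / 2 := (div_le_iff₀ (D.N_pos s)).2 hb2
  have hval : |D.val t| = |t - τ| ^ μ * |R.eval t| := by
    rw [val, show D.Φ.map (algebraMap ℚ ℝ) = p from rfl, hRp, Polynomial.eval_mul, Polynomial.eval_pow,
      Polynomial.eval_sub, Polynomial.eval_X, Polynomial.eval_C, abs_mul, abs_pow]
  have hRt : |R.eval τ| / 2 < |R.eval t| := hball (by
    rw [Metric.mem_ball, Real.dist_eq, abs_lt]; exact ⟨by linarith, by linarith⟩)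
  have hlow : c * ε ^ μ ≤ |D.val t| := by
    rw [hval, show c * ε ^ μ = (ε / 2) ^ μ * (|R.eval τ| / 2) by simp only [c, div_pow]; ring]
    exact mul_le_mul (pow_le_pow_left₀ (by linarith) (by rw [abs_of_neg (by linarith : t - τ < 0)]; linarith) μ)
      hRt.le (by positivity) (by positivity)
  have hNg : (0 : ℝ) < (D.N s : ℝ) ^ (D.g + 1) := pow_pos (D.N_pos s) _
  have : |D.val t| * (D.N s : ℝ) ^ (D.g + 1) ≤ K * ε ^ (μ + 1) * (D.N s : ℝ) ^ (D.g + 1) :=
    le_of_eq_of_le (by ring) hbb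
  have h4 := le_of_mul_le_mul_right this hNg
  have : c * ε ^ μ ≤ K * ε * ε ^ μ := hlow.trans (h4.trans (le_of_eq (by ring)))
  exact absurd (le_of_mul_le_mul_right this (pow_pos hε μ)) (not_le.2 hεc)

/-- Between two points the index drops by at most the number of roots in between. -/
theorem le_add_card (hΦ : D.Φ ≠ 0) : ∀ (n : ℕ) (a b : ℝ), a < b →
    ((D.Φ.map (algebraMap ℚ ℝ)).roots.filter fun r => a < r ∧ r < b).card ≤ n → D.val a ≠ 0 → D.val b ≠ 0 →
    ∀ i i', D.Near a i → D.Near b i' →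
      i ≤ i' + ((D.Φ.map (algebraMap ℚ ℝ)).roots.filter fun r => a < r ∧ r < b).card := by
  have hp : D.Φ.map (algebraMap ℚ ℝ) ≠ 0 := (Polynomial.map_ne_zero_iff (algebraMap ℚ ℝ).injective).2 hΦ
  intro n
  induction n using Nat.strong_induction_on with
  | _ n ih =>
    intro a b hab hn ha hb i i' hia hib
    by_cases hroot : ∃ τ, a < τ ∧ τ < b ∧ D.val τ = 0
    · obtain ⟨τ, haτ, hτb, hτ⟩ := hroot
      obtain ⟨δ, hδ, hjump⟩ := exists_jump hΦ τ
      obtain ⟨δ', hδ', hgap⟩ := exists_gap hΦ τ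
      obtain ⟨e, he, he1, he2, he3, he4⟩ : ∃ e > 0, e ≤ δ ∧ e ≤ δ' ∧ e < τ - a ∧ e < b - τ :=
        ⟨min (min δ δ') (min (τ - a) (b - τ) / 2),
          lt_min (lt_min hδ hδ') (by have := lt_min (sub_pos.2 haτ) (sub_pos.2 hτb); linarith),
          (min_le_left _ _).trans (min_le_left _ _), (min_le_left _ _).trans (min_le_right _ _),
          lt_of_le_of_lt (min_le_right _ _) (by have := min_le_left (τ - a) (b - τ); linarith),
          lt_of_le_of_lt (min_le_right _ _) (by have := min_le_right (τ - a) (b - τ); linarith)⟩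
      have hva : D.val (τ - e) ≠ 0 := hgap _ (abs_le.2 ⟨by linarith, by linarith⟩) (by linarith)
      have hvb : D.val (τ + e) ≠ 0 := hgap _ (abs_le.2 ⟨by linarith, by linarith⟩) (by linarith)
      obtain ⟨j, -, hj, -⟩ := exists_near_pair hΦ (le_refl (τ - e)) fun x hx => by
        rwa [le_antisymm hx.2 hx.1]
      obtain ⟨j', -, hj', -⟩ := exists_near_pair hΦ (le_refl (τ + e)) fun x hx => by
        rwa [le_antisymm hx.2 hx.1]
      have hs := card_filter_split (S := (D.Φ.map (algebraMap ℚ ℝ)).roots) (a := a) (a' := τ - e) (τ := τ)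
        (b' := τ + e) (b := b) (by linarith) (by linarith) (by linarith) (by linarith)
      have hpos : 0 < (D.Φ.map (algebraMap ℚ ℝ)).roots.count τ :=
        Multiset.count_pos.2 ((Polynomial.mem_roots hp).2 hτ)
      have h1 := ih _ (by omega) a (τ - e) (by linarith) le_rfl ha hva i j hia hj
      have h2 := hjump (τ - e) (τ + e) (by linarith) (by linarith) (by linarith) (by linarith) j j' hj hj'
      have h3 := ih _ (by omega) (τ + e) b (by linarith) le_rfl hvb hb j' i' hj' hib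
      rw [← Polynomial.count_roots] at h2
      omega
    · push Not at hroot
      obtain ⟨j, -, h1, h2⟩ := exists_near_pair hΦ hab.le fun x hx => by
        rcases hx.1.lt_or_eq with h | h
        · rcases hx.2.lt_or_eq with h' | h'
          · exact hroot x h h'
          · rwa [h']
        · rwa [← h]
      rw [hia.unique h1, hib.unique h2]
      exact Nat.le_add_right _ _

theorem near_int (hΦ : D.Φ ≠ 0) {m : ℤ} {i : ℕ} (h : HasIdx (D.E 0 m : PicF.Cl A.left) i) :
    D.Near m i := by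
  have hm : D.val m ≠ 0 := by
    have := D.ne_zero_of_idx h
    simpa [N] using this
  obtain ⟨j, -, hj, -⟩ := exists_near_pair hΦ (le_refl (m : ℝ)) fun x hx => by rwa [le_antisymm hx.2 hx.1]
  suffices j = i by rwa [← this]
  have hall : ∀ s, HasIdx (D.E s ((D.N s : ℤ) * m) : PicF.Cl A.left) i := by
    intro s
    induction s with
    | zero => simpa [N] using h
    | succ s ih =>
      have := D.idx_succ ih
      rwa [show ((D.q ^ 2 : ℕ) : ℤ) * ((D.N s : ℤ) * m) = (D.N (s + 1) : ℤ) * m by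
        rw [D.N_succ]; push_cast; ring] at this
  obtain ⟨δ, hδ, hj⟩ := hj
  obtain ⟨s, hs⟩ := Filter.Eventually.exists hj
  exact (hs _ (by push_cast; nlinarith [D.N_pos s]) (by push_cast; nlinarith [D.N_pos s])).unique (hall s)

/-- All roots are real and the index at an integer is the number of larger roots. -/
theorem roots_and_index {m : ℤ} {i : ℕ} (h : HasIdx (D.E 0 m : PicF.Cl A.left) i) :
    Multiset.card (D.Φ.map (algebraMap ℚ ℝ)).roots = D.Φ.natDegree ∧
      i = Multiset.card ((D.Φ.map (algebraMap ℚ ℝ)).roots.filter fun t => (m : ℝ) < t) := by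
  letI : A.left.Over (Spec (CommRingCat.of k)) := ⟨A.hom⟩
  haveI : IsProper (A.left ↘ Spec (CommRingCat.of k)) := ‹IsProper A.hom›
  haveI := CurveCohLib.isNoetherian_of_proper (k := k) (X := A.left)
  have hm : D.val m ≠ 0 := by
    have := D.ne_zero_of_idx h
    simpa [N] using this
  have hΦ : D.Φ ≠ 0 := fun h0 => hm (by simp [val, h0])
  let p := D.Φ.map (algebraMap ℚ ℝ)
  have hp : p ≠ 0 := (Polynomial.map_ne_zero_iff (algebraMap ℚ ℝ).injective).2 hΦ
  have hnm := near_int hΦ h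
  obtain ⟨d₁, hd₁⟩ := AmpleVan.exists_vanishing (A := k) D.amp (AmpleVan.isCoh_invertible D.hu.rep)
  obtain ⟨d₂, hd₂⟩ := AmpleVan.exists_vanishing (A := k) D.amp (AmpleVan.isCoh_invertible D.hu.inv.rep)
  obtain ⟨R, hR, hRr⟩ : ∃ R : ℕ, (max (max d₁ d₂) (|m|.toNat + 1) ≤ R) ∧ ∀ r ∈ p.roots, |r| < (R : ℝ) := by
    refine ⟨max (max (max d₁ d₂) (|m|.toNat + 1)) ((p.roots.toFinset.sup fun r => ⌈|r|⌉₊) + 1), le_max_left _ _,
      fun r hr => ?_⟩
    refine lt_of_le_of_lt (Nat.le_ceil _) (Nat.cast_lt.2 (lt_of_lt_of_le (Nat.lt_succ_of_le ?_) (le_max_right _ _)))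
    exact Finset.le_sup (f := fun r : ℝ => ⌈|r|⌉₊) (Multiset.mem_toFinset.2 hr)
  simp only [max_le_iff] at hR
  have hout : ∀ z : ℤ, (R : ℤ) ≤ |z| → D.val z ≠ 0 := fun z hz h0 => by
    have := hRr _ ((Polynomial.mem_roots hp).2 h0)
    rw [← Int.cast_abs] at this
    have hz' : ((R : ℤ) : ℝ) ≤ (|z| : ℤ) := by exact_mod_cast hz
    simp only [Int.cast_natCast] at hz'
    linarith
  have htop : HasIdx (D.E 0 (R : ℤ) : PicF.Cl A.left) 0 := by
    obtain ⟨j, -, hj⟩ := D.exists_idx 0 R (by simpa [N] using hout R (by simp))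
    obtain rfl | hjp := Nat.eq_zero_or_pos j
    · exact hj
    obtain ⟨j, rfl⟩ := Nat.exists_eq_add_of_le' hjp
    refine absurd (hd₁ R hR.1.1 j) (HasIdx.not_subsingleton (i := j + 1) ?_)
    rwa [PicMul.cl_tensor, PicMul.cl_tensorPow, cl_rep, D.clH, ← Units.val_pow_eq_pow_val, ← Units.val_mul,
      show D.u * D.v ^ R = D.E 0 (R : ℤ) by rw [E, N, Nat.mul_zero, pow_zero, pow_one, zpow_natCast]]
  have hbot : HasIdx (D.E 0 (-(R : ℤ)) : PicF.Cl A.left) D.g := by
    obtain ⟨j, hjg, hj⟩ := D.exists_idx 0 (-(R : ℤ)) (by simpa [N] using hout (-(R : ℤ)) (by simp))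
    suffices D.g - j = 0 by rwa [show D.g = j by omega]
    rw [← cl_rep (D.E 0 _)] at hj
    have hM : PicF.IsInvertible (CohB1.tensorMod (rep D.u⁻¹) (CohB1.tensorPow D.H R)) :=
      PicMul.isInvertible_tensor D.hu.inv.rep (PicMul.isInvertible_tensorPow D.amp.1 R)
    obtain ⟨-, -, hne⟩ := index_inverse A D.dim (D.invCl_E 0 _).rep hM (by
      rw [cl_rep, PicMul.cl_tensor, PicMul.cl_tensorPow, cl_rep, D.clH, ← Units.val_pow_eq_pow_val,
        ← Units.val_mul, ← Units.val_mul, ← Units.val_one, E, N, Nat.mul_zero, pow_zero, pow_one, zpow_neg,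
        zpow_natCast, _root_.mul_mul_mul_comm, mul_inv_cancel, inv_mul_cancel, _root_.mul_one]) j
      (fun l hl => hj.subsingleton hl) hj.not_subsingleton
    by_contra hgj
    obtain ⟨l, hl⟩ := Nat.exists_eq_add_of_le' (Nat.pos_of_ne_zero hgj)
    rw [hl] at hne
    exact hne (hd₂ R hR.1.2 l)
  have hmR : -(R : ℝ) < (m : ℝ) ∧ (m : ℝ) < R := by
    have h1 : |m| < (R : ℤ) := by omega
    obtain ⟨h2, h3⟩ := abs_lt.1 h1
    exact ⟨by exact_mod_cast h2, by exact_mod_cast h3⟩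
  have hvR : D.val (R : ℝ) ≠ 0 := by simpa using hout R (by simp)
  have hvR' : D.val (-(R : ℝ)) ≠ 0 := by simpa using hout (-(R : ℤ)) (by simp)
  have hnR : D.Near (R : ℝ) 0 := by simpa using near_int hΦ htop
  have hnR' : D.Near (-(R : ℝ)) D.g := by simpa using near_int hΦ hbot
  have h1 := le_add_card hΦ _ (-(R : ℝ)) m hmR.1 le_rfl hvR' hm D.g i hnR' hnm
  have h2 := le_add_card hΦ _ (m : ℝ) R hmR.2 le_rfl hm hvR i 0 hnm hnR
  have hf1 : (p.roots.filter fun r : ℝ => -(R : ℝ) < r ∧ r < m) = p.roots.filter fun r : ℝ => r < (m : ℝ) :=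
    Multiset.filter_congr fun r hr => ⟨fun h => h.2, fun h => ⟨(abs_lt.1 (hRr r hr)).1, h⟩⟩
  have hf2 : (p.roots.filter fun r : ℝ => (m : ℝ) < r ∧ r < R) = p.roots.filter fun r : ℝ => (m : ℝ) < r :=
    Multiset.filter_congr fun r hr => ⟨fun h => h.1, fun h => ⟨h, (abs_lt.1 (hRr r hr)).2⟩⟩
  rw [hf1] at h1
  rw [hf2] at h2
  have hle : (p.roots.filter fun r => r < (m : ℝ)).card + (p.roots.filter fun r => (m : ℝ) < r).card ≤
      Multiset.card p.roots := by
    rw [← Multiset.card_add, Multiset.filter_add_filter,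
      show (p.roots.filter fun r => r < (m : ℝ) ∧ (m : ℝ) < r) = 0 from
        Multiset.filter_eq_nil.2 fun r _ h => absurd h.1 (not_lt.2 h.2.le), add_zero]
    exact Multiset.card_le_card (Multiset.filter_le _ _)
  have hdeg : p.natDegree ≤ D.g := by
    rw [Polynomial.natDegree_map_eq_of_injective (algebraMap ℚ ℝ).injective]
    exact natDegree_le_dim D.dim D.hu D.hv D.Φ D.hΦ
  have hcard := Polynomial.card_roots' p
  have hnd : p.natDegree = D.Φ.natDegree := Polynomial.natDegree_map_eq_of_injective (algebraMap ℚ ℝ).injective _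
  refine ⟨?_, ?_⟩
  · show Multiset.card p.roots = _
    omega
  · show i = Multiset.card (p.roots.filter fun t => (m : ℝ) < t)
    omega

end Fam

end Groth.Agent.AVIdx
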