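import Groth.Agent.AVIdx.IndexBc
import Groth.Agent.AVIdx.CoverInj
import Groth.Agent.AVIdx.EulerHom

/-!
The index of a class, and its invariance under `c ↦ c ^ (q ^ 2)` for `q` prime to the characteristic.
-/

set_option linter.style.haveILetI false
set_option linter.unusedSectionVars false
set_option backward.isDefEq.respectTransparency false
set_option backward.isDefEq.respectTransparency.types false
set_option autoImplicit false

universe u

open CategoryTheory CategoryTheory.Limits MonoidalCategory CartesianMonoidalCategory MonObj GrpObj AlgebraicGeometry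
open TopologicalSpace

noncomputable section

namespace Groth.Agent.AVIdx

open Groth.Agent Groth.Agent.H23 Groth.Agent.AVPair Groth.Agent.AVCube Groth.Agent.AVAmple
open scoped Groth.Agent.H23.PicMul

/-- The cohomology of the class `c` is non-zero exactly in degree `i`. -/
def HasIdx {X : Scheme.{u}} (c : PicF.Cl X) (i : ℕ) : Prop :=
  ∃ L : X.Modules, PicF.IsInvertible L ∧ PicF.cl L = c ∧ (∀ j, j ≠ i → Subsingleton (Coh.HH X L j)) ∧
    ¬ Subsingleton (Coh.HH X L i)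

theorem HasIdx.subsingleton {X : Scheme.{u}} {M : X.Modules} {i j : ℕ} (h : HasIdx (PicF.cl M) i) (hj : j ≠ i) :
    Subsingleton (Coh.HH X M j) := by
  obtain ⟨L, -, he, hv, -⟩ := h
  exact QCoh.subsingleton_HH_of_iso (PicMul.cl_eq_iff.1 he).some j (hv j hj)

theorem HasIdx.not_subsingleton {X : Scheme.{u}} {M : X.Modules} {i : ℕ} (h : HasIdx (PicF.cl M) i) :
    ¬ Subsingleton (Coh.HH X M i) := by
  obtain ⟨L, -, he, -, hn⟩ := h
  exact fun hs => hn (QCoh.subsingleton_HH_of_iso (PicMul.cl_eq_iff.1 he).some.symm i hs)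

theorem HasIdx.unique {X : Scheme.{u}} {c : PicF.Cl X} {i i' : ℕ} (h : HasIdx c i) (h' : HasIdx c i') : i = i' := by
  obtain ⟨L, -, rfl, -, hn⟩ := h
  by_contra hne
  exact hn (h'.subsingleton hne)

theorem HasIdx.isInvertibleCl {X : Scheme.{u}} {c : PicF.Cl X} {i : ℕ} (h : HasIdx c i) : PicF.IsInvertibleCl c :=
  let ⟨L, hL, he, _⟩ := h; ⟨L, he, hL⟩

variable {k : Type u} [Field k] {A : Over (Spec (CommRingCat.of k))}
  [GrpObj A] [IsProper A.hom] [GeometricallyIntegral A.hom]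

/-- A class with non-zero Euler characteristic has an index. -/
theorem exists_hasIdx [IsAlgClosed k] {g : ℕ} (hg : topologicalKrullDim A.left = g) {c : PicF.Cl A.left}
    (hc : PicF.IsInvertibleCl c) (hχ : @chiCl k _ A.left ⟨A.hom⟩ c ≠ 0) : ∃ i ≤ g, HasIdx c i := by
  obtain ⟨L, rfl, hL⟩ := hc
  obtain ⟨d, ⟨M, rfl, hM⟩, hLM⟩ := AVPair.exists_inv ⟨L, rfl, hL⟩
  have hfin : Set.Finite {a : 𝟙_ (Over (Spec (CommRingCat.of k))) ⟶ A | pl (tr a) (PicF.cl L) = PicF.cl L} :=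
    Set.not_infinite.1 fun hinf => hχ (chiCl_eq_zero_of_infinite ⟨L, rfl, hL⟩ hinf)
  obtain ⟨i, hi, h0, h1, -, -⟩ := exists_index_pair hg hL hM hLM hfin
  exact ⟨i, hi, L, hL, rfl, h0, h1⟩

/-- A class with an index has non-zero Euler characteristic. -/
theorem HasIdx.chiCl_ne_zero {c : PicF.Cl A.left} {i : ℕ} (h : HasIdx c i) :
    @chiCl k _ A.left ⟨A.hom⟩ c ≠ 0 := by
  obtain ⟨L, hL, rfl, hv, hn⟩ := h
  letI : A.left.Over (Spec (CommRingCat.of k)) := ⟨A.hom⟩
  haveI : IsProper (A.left ↘ Spec (CommRingCat.of k)) := ‹IsProper A.hom›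
  haveI := CurveCohLib.isNoetherian_of_proper (k := k) (X := A.left)
  intro h0
  rw [chiCl_cl, Curv2.euler, finsum_eq_single _ i fun j hj => by
    haveI := hv j hj
    rw [Module.finrank_zero_of_subsingleton, Nat.cast_zero, mul_zero]] at h0
  rcases mul_eq_zero.1 h0 with h | h
  · exact absurd h (pow_ne_zero _ (by norm_num))
  · haveI := CurveCohLib.finite_HH (k := k) (CurveDeg.isCoh_of_isInvertible hL) i
    exact hn (Module.finrank_zero_iff.1 (Nat.cast_eq_zero.1 h))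

/-- Pullback along a power of the identity. -/
theorem pc_pow_general {L : A.left.Modules} (hL : PicF.IsInvertible L) :
    ∀ n : ℕ, pc hL (𝟙 A ^ n) =
      pc hL (𝟙 A) ^ (n ^ 2) * (pc hL ((𝟙 A)⁻¹ : A ⟶ A) / pc hL (𝟙 A)) ^ (n.choose 2)
  | 0 => by rw [pow_zero, pc_one]; simp
  | 1 => by rw [pow_one]; simp
  | n + 2 => by
    have h1 := pc_pow_general hL (n + 1)
    have h0 := pc_pow_general hL n
    have h := AVCube.cube_rel hL (𝟙 A ^ (n + 1)) (𝟙 A) ((𝟙 A)⁻¹)
    rw [mul_inv_cancel_right, mul_inv_cancel, pc_one, ← pow_succ, show 𝟙 A ^ (n + 1) * (𝟙 A)⁻¹ = 𝟙 A ^ n by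
      rw [pow_succ, mul_inv_cancel_right], h1, h0, _root_.mul_one] at h
    rw [show pc hL (𝟙 A ^ (n + 2)) = pc hL (𝟙 A ^ (n + 1 + 1)) from rfl]
    set a := pc hL (𝟙 A)
    set e := pc hL ((𝟙 A)⁻¹ : A ⟶ A) / a with he
    rw [show pc hL ((𝟙 A)⁻¹ : A ⟶ A) = e * a from (div_mul_cancel _ a).symm] at h
    refine mul_right_cancel (b := a ^ n ^ 2 * e ^ n.choose 2) ?_
    rw [← h]
    have c1 : (n + 1).choose 2 = n + n.choose 2 :=
      (Nat.choose_succ_succ' n 1).trans (by rw [Nat.choose_one_right])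
    have c2 : (n + 2).choose 2 = n + 1 + (n + 1).choose 2 :=
      (Nat.choose_succ_succ' (n + 1) 1).trans (by rw [Nat.choose_one_right])
    rw [c2, c1]
    calc a ^ (n + 1) ^ 2 * e ^ (n + n.choose 2) * (a ^ (n + 1) ^ 2 * e ^ (n + n.choose 2)) * a * (e * a)
        = a ^ ((n + 1) ^ 2 + (n + 1) ^ 2 + 1 + 1) * e ^ (n + n.choose 2 + (n + n.choose 2) + 1) := by
          simp only [pow_add, pow_one]; ac_rfl
      _ = a ^ ((n + 2) ^ 2 + n ^ 2) * e ^ (n + 1 + (n + n.choose 2) + n.choose 2) := by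
          congr 2 <;> ring
      _ = _ := by simp only [pow_add]; ac_rfl

/-- The index does not change under `c ↦ c ^ (q ^ 2)`, for `q` invertible in the field. -/
theorem HasIdx.pow_sq [IsAlgClosed k] {g : ℕ} (hg : topologicalKrullDim A.left = g) {q : ℕ} (hq : (q : k) ≠ 0)
    {c : PicF.Cl A.left} {i : ℕ} (h : HasIdx c i) : HasIdx (c ^ (q ^ 2)) i := by
  haveI : IsCommMonObj A := isCommMonObj_of_isProper_of_geometricallyIntegral A
  haveI : IsIntegral A.left := GeometricallyIntegral.isIntegral_of_subsingleton A.hom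
  haveI : IsLocallyNoetherian A.left := LocallyOfFiniteType.isLocallyNoetherian A.hom
  haveI : HasInjectiveResolutions A.left.Modules := KFlatLib.hasInjectiveResolutions_modules
  have hq0 : q ≠ 0 := fun h => hq (by rw [h, Nat.cast_zero])
  have hχ := h.chiCl_ne_zero
  have hc := h.isInvertibleCl
  have hcp : PicF.IsInvertibleCl (c ^ (q ^ 2)) := isInvertibleCl_pow hc _
  obtain ⟨i', -, h'⟩ := exists_hasIdx hg hcp (by
    rw [show c ^ (q ^ 2) = c ^ (q ^ 2) * 1 from (_root_.mul_one _).symm,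
      chiCl_pow_mul hg hc (q := 1) ⟨_, rfl, PicLoc.isInvertible_structureModule A.left⟩ isAdd_one]
    exact mul_ne_zero (pow_ne_zero _ (by exact_mod_cast pow_ne_zero 2 hq0)) hχ)
  suffices i' = i by rwa [this] at h'
  obtain ⟨L, hL, rfl, -, -⟩ := id h
  obtain ⟨M, hM, hMc, hMv, -⟩ := id h'
  let e : PicF.Cl A.left :=
    ((pc hL ((𝟙 A)⁻¹ : A ⟶ A) / pc hL (𝟙 A)) ^ (q.choose 2) : (PicF.Cl A.left)ˣ)
  have he : IsAdd e := by
    show IsAdd (((pc hL ((𝟙 A)⁻¹ : A ⟶ A) / pc hL (𝟙 A)) ^ (q.choose 2) : (PicF.Cl A.left)ˣ) : PicF.Cl A.left)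
    rw [Units.val_pow_eq_pow_val]
    exact (isAdd_inv_div hL).pow _
  have hei : PicF.IsInvertibleCl e := by
    show PicF.IsInvertibleCl (((pc hL ((𝟙 A)⁻¹ : A ⟶ A) / pc hL (𝟙 A)) ^ (q.choose 2) : (PicF.Cl A.left)ˣ) : PicF.Cl A.left)
    rw [Units.val_pow_eq_pow_val, div_eq_mul_inv, Units.val_mul]
    refine isInvertibleCl_pow (PicMul.isInvertibleCl_mul (isInvertibleCl_pc hL _) ?_) _
    obtain ⟨d, hd, hd1⟩ := AVPair.exists_inv (isInvertibleCl_pc hL (𝟙 A))
    rwa [Units.inv_eq_of_mul_eq_one_right hd1]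
  have hinv : ∀ a : 𝟙_ (Over (Spec (CommRingCat.of k))) ⟶ A, pl (tr a) e = e := fun a => by
    refine (he A (𝟙 A) (toUnit A ≫ a)).trans ?_
    rw [show pu (toUnit A ≫ a) e = 1 from pl_const hei a, pu_id, _root_.mul_one]
  obtain ⟨x, hx⟩ := AVPhi.exists_translate_eq hcp hei
    (Set.not_infinite.1 fun hinf => h'.chiCl_ne_zero (chiCl_eq_zero_of_infinite hcp hinf)) hinv
  have hpow : pu (𝟙 A ^ q) (PicF.cl L) = PicF.cl L ^ (q ^ 2) * e := by
    have := congrArg Units.val (pc_pow_general hL q)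
    rwa [Units.val_mul, Units.val_pow_eq_pow_val, val_pc', val_pc_id] at this
  by_contra hne
  refine h.not_subsingleton ?_
  obtain ⟨hfin, hflat, -⟩ := AVDegLib.zpow_props (A := A) (q : ℤ) (by exact_mod_cast hq0)
  have hfr := AVDegLib.finrank_zpow (A := A) hg (q : ℤ) (by exact_mod_cast hq0)
  rw [zpow_natCast] at hfin hflat
  simp only [zpow_natCast, Int.natAbs_natCast] at hfr
  haveI := AVIsog3.lfp_left (𝟙 A ^ q : A ⟶ A)
  have hu : IsUnit ((q ^ (2 * g) : ℕ) : Γ(A.left, ⊤)) := by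
    rw [← map_natCast (Coh.toGlobal A.hom) (q ^ (2 * g))]
    exact (IsUnit.mk0 _ (by rw [Nat.cast_pow]; exact pow_ne_zero _ hq)).map _
  refine subsingleton_HH_of_cover (𝟙 A ^ q : A ⟶ A).left hfr hu hL i ?_
  haveI : IsIso (tr x).left := AVAmple.isIso_tr x
  have e1 : (Scheme.Modules.pullback (tr x).left).obj M ≅
      (Scheme.Modules.pullback (𝟙 A ^ q : A ⟶ A).left).obj L := by
    refine (PicMul.cl_eq_iff.1 ?_).some
    show pl (tr x) (PicF.cl M) = pu (𝟙 A ^ q) (PicF.cl L)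
    rw [hMc, hx, hpow]
  exact QCoh.subsingleton_HH_of_iso e1 i ((AVPhi.subsingleton_HH_iff_pullback (tr x).left
    (ProjUPX.isQCoh_of_isInvertible hM) i).2 (hMv i (Ne.symm hne)))

end Groth.Agent.AVIdx
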