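import Groth.Agent.AVIdx.DegreeBounds
import Groth.Agent.AVIdx.IndexScale
import Groth.Agent.AmpleVan.Uniform
import Groth.Agent.Growth22.Twist
import Groth.Agent.Snapper.Main
import Mathlib.Analysis.Polynomial.Basic
import Mathlib.Topology.Order.Compact

/-!
The index of an invertible module is the number of positive roots of its Hilbert polynomial.
-/

noncomputable section

set_option linter.style.haveILetI false
set_option linter.unusedSectionVars false
set_option backward.isDefEq.respectTransparency false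
set_option backward.isDefEq.respectTransparency.types false
set_option autoImplicit false
set_option maxHeartbeats 800000

universe u

open CategoryTheory CategoryTheory.Limits MonoidalCategory CartesianMonoidalCategory MonObj GrpObj AlgebraicGeometry
open TopologicalSpace Filter

namespace Groth.Agent.AVIdx

open Groth.Agent Groth.Agent.H23 Groth.Agent.AVPair Groth.Agent.AVCube Groth.Agent.AVAmple
open scoped Groth.Agent.H23.PicMul

section Units

variable {X : Scheme.{u}}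

/-- An invertible class, as a unit. -/
abbrev InvCl (w : (PicF.Cl X)ˣ) : Prop := PicF.IsInvertibleCl (w : PicF.Cl X)

theorem InvCl.mul {u v : (PicF.Cl X)ˣ} (hu : InvCl u) (hv : InvCl v) : InvCl (u * v) := by
  rw [InvCl, Units.val_mul]; exact PicMul.isInvertibleCl_mul hu hv

theorem InvCl.inv {u : (PicF.Cl X)ˣ} (hu : InvCl u) : InvCl u⁻¹ := by
  obtain ⟨d, hd, hd1⟩ := AVPair.exists_inv hu
  rwa [InvCl, Units.inv_eq_of_mul_eq_one_right hd1]

theorem invCl_one : InvCl (1 : (PicF.Cl X)ˣ) := ⟨_, rfl, PicLoc.isInvertible_structureModule X⟩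

theorem InvCl.pow {u : (PicF.Cl X)ˣ} (hu : InvCl u) : ∀ n : ℕ, InvCl (u ^ n)
  | 0 => by rw [pow_zero]; exact invCl_one
  | n + 1 => by rw [pow_succ]; exact (InvCl.pow hu n).mul hu

theorem InvCl.zpow {u : (PicF.Cl X)ˣ} (hu : InvCl u) : ∀ z : ℤ, InvCl (u ^ z)
  | Int.ofNat n => by rw [Int.ofNat_eq_natCast, zpow_natCast]; exact hu.pow n
  | Int.negSucc n => by rw [zpow_negSucc]; exact (hu.pow _).inv

/-- A module representing a unit class. -/
def rep (w : (PicF.Cl X)ˣ) : X.Modules := Quot.out (w : PicF.Cl X)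

theorem cl_rep (w : (PicF.Cl X)ˣ) : PicF.cl (rep w) = (w : PicF.Cl X) := Quot.out_eq _

theorem InvCl.rep {w : (PicF.Cl X)ˣ} (hw : InvCl w) : PicF.IsInvertible (AVIdx.rep w) := by
  obtain ⟨L, he, hL⟩ := hw
  exact PicMul.isInvertible_of_iso (PicMul.cl_eq_iff.1 (he.trans (cl_rep w).symm)).some hL

end Units

variable {k : Type u} [Field k] {A : Over (Spec (CommRingCat.of k))}
  [GrpObj A] [IsProper A.hom] [GeometricallyIntegral A.hom]

/-- The Hilbert polynomial in two variables, homogenised. -/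
theorem chiCl_twist {g : ℕ} (hg : topologicalKrullDim A.left = g) {u v : (PicF.Cl A.left)ˣ} (hu : InvCl u)
    (hv : InvCl v) (Φ : Polynomial ℚ)
    (hΦ : ∀ m : ℕ, Φ.eval (m : ℚ) = (@chiCl k _ A.left ⟨A.hom⟩ ((u * v ^ m : (PicF.Cl A.left)ˣ) : PicF.Cl A.left) : ℚ))
    {n : ℕ} (hn : 1 ≤ n) (b : ℤ) :
    (@chiCl k _ A.left ⟨A.hom⟩ ((u ^ n * v ^ b : (PicF.Cl A.left)ˣ) : PicF.Cl A.left) : ℚ) =
      (n : ℚ) ^ g * Φ.eval ((b : ℚ) / n) := by
  letI : A.left.Over (Spec (CommRingCat.of k)) := ⟨A.hom⟩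
  haveI : IsProper (A.left ↘ Spec (CommRingCat.of k)) := ‹IsProper A.hom›
  haveI := CurveCohLib.isNoetherian_of_proper (k := k) (X := A.left)
  let f : (Fin 2 → ℤ) → ℚ := fun a =>
    (chiCl k A.left ((u ^ a 0 * v ^ a 1 : (PicF.Cl A.left)ˣ) : PicF.Cl A.left) : ℚ)
  obtain ⟨P, hP⟩ := exists_poly_int f fun s => by
    let w : (PicF.Cl A.left)ˣ := u ^ (-(s 0 : ℤ)) * v ^ (-(s 1 : ℤ))
    have hw : InvCl w := (hu.zpow _).mul (hv.zpow _)
    obtain ⟨Q, -, hQ⟩ := Snapper.exists_mpoly k (L := ![rep u, rep v]) (fun i => by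
        fin_cases i
        · exact hu.rep
        · exact hv.rep)
      (AmpleVan.isCoh_invertible hw.rep) (d := g) ((topologicalKrullDim_subspace_le A.left _).trans hg.le)
    refine ⟨Q, fun n => ?_⟩
    rw [← hQ n]
    show (chiCl k A.left _ : ℚ) = _
    rw [← chiCl_cl, AVDeg3.cl_tensorPows, cl_rep, Fin.prod_univ_two]
    simp only [Matrix.cons_val_zero, Matrix.cons_val_one, cl_rep]
    rw [← Units.val_pow_eq_pow_val, ← Units.val_pow_eq_pow_val, ← Units.val_mul, ← Units.val_mul]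
    congr 3
    simp only [w, sub_eq_add_neg, zpow_add, zpow_natCast]
    ac_rfl
  have hPf : ∀ (a c : ℤ), MvPolynomial.eval ![(a : ℚ), (c : ℚ)] P =
      (chiCl k A.left ((u ^ a * v ^ c : (PicF.Cl A.left)ˣ) : PicF.Cl A.left) : ℚ) := fun a c => by
    have := hP ![a, c]
    simp only [f, Matrix.cons_val_zero, Matrix.cons_val_one] at this
    rw [this]
    exact congrArg (fun w => MvPolynomial.eval w P) (_root_.funext fun i => by fin_cases i <;> simp)
  let G : MvPolynomial (Fin 2) ℚ :=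
    MvPolynomial.aeval ![MvPolynomial.X 0, MvPolynomial.X 0 * MvPolynomial.X 1] P
  let T : MvPolynomial (Fin 2) ℚ := MvPolynomial.X 0 ^ g * Polynomial.aeval (MvPolynomial.X 1) Φ
  have hG : ∀ x, MvPolynomial.eval x G = MvPolynomial.eval ![x 0, x 0 * x 1] P := fun x => by
    show (MvPolynomial.aeval x).toRingHom (MvPolynomial.aeval _ P) = _
    refine (AlgHom.congr_fun (MvPolynomial.comp_aeval _ (MvPolynomial.aeval x)) P).trans ?_
    rw [MvPolynomial.aeval_def, MvPolynomial.eval₂_eq', MvPolynomial.eval_eq']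
    refine Finset.sum_congr rfl fun d _ => ?_
    simp [Fin.prod_univ_two]
  have hT : ∀ x, MvPolynomial.eval x T = x 0 ^ g * Φ.eval (x 1) := fun x => by
    show MvPolynomial.eval x (_ * _) = _
    rw [map_mul, map_pow, MvPolynomial.eval_X]
    congr 1
    show (MvPolynomial.aeval x) (Polynomial.aeval (MvPolynomial.X 1) Φ) = _
    rw [← Polynomial.aeval_algHom_apply, MvPolynomial.aeval_X, Polynomial.coe_aeval_eq_eval]
  have hGT : G = T := by
    refine MvPolynomial.funext_set (fun _ => Set.range fun m : ℕ => ((m + 1 : ℕ) : ℚ))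
      (fun _ => Set.infinite_range_of_injective fun a c h => by simpa using h) fun x hx => ?_
    obtain ⟨a, ha⟩ := hx 0 (Set.mem_univ _)
    obtain ⟨m, hm⟩ := hx 1 (Set.mem_univ _)
    rw [hG, hT, ← ha, ← hm, hΦ (m + 1)]
    have h1 := hPf ((a + 1 : ℕ) : ℤ) (((a + 1 : ℕ) : ℤ) * ((m + 1 : ℕ) : ℤ))
    rw [← Nat.cast_mul, Int.cast_natCast, Int.cast_natCast, zpow_natCast, zpow_natCast,
      show u ^ (a + 1) * v ^ ((a + 1) * (m + 1)) = (u * v ^ (m + 1)) ^ (a + 1) by
        rw [mul_pow, ← pow_mul, mul_comm (m + 1)],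
      Units.val_pow_eq_pow_val,
      ← _root_.mul_one (((u * v ^ (m + 1) : (PicF.Cl A.left)ˣ) : PicF.Cl A.left) ^ (a + 1)),
      chiCl_pow_mul hg (hu.mul (hv.pow _)) (q := 1) ⟨_, rfl, PicLoc.isInvertible_structureModule A.left⟩ isAdd_one,
      Int.cast_mul, Int.cast_pow, Int.cast_natCast, Nat.cast_mul] at h1
    exact h1
  have hn0 : (n : ℚ) ≠ 0 := Nat.cast_ne_zero.2 (by omega)
  have h := congrArg (MvPolynomial.eval ![(n : ℚ), (b : ℚ) / n]) hGT
  rw [hG, hT] at h
  simp only [Matrix.cons_val_zero, Matrix.cons_val_one, mul_div_cancel₀ _ hn0] at h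
  rw [show ((n : ℕ) : ℚ) = ((n : ℤ) : ℚ) by norm_num, hPf, zpow_natCast] at h
  rw [h]
  push_cast
  rfl

/-- The degree of the Hilbert polynomial. -/
theorem natDegree_le_dim {g : ℕ} (hg : topologicalKrullDim A.left = g) {u v : (PicF.Cl A.left)ˣ} (hu : InvCl u)
    (hv : InvCl v) (Φ : Polynomial ℚ)
    (hΦ : ∀ m : ℕ, Φ.eval (m : ℚ) = (@chiCl k _ A.left ⟨A.hom⟩ ((u * v ^ m : (PicF.Cl A.left)ˣ) : PicF.Cl A.left) : ℚ)) :
    Φ.natDegree ≤ g := by
  letI : A.left.Over (Spec (CommRingCat.of k)) := ⟨A.hom⟩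
  haveI : IsProper (A.left ↘ Spec (CommRingCat.of k)) := ‹IsProper A.hom›
  haveI := CurveCohLib.isNoetherian_of_proper (k := k) (X := A.left)
  have hlt : topologicalKrullDim ↥((⊤ : Closeds A.left) : Set A.left) < ((g + 1 : ℕ) : WithBot ℕ∞) :=
    lt_of_le_of_lt ((topologicalKrullDim_subspace_le A.left _).trans hg.le) (by exact_mod_cast Nat.lt_succ_self g)
  obtain ⟨Q, hQ, hQn⟩ := Snapper.isPolyLt_of_dim_lt k hv.rep (g + 1) ⊤ hlt (rep u)
    (AmpleVan.isCoh_invertible hu.rep) (fun _ _ => trivial)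
  have : Φ = Q := Polynomial.eq_of_infinite_eval_eq _ _ ((Set.infinite_range_of_injective
    (Nat.cast_injective (R := ℚ))).mono (by
      rintro _ ⟨m, rfl⟩
      show Φ.eval (m : ℚ) = Q.eval (m : ℚ)
      rw [← hQn m, hΦ m]
      show _ = ((Curv2.euler k A.left _ : ℤ) : ℚ)
      rw [← chiCl_cl]
      show _ = ((chiCl k A.left (PicF.cl (CohB1.tensorMod _ _)) : ℤ) : ℚ)
      rw [PicMul.cl_tensor, PicMul.cl_tensorPow, cl_rep, cl_rep, Units.val_mul, Units.val_pow_eq_pow_val]))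
  rw [this]
  rcases eq_or_ne Q 0 with rfl | h0
  · simp
  · rw [← Polynomial.natDegree_lt_iff_degree_lt h0] at hQ
    omega

/-- The Euler characteristic of a class with an index. -/
theorem HasIdx.finrank_eq_natAbs {w : (PicF.Cl A.left)ˣ} {i : ℕ} (h : HasIdx (w : PicF.Cl A.left) i) :
    @Module.finrank k (Coh.HH A.left (rep w) i) _ _ (@Coh.moduleOver k _ A.left ⟨A.hom⟩ (rep w) i) =
      (@chiCl k _ A.left ⟨A.hom⟩ (w : PicF.Cl A.left)).natAbs := by
  letI : A.left.Over (Spec (CommRingCat.of k)) := ⟨A.hom⟩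
  rw [← cl_rep w] at h
  rw [← cl_rep w, chiCl_cl, Curv2.euler, finsum_eq_single _ i fun j hj => by
    haveI := h.subsingleton hj
    rw [Module.finrank_zero_of_subsingleton, Nat.cast_zero, mul_zero]]
  rw [Int.natAbs_mul, Int.natAbs_pow, Int.natAbs_neg, Int.natAbs_one, one_pow, _root_.one_mul, Int.natAbs_natCast]

/-- The data of a polarised family `u ^ N * v ^ b`, `N` running through the powers of `q ^ 2`. -/
structure Fam (A : Over (Spec (CommRingCat.of k))) [GrpObj A] [IsProper A.hom] where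
  g : ℕ
  dim : topologicalKrullDim A.left = g
  u : (PicF.Cl A.left)ˣ
  hu : InvCl u
  v : (PicF.Cl A.left)ˣ
  hv : InvCl v
  H : A.left.Modules
  amp : CohB1.IsAmple H
  clH : PicF.cl H = (v : PicF.Cl A.left)
  q : ℕ
  two_le : 2 ≤ q
  hq : (q : k) ≠ 0
  Φ : Polynomial ℚ
  hΦ : ∀ m : ℕ, Φ.eval (m : ℚ) =
    (@chiCl k _ A.left ⟨A.hom⟩ ((u * v ^ m : (PicF.Cl A.left)ˣ) : PicF.Cl A.left) : ℚ)

namespace Fam

variable [IsAlgClosed k] (D : Fam A)

/-- The scale at level `s`. -/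
def N (s : ℕ) : ℕ := D.q ^ (2 * s)

theorem one_le_N (s : ℕ) : 1 ≤ D.N s := Nat.one_le_pow _ _ (by have := D.two_le; omega)

theorem N_pos (s : ℕ) : (0 : ℝ) < D.N s := by exact_mod_cast D.one_le_N s

theorem N_succ (s : ℕ) : D.N (s + 1) = D.q ^ 2 * D.N s := by rw [N, N, ← pow_add]; ring_nf

theorem tendsto_N : Tendsto (fun s => (D.N s : ℝ)) atTop atTop := by
  refine tendsto_natCast_atTop_atTop.comp (tendsto_atTop_mono (fun s => ?_) tendsto_id)
  exact ((show s ≤ 2 * s by omega).trans (Nat.lt_two_pow_self).le).trans (Nat.pow_le_pow_left D.two_le _)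

/-- The classes of the family. -/
def E (s : ℕ) (b : ℤ) : (PicF.Cl A.left)ˣ := D.u ^ D.N s * D.v ^ b

theorem invCl_E (s : ℕ) (b : ℤ) : InvCl (D.E s b) := (D.hu.pow _).mul (D.hv.zpow _)

/-- The modules of the family. -/
def P (s : ℕ) (b : ℤ) : A.left.Modules := rep (D.E s b)

theorem cl_P_succ (s : ℕ) (b : ℤ) : PicF.cl (D.P s (b + 1)) = PicF.cl D.H * PicF.cl (D.P s b) := by
  rw [P, P, cl_rep, cl_rep, D.clH, ← Units.val_mul, E, E, zpow_add_one]
  congr 1
  ac_rfl

/-- The values of the Hilbert polynomial. -/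
def val (t : ℝ) : ℝ := (D.Φ.map (algebraMap ℚ ℝ)).eval t

theorem chi_E (s : ℕ) (b : ℤ) :
    (@chiCl k _ A.left ⟨A.hom⟩ (D.E s b : PicF.Cl A.left) : ℝ) = (D.N s : ℝ) ^ D.g * D.val (b / D.N s) := by
  have h := chiCl_twist D.dim D.hu D.hv D.Φ D.hΦ (D.one_le_N s) b
  have h' := congrArg (algebraMap ℚ ℝ) h
  rw [map_mul, map_pow, map_intCast, map_natCast] at h'
  rw [E, h', val, ← map_intCast (algebraMap ℚ ℝ), ← map_natCast (algebraMap ℚ ℝ) (D.N s), ← map_div₀,
    Polynomial.eval_map_apply]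

theorem exists_idx (s : ℕ) (b : ℤ) (h : D.val (b / D.N s) ≠ 0) :
    ∃ i ≤ D.g, HasIdx (D.E s b : PicF.Cl A.left) i := by
  refine exists_hasIdx D.dim (D.invCl_E s b) fun h0 => ?_
  have := D.chi_E s b
  rw [h0, Int.cast_zero, eq_comm, mul_eq_zero] at this
  exact this.elim (pow_ne_zero _ (D.N_pos s).ne') h

theorem idx_succ {s : ℕ} {b : ℤ} {i : ℕ} (h : HasIdx (D.E s b : PicF.Cl A.left) i) :
    HasIdx (D.E (s + 1) ((D.q ^ 2 : ℕ) * b) : PicF.Cl A.left) i := by
  have := h.pow_sq D.dim D.hq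
  rw [← Units.val_pow_eq_pow_val] at this
  rwa [show D.E (s + 1) ((D.q ^ 2 : ℕ) * b) = D.E s b ^ (D.q ^ 2) by
    rw [E, E, mul_pow, ← pow_mul, D.N_succ, mul_comm (D.q ^ 2) (D.N s), mul_comm ((D.q ^ 2 : ℕ) : ℤ) b, zpow_mul,
      zpow_natCast]]

/-- Dimensions of cohomology along the family. -/
def h (F : A.left.Modules) (s : ℕ) (b : ℤ) (j : ℕ) : ℕ :=
  @hF k _ A.left ⟨A.hom⟩ F (D.P s b) j

theorem h_structure {s : ℕ} {b : ℤ} {i : ℕ} (hi : HasIdx (D.E s b : PicF.Cl A.left) i) :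
    (D.h (Coh.structureModule A.left) s b i : ℝ) = |D.val (b / D.N s)| * (D.N s : ℝ) ^ D.g := by
  letI : A.left.Over (Spec (CommRingCat.of k)) := ⟨A.hom⟩
  haveI : IsProper (A.left ↘ Spec (CommRingCat.of k)) := ‹IsProper A.hom›
  have e : D.h (Coh.structureModule A.left) s b i = Module.finrank k (Coh.HH A.left (rep (D.E s b)) i) :=
    (CurveCohLib.hhEquiv (k := k) (PicMul.cl_eq_iff.1 (show
      PicF.cl (CohB1.tensorMod (Coh.structureModule A.left) (D.P s b)) = PicF.cl (rep (D.E s b)) by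
        rw [PicMul.cl_tensor, ← PicMul.one_def, _root_.one_mul]; rfl)).some i).finrank_eq
  rw [e, hi.finrank_eq_natAbs, Nat.cast_natAbs, Int.cast_abs, D.chi_E, abs_mul, abs_pow, Nat.abs_cast, mul_comm]

theorem h_structure_eq_zero {s : ℕ} {b : ℤ} {i j : ℕ} (hi : HasIdx (D.E s b : PicF.Cl A.left) i) (hj : j ≠ i) :
    D.h (Coh.structureModule A.left) s b j = 0 := by
  letI : A.left.Over (Spec (CommRingCat.of k)) := ⟨A.hom⟩
  rw [← cl_rep (D.E s b)] at hi
  haveI : Subsingleton (Coh.HH A.left (CohB1.tensorMod (Coh.structureModule A.left) (D.P s b)) j) :=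
    HasIdx.subsingleton (i := i) (by
      rw [PicMul.cl_tensor, ← PicMul.one_def, _root_.one_mul]; exact hi) hj
  exact Module.finrank_zero_of_subsingleton

/-- Cohomology along the family grows like the dimension of the support. -/
theorem exists_growth_h {d : ℕ} {C : Closeds A.left} (hd : topologicalKrullDim ↥(C : Set A.left) < (d : WithBot ℕ∞))
    {F : A.left.Modules} (hFc : Coh.IsCoh F) (hFC : CohB1.support F ⊆ C) (R : ℝ) (hR : 0 ≤ R) :
    ∃ K : ℝ, 0 ≤ K ∧ ∀ s (b : ℤ), |(b : ℝ)| ≤ R * D.N s → ∀ j,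
      (D.h F s b j : ℝ) * D.N s ≤ K * (D.N s : ℝ) ^ d := by
  letI : A.left.Over (Spec (CommRingCat.of k)) := ⟨A.hom⟩
  haveI : IsProper (A.left ↘ Spec (CommRingCat.of k)) := ‹IsProper A.hom›
  haveI := CurveCohLib.isNoetherian_of_proper (k := k) (X := A.left)
  let L : Fin 3 → A.left.Modules := ![rep D.u, rep D.v, rep D.v⁻¹]
  have hL : ∀ i, PicF.IsInvertible (L i) := fun i => by
    fin_cases i
    · exact D.hu.rep
    · exact D.hv.rep
    · exact D.hv.inv.rep
  have hb := exists_growth k hL hFc hd hFC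
  have hle : ∀ s (b : ℤ) j, D.h F s b j ≤
      hTot k (CohB1.tensorMod F (FGA.multiTwist L ![D.N s, b.toNat, (-b).toNat])) := fun s b j => by
    refine (hF_le_hTot k hFc (D.invCl_E s b).rep j).trans (le_of_eq (hTot_congr k (PicMul.cl_eq_iff.1 ?_).some))
    rw [PicMul.cl_tensor, PicMul.cl_tensor]
    refine congrArg (PicF.cl F * ·) ?_
    rw [Growth22.cl_multiTwist, Fin.prod_univ_three]
    simp only [L, Matrix.cons_val_zero, Matrix.cons_val_one, Matrix.cons_val, cl_rep]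
    rw [← Units.val_pow_eq_pow_val, ← Units.val_pow_eq_pow_val, ← Units.val_pow_eq_pow_val,
      ← Units.val_mul, ← Units.val_mul, E]
    refine congrArg Units.val ?_
    rw [_root_.mul_assoc, inv_pow, ← zpow_natCast D.v, ← zpow_natCast D.v, ← zpow_neg, ← zpow_add,
      ← sub_eq_add_neg, Int.toNat_sub_toNat_neg]
  match d, hb with
  | 0, hb =>
    refine ⟨0, le_rfl, fun s b _ j => ?_⟩
    rw [show D.h F s b j = 0 from Nat.le_zero.1 ((hle s b j).trans (hb _).le)]
    simp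
  | d + 1, ⟨C', hC'⟩ =>
    refine ⟨C' * (R + 3) ^ d, by positivity, fun s b hbR j => ?_⟩
    have h1 : (D.h F s b j : ℝ) ≤ C' * ((R + 3) * D.N s) ^ d := by
      refine (Nat.cast_le.2 ((hle s b j).trans (hC' _))).trans ?_
      push_cast
      refine mul_le_mul_of_nonneg_left (pow_le_pow_left₀ (by positivity) ?_ d) (Nat.cast_nonneg _)
      simp only [Fin.sum_univ_three, Matrix.cons_val_zero, Matrix.cons_val_one, Matrix.cons_val]
      have h2 : ((b.toNat : ℕ) : ℝ) + ((-b).toNat : ℕ) = |(b : ℝ)| := by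
        rw [← Int.cast_abs, ← Nat.cast_add]
        exact_mod_cast (show (((b.toNat + (-b).toNat : ℕ)) : ℤ) = |b| by rw [abs_eq_max_neg]; omega)
      have h3 : (1 : ℝ) ≤ D.N s := by exact_mod_cast D.one_le_N s
      nlinarith
    calc (D.h F s b j : ℝ) * D.N s ≤ C' * ((R + 3) * D.N s) ^ d * D.N s :=
          mul_le_mul_of_nonneg_right h1 (Nat.cast_nonneg _)
      _ = _ := by rw [mul_pow, pow_succ]; ring

end Fam

end Groth.Agent.AVIdx
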