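import Mathlib.FieldTheory.IsAlgClosed.Basic
import Mathlib.Algebra.MvPolynomial.Funext
import Mathlib.LinearAlgebra.Matrix.Determinant.Basic
import Mathlib.RingTheory.Polynomial.Basic

/-!
A function with `f (y ^ 2) = det y * f 1` which is polynomial on the combinations of the powers of an invertible
`ψ` satisfies `f ψ ^ 2 = det ψ * f 1 ^ 2`.
-/

set_option linter.style.haveILetI false

namespace Groth.Agent.AVIdx

open Polynomial

variable {F : Type*} [Field F] [IsAlgClosed F] [CharZero F]

theorem exists_sq_mod_roots : ∀ s : Multiset F, (∀ r ∈ s, r ≠ 0) →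
    ∃ q : F[X], (s.map fun r => X - C r).prod ∣ q ^ 2 - X := by
  intro s
  induction s using Multiset.induction with
  | empty => exact fun _ => ⟨0, by simp⟩
  | cons r s ih =>
    intro h
    obtain ⟨q, t, ht⟩ := ih fun x hx => h x (Multiset.mem_cons_of_mem hx)
    set m := (s.map fun r => X - C r).prod with hm
    suffices ∃ c : F, t.eval r + 2 * q.eval r * c + c ^ 2 * m.eval r = 0 by
      obtain ⟨c, hc⟩ := this
      refine ⟨q + C c * m, ?_⟩
      rw [Multiset.map_cons, Multiset.prod_cons, ← hm,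
        show (q + C c * m) ^ 2 - X = m * (t + 2 * q * C c + C c ^ 2 * m) by
          linear_combination ht, mul_comm (X - C r)]
      refine mul_dvd_mul_left m (dvd_iff_isRoot.2 ?_)
      simpa [IsRoot] using hc
    by_cases hmr : m.eval r = 0
    · have hq : q.eval r ≠ 0 := fun hq => h r (Multiset.mem_cons_self r s) (by
        have := congrArg (Polynomial.eval r) ht
        simp [hq, hmr] at this
        exact this)
      exact ⟨-t.eval r / (2 * q.eval r), by rw [hmr]; field_simp; ring⟩
    · obtain ⟨w, hw⟩ := IsAlgClosed.exists_pow_nat_eq (q.eval r ^ 2 - t.eval r * m.eval r) (n := 2) zero_lt_two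
      refine ⟨(-q.eval r + w) / m.eval r, ?_⟩
      field_simp
      linear_combination hw

theorem exists_sq_mod {P : F[X]} (hP : P.Monic) (h0 : P.eval 0 ≠ 0) : ∃ q r : F[X], q ^ 2 - X = P * r := by
  have hs : P.Splits := IsAlgClosed.splits P
  obtain ⟨q, hq⟩ := exists_sq_mod_roots P.roots fun r hr hr0 => h0 (by subst hr0; exact (Polynomial.mem_roots'.1 hr).2)
  rw [← hs.eq_prod_roots_of_monic hP] at hq
  exact ⟨q, hq⟩

/-- The coefficient vector. -/
noncomputable def cvec {R : Type*} [CommRing R] (D : ℕ) (p : R[X]) : Fin D → R := fun i => p.coeff i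

theorem aeval_eq_sum_cvec {A : Type*} [Ring A] {D : ℕ} (x : A) (p : ℤ[X]) (hp : p.natDegree < D) :
    aeval x p = ∑ i, cvec D p i • x ^ (i : ℕ) := by
  rw [aeval_eq_sum_range' hp, Finset.sum_range]
  rfl

theorem sq_eq_det_mul {R : Type*} [Ring R] {n : ℕ} (ψ : R) (ρ : R →+* Matrix (Fin n) (Fin n) F) (f : R → F)
    (P : ℤ[X]) (hP : P.Monic) (hPψ : aeval ψ P = 0) (hP0 : P.eval 0 ≠ 0)
    (hpoly : ∀ D : ℕ, ∃ Φ : MvPolynomial (Fin D) F, ∀ b : Fin D → ℤ,
      f (∑ i, b i • ψ ^ (i : ℕ)) = MvPolynomial.eval (fun i => (b i : F)) Φ)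
    (hsq : ∀ a : ℤ[X], (ρ (aeval ψ a)).det ≠ 0 → f ((aeval ψ a) ^ 2) = (ρ (aeval ψ a)).det * f 1) :
    f ψ ^ 2 = (ρ ψ).det * f 1 ^ 2 := by
  classical
  let PF := P.map (Int.castRingHom F)
  obtain ⟨q, r, hqr⟩ := exists_sq_mod (P := PF) (hP.map _) (by
    show PF.eval 0 ≠ 0
    rw [← coeff_zero_eq_eval_zero, coeff_map, eq_intCast]
    exact Int.cast_ne_zero.2 (by rwa [coeff_zero_eq_eval_zero]))
  let d := q.natDegree + 1
  let D := 2 * d + P.natDegree + r.natDegree + 2
  obtain ⟨Φ, hΦ⟩ := hpoly D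
  let M := ρ ψ
  have hf : ∀ p : ℤ[X], p.natDegree < D → f (aeval ψ p) = MvPolynomial.eval (fun i => ((cvec D p i : ℤ) : F)) Φ := fun p hp => by
    rw [aeval_eq_sum_cvec ψ p hp, hΦ]
  -- invariance along integral relations
  have hinv : ∀ z : Fin D → ℤ, ∑ i, z i • ψ ^ (i : ℕ) = 0 → ∀ (b : Fin D → F) (t : F),
      MvPolynomial.eval (fun i => b i + t * (z i : F)) Φ = MvPolynomial.eval b Φ := fun z hz b t => by
    let Φ₁ : MvPolynomial (Option (Fin D)) F :=
      MvPolynomial.aeval (fun i => MvPolynomial.X (some i) + MvPolynomial.C (z i : F) * MvPolynomial.X none) Φ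
    have e₁ : ∀ v, MvPolynomial.eval v Φ₁ = MvPolynomial.eval (fun i => v (some i) + v none * (z i : F)) Φ := fun v => by
      show (MvPolynomial.aeval v).toRingHom (MvPolynomial.aeval _ Φ) = _
      refine (AlgHom.congr_fun (MvPolynomial.comp_aeval _ (MvPolynomial.aeval v)) Φ).trans ?_
      rw [MvPolynomial.aeval_def, MvPolynomial.eval₂_eq', MvPolynomial.eval_eq']
      simp [mul_comm]
    have e₂ : Φ₁ = MvPolynomial.rename some Φ := by
      refine MvPolynomial.funext_set (fun _ => Set.range ((↑) : ℤ → F))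
        (fun _ => Set.infinite_range_of_injective Int.cast_injective) fun v hv => ?_
      choose u hu using fun i => hv i (Set.mem_univ i)
      rw [e₁, MvPolynomial.eval_rename]
      have h1 := hΦ (fun i => u (some i) + u none * z i)
      simp only [add_smul, mul_smul, Finset.sum_add_distrib, ← Finset.smul_sum, hz, smul_zero, add_zero] at h1
      rw [hΦ] at h1
      push_cast at h1
      simp only [hu] at h1
      exact h1.symm
    have := congrArg (MvPolynomial.eval (fun o => Option.elim o t b)) e₂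
    rwa [e₁, MvPolynomial.eval_rename] at this
  have hΦeq : MvPolynomial.eval (cvec D (q ^ 2)) Φ = f ψ := by
    have hs : ∀ s : Finset ℕ, (∀ j ∈ s, j ≤ r.natDegree) → ∀ b : Fin D → F,
        MvPolynomial.eval (fun i => b i + ∑ j ∈ s, r.coeff j * ((cvec D (X ^ j * P) i : ℤ) : F)) Φ =
          MvPolynomial.eval b Φ := by
      intro s
      induction s using Finset.induction with
      | empty => intro _ b; simp
      | insert j s hjs ih =>
        intro hle b
        have hz : ∑ i, cvec D (X ^ j * P) i • ψ ^ (i : ℕ) = 0 := by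
          rw [← aeval_eq_sum_cvec ψ, map_mul, hPψ, mul_zero]
          refine lt_of_le_of_lt natDegree_mul_le ?_
          have := natDegree_X_pow_le (R := ℤ) j
          have := hle j (Finset.mem_insert_self j s)
          omega
        rw [← ih (fun i hi => hle i (Finset.mem_insert_of_mem hi)) b,
          ← hinv _ hz (fun i => b i + ∑ j ∈ s, r.coeff j * ((cvec D (X ^ j * P) i : ℤ) : F)) (r.coeff j)]
        refine congrArg (fun v => MvPolynomial.eval v Φ) (funext fun i => ?_)
        rw [Finset.sum_insert hjs]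
        ring
    have h1 := hf X (lt_of_le_of_lt natDegree_X_le (by omega))
    rw [aeval_X] at h1
    rw [h1]
    conv_rhs => rw [← hs (Finset.range (r.natDegree + 1)) (fun j hj => Nat.lt_succ_iff.1 (Finset.mem_range.1 hj))]
    refine congrArg (fun v => MvPolynomial.eval v Φ) (funext fun i => ?_)
    show (q ^ 2).coeff i = _
    rw [sub_eq_iff_eq_add.1 hqr, coeff_add, mul_comm PF r]
    conv_lhs => rw [r.as_sum_range_C_mul_X_pow, Finset.sum_mul, finsetSum_coeff]
    simp only [cvec, PF]
    rw [add_comm]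
    congr 1
    · simp [coeff_X, apply_ite (Int.cast : ℤ → F)]
    · refine Finset.sum_congr rfl fun j _ => ?_
      rw [mul_assoc, coeff_C_mul, ← eq_intCast (Int.castRingHom F), ← coeff_map, Polynomial.map_mul, Polynomial.map_pow,
        Polynomial.map_X]
  -- the square law as a polynomial identity
  let a' : (MvPolynomial (Fin d) F)[X] := ∑ i : Fin d, C (MvPolynomial.X i) * X ^ (i : ℕ)
  let δ : MvPolynomial (Fin d) F := Matrix.det (∑ i : Fin d, (MvPolynomial.X i : MvPolynomial (Fin d) F) • (M ^ (i : ℕ)).map (MvPolynomial.C (σ := Fin d)))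
  let Ψ : MvPolynomial (Fin d) F := MvPolynomial.aeval (cvec D (a' ^ 2)) Φ - δ * MvPolynomial.C (f 1)
  let qa : (Fin d → F) → F[X] := fun v => ∑ i, C (v i) * X ^ (i : ℕ)
  have hδ : ∀ v, MvPolynomial.eval v δ = (∑ i, v i • M ^ (i : ℕ)).det := fun v => by
    rw [RingHom.map_det]
    congr 1
    ext x y
    simp [Matrix.sum_apply]
  have hΨ : ∀ v, MvPolynomial.eval v Ψ = MvPolynomial.eval (cvec D (qa v ^ 2)) Φ - (∑ i, v i • M ^ (i : ℕ)).det * f 1 := fun v => by
    have hmap : a'.map (MvPolynomial.eval v) = qa v := by simp [a', qa, Polynomial.map_sum]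
    simp only [Ψ, map_sub, map_mul, hδ, MvPolynomial.eval_C]
    congr 1
    show (MvPolynomial.aeval v).toRingHom (MvPolynomial.aeval _ Φ) = _
    refine (AlgHom.congr_fun (MvPolynomial.comp_aeval _ (MvPolynomial.aeval v)) Φ).trans ?_
    rw [← hmap, ← Polynomial.map_pow]
    rw [MvPolynomial.aeval_def, MvPolynomial.eval₂_eq', MvPolynomial.eval_eq']
    simp [cvec, ← Polynomial.coeff_map, Polynomial.map_pow]
  have hprod : δ * Ψ = 0 := by
    refine MvPolynomial.funext_set (fun _ => Set.range ((↑) : ℤ → F))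
      (fun _ => Set.infinite_range_of_injective Int.cast_injective) fun v hv => ?_
    choose u hu using fun i => hv i (Set.mem_univ i)
    rw [map_zero, map_mul, hδ, hΨ]
    obtain rfl : (fun i => (u i : F)) = v := funext hu
    let aZ : ℤ[X] := ∑ i, C (u i) * X ^ (i : ℕ)
    have hmapZ : aZ.map (Int.castRingHom F) = qa (fun i => (u i : F)) := by simp [aZ, qa, Polynomial.map_sum]
    have hρ : ρ (aeval ψ aZ) = ∑ i, (u i : F) • M ^ (i : ℕ) := by
      simp only [aZ, map_sum, map_mul, map_pow, aeval_C, aeval_X, M]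
      refine Finset.sum_congr rfl fun i _ => ?_
      rw [eq_intCast, map_intCast, Algebra.smul_def, map_intCast]
    rw [← hρ]
    by_cases h : (ρ (aeval ψ aZ)).det = 0
    · rw [h, zero_mul]
    refine mul_eq_zero_of_right _ (sub_eq_zero.2 ?_)
    have hdeg : (aZ ^ 2).natDegree < D := by
      refine lt_of_le_of_lt natDegree_pow_le ?_
      have : aZ.natDegree ≤ d := natDegree_sum_le_of_forall_le _ _ fun i _ =>
        (natDegree_C_mul_X_pow_le _ _).trans i.2.le
      omega
    rw [← hsq aZ h, ← map_pow, hf _ hdeg, ← hmapZ, ← Polynomial.map_pow]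
    exact congrArg (fun v => MvPolynomial.eval v Φ) (_root_.funext fun i => Polynomial.coeff_map (Int.castRingHom F) _)
  have hδ0 : δ ≠ 0 := fun h => by
    have := congrArg (MvPolynomial.eval (Pi.single (⟨0, by omega⟩ : Fin d) (1 : F))) h
    rw [hδ, map_zero, Finset.sum_eq_single (⟨0, by omega⟩ : Fin d) (fun i _ hi => by rw [Pi.single_eq_of_ne hi, zero_smul])
      (fun h => absurd (Finset.mem_univ _) h), Pi.single_eq_same, pow_zero, one_smul, Matrix.det_one] at this
    exact one_ne_zero this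
  have hq : qa (fun i => q.coeff i) = q := by
    conv_rhs => rw [q.as_sum_range_C_mul_X_pow, Finset.sum_range]
  have hMq : ∑ i : Fin d, q.coeff i • M ^ (i : ℕ) = aeval M q := by
    rw [aeval_eq_sum_range' (Nat.lt_succ_self _), Finset.sum_range]
  have key := hΨ (fun i => q.coeff i)
  rw [(mul_eq_zero.1 hprod).resolve_left hδ0, map_zero, hq, hMq, hΦeq] at key
  have hPM : aeval M PF = 0 := by
    rw [aeval_def, eval₂_map, show (algebraMap F _).comp (Int.castRingHom F) = ρ.comp (algebraMap ℤ R) from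
      RingHom.ext_int _ _, ← hom_eval₂, ← aeval_def, hPψ, map_zero]
  have h2 : (aeval M q).det ^ 2 = M.det := by
    have := congrArg (aeval M) hqr
    rw [map_sub, map_mul, hPM, zero_mul, sub_eq_zero, map_pow, aeval_X] at this
    rw [← Matrix.det_pow, this]
  rw [eq_comm, sub_eq_zero] at key
  rw [key, mul_pow, h2]

/-- The same with an arbitrary `ℤ`-algebra structure. -/
theorem sq_eq_det_mul' {R : Type*} [Ring R] {n : ℕ} (ψ : R) (ρ : R →+* Matrix (Fin n) (Fin n) F) (f : R → F)
    (P : ℤ[X]) (hP : P.Monic) (hP0 : P.eval 0 ≠ 0)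
    (hpoly : ∀ D : ℕ, ∃ Φ : MvPolynomial (Fin D) F, ∀ b : Fin D → ℤ,
      f (∑ i, b i • ψ ^ (i : ℕ)) = MvPolynomial.eval (fun i => (b i : F)) Φ)
    [inst : Algebra ℤ R] (hPψ : aeval ψ P = 0)
    (hsq : ∀ a : ℤ[X], (ρ (aeval ψ a)).det ≠ 0 → f ((aeval ψ a) ^ 2) = (ρ (aeval ψ a)).det * f 1) :
    f ψ ^ 2 = (ρ ψ).det * f 1 ^ 2 := by
  obtain rfl : inst = Ring.toIntAlgebra R := Subsingleton.elim _ _
  exact sq_eq_det_mul ψ ρ f P hP hPψ hP0 hpoly hsq

end Groth.Agent.AVIdx
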