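import Groth.Agent.AVIdx.LiftPhi
import Groth.Agent.AVIdx.SquareRoot
import Groth.Agent.AVIdx.DegenEuler
import Groth.Agent.AVIdx.TateRank
import Groth.Agent.AVIdx.HomFinite
import Groth.Agent.AVDeg3.CharPolyBc
import Groth.Agent.AVDeg3.PullEuler
import Groth.Agent.AVPhi.Api
import Groth.Agent.HilbPoly.Pos

/-!
A non-degenerate invertible module on an abelian variety has non-zero Euler characteristic.
-/

set_option linter.style.haveILetI false
set_option linter.unusedSectionVars false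
set_option backward.isDefEq.respectTransparency false
set_option backward.isDefEq.respectTransparency.types false

universe u

open CategoryTheory CategoryTheory.Limits MonoidalCategory CartesianMonoidalCategory MonObj GrpObj AlgebraicGeometry TopologicalSpace

noncomputable section

namespace Groth.Agent.AVIdx

open Groth.Agent Groth.Agent.H23 Groth.Agent.AVPair Groth.Agent.AVCube
open scoped Groth.Agent.H23.PicMul

/-- A function on `ℤ^D` which is polynomial on every translate of `ℕ^D` is polynomial. -/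
theorem exists_poly_int {F : Type*} [Field F] [CharZero F] {D : ℕ} (f : (Fin D → ℤ) → F)
    (h : ∀ s : Fin D → ℕ, ∃ P : MvPolynomial (Fin D) F, ∀ n : Fin D → ℕ,
      f (fun i => (n i : ℤ) - s i) = MvPolynomial.eval (fun i => (n i : F)) P) :
    ∃ P : MvPolynomial (Fin D) F, ∀ b : Fin D → ℤ, f b = MvPolynomial.eval (fun i => (b i : F)) P := by
  obtain ⟨P, hP⟩ := h 0
  refine ⟨P, fun b => ?_⟩
  let s : Fin D → ℕ := fun i => (-b i).toNat
  obtain ⟨Q, hQ⟩ := h s
  let R : MvPolynomial (Fin D) F := MvPolynomial.aeval (fun i => MvPolynomial.X i - MvPolynomial.C (s i : F)) P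
  have hR : ∀ v, MvPolynomial.eval v R = MvPolynomial.eval (fun i => v i - (s i : F)) P := fun v => by
    show (MvPolynomial.aeval v).toRingHom (MvPolynomial.aeval _ P) = _
    refine (AlgHom.congr_fun (MvPolynomial.comp_aeval _ (MvPolynomial.aeval v)) P).trans ?_
    rw [MvPolynomial.aeval_def, MvPolynomial.eval₂_eq', MvPolynomial.eval_eq']
    simp
  have hQR : Q = R := by
    refine MvPolynomial.funext_set (fun i => Set.range fun m : ℕ => ((m + s i : ℕ) : F))
      (fun i => Set.infinite_range_of_injective fun x y hxy => by simpa using hxy) fun v hv => ?_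
    choose m hm using fun i => hv i (Set.mem_univ i)
    obtain rfl : (fun i => ((m i + s i : ℕ) : F)) = v := _root_.funext hm
    rw [hR, ← hQ (fun i => m i + s i)]
    have e : (fun i => ((m i + s i : ℕ) : ℤ) - s i) = fun i => ((m i : ℤ) - ((0 : Fin D → ℕ) i : ℤ)) :=
      _root_.funext fun i => by simp
    rw [e, hP m]
    simp
  have hb : ∀ i, ((b i + s i).toNat : ℤ) = b i + s i := fun i => by simp only [s]; omega
  have := hQ fun i => (b i + s i).toNat
  simp only [hb, add_sub_cancel_right] at this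
  rw [this, hQR, hR]
  refine congrArg (fun v => MvPolynomial.eval v P) (_root_.funext fun i => ?_)
  rw [← Int.cast_natCast (R := F) (b i + s i).toNat, hb]
  push_cast
  ring

variable {k : Type u} [Field k] {A : Over (Spec (CommRingCat.of k))}
  [GrpObj A] [IsCommMonObj A] [IsProper A.hom] [GeometricallyIntegral A.hom]
  {L H : A.left.Modules} (hL : PicF.IsInvertible L) (hH : PicF.IsInvertible H)

/-- `[-1]^*L ⊗ L⁻¹` is additive. -/
theorem isAdd_inv_div :
    IsAdd ((pc hL ((𝟙 A)⁻¹ : A ⟶ A) / pc hL (𝟙 A) : (PicF.Cl A.left)ˣ) : PicF.Cl A.left) := by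
  intro T f g
  have key : ∀ v : T ⟶ A, pu v ((pc hL ((𝟙 A)⁻¹ : A ⟶ A) / pc hL (𝟙 A) : (PicF.Cl A.left)ˣ) : PicF.Cl A.left) =
      ((pc hL v⁻¹ / pc hL v : (PicF.Cl T.left)ˣ) : PicF.Cl T.left) := fun v => by
    show (Units.map (PicMul.pullHom v.left : PicF.Cl A.left →* PicF.Cl T.left)
      (pc hL ((𝟙 A)⁻¹ : A ⟶ A) / pc hL (𝟙 A))).val = _
    rw [map_div, pull_pc, pull_pc, GrpObj.comp_inv, Category.comp_id]
  rw [key, key, key, ← Units.val_mul]
  refine congrArg Units.val ?_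
  rw [show (f * g)⁻¹ = f⁻¹ * g⁻¹ from _root_.mul_inv f g, PairE.pc_mul hL f⁻¹ g⁻¹, PairE.pc_mul hL f g,
    PairE.pair_inv_inv, mul_div_mul_right_eq_div, div_mul_div_comm]

theorem isInvertibleCl_pc {T : Over (Spec (CommRingCat.of k))} (v : T ⟶ A) :
    PicF.IsInvertibleCl (pc hL v : PicF.Cl T.left) := by
  rw [val_pc']
  exact PicClLib.isInvertibleCl_pullCl v.left ⟨L, rfl, hL⟩

/-- The Euler characteristic of powers of `L ⊗ [-1]^*L`. -/
theorem chiCl_pair_id_pow {g : ℕ} (hg : topologicalKrullDim A.left = g) (N : ℕ) :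
    @chiCl k _ A.left ⟨A.hom⟩ ((PairE.pair hL (𝟙 A) (𝟙 A) ^ N : (PicF.Cl A.left)ˣ) : PicF.Cl A.left) =
      (2 * N : ℤ) ^ g * @Curv2.euler k _ A.left ⟨A.hom⟩ L := by
  have e : PairE.pair hL (𝟙 A) (𝟙 A) = pc hL (𝟙 A) ^ 2 * (pc hL ((𝟙 A)⁻¹ : A ⟶ A) / pc hL (𝟙 A)) := by
    rw [PairE.pair_self, pow_two, _root_.mul_assoc, mul_div_cancel]
  have hq := isInvertibleCl_div (isInvertibleCl_pc hL ((𝟙 A)⁻¹ : A ⟶ A)) (isInvertibleCl_pc hL (𝟙 A))
  rw [e, mul_pow, ← pow_mul, Units.val_mul, Units.val_pow_eq_pow_val, Units.val_pow_eq_pow_val,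
    chiCl_pow_mul hg (isInvertibleCl_pc hL _) (isInvertibleCl_pow hq N) ((isAdd_inv_div hL).pow N), val_pc_id, chiCl_cl]
  push_cast
  ring

variable [IsAlgClosed k]

/-- An ample module has non-zero Euler characteristic. -/
theorem euler_ne_zero_of_isAmple (hHa : CohB1.IsAmple H) :
    @Curv2.euler k _ A.left ⟨A.hom⟩ H ≠ 0 := by
  intro h0
  obtain ⟨g, hg⟩ := exists_dim_av A
  haveI : IsIntegral A.left := GeometricallyIntegral.isIntegral_of_subsingleton A.hom
  letI : A.left.Over (Spec (CommRingCat.of k)) := ⟨A.hom⟩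
  haveI : IsProper (A.left ↘ Spec (CommRingCat.of k)) := ‹IsProper A.hom›
  haveI : IsNoetherian A.left := CurveCohLib.isNoetherian_of_proper (k := k)
  let O := Coh.structureModule A.left
  have hs : CohB1.support O = Set.univ := Set.eq_univ_of_forall mem_support_structureModule
  have hdim : topologicalKrullDim ↥(CohB1.support O) = (g : WithBot ℕ∞) := by
    rw [hs, ← hg]
    exact (Homeomorph.Set.univ _).isHomeomorph.topologicalKrullDim_eq
  obtain ⟨P, hP, -, hlead⟩ := HilbPoly.exists_poly (φ := Curv2.euler k A.left) (HilbPoly.additive_euler k) hHa.1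
    (F := O) QCoh.isCoh_structureModule' hdim.le
  have hpos := (HilbPoly.mult_nonneg_and_pos (k := k) hHa g O QCoh.isCoh_structureModule' hdim.le).2 hdim
  have hP0 : P = 0 := Polynomial.eq_zero_of_infinite_isRoot _ ((Set.infinite_range_of_injective
    (f := fun m : ℕ => ((m + 1 : ℕ) : ℚ)) (fun x y hxy => by simpa using hxy)).mono ?_)
  · rw [hP0] at hlead
    simp [StabCat.alpha] at hlead
    exact hpos.ne (by exact_mod_cast hlead)
  · rintro _ ⟨m, rfl⟩
    show P.eval _ = 0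
    rw [← hP]
    have h1 := chiCl_pow_mul hg (c := PicF.cl H) ⟨H, rfl, hHa.1⟩ isInv_one isAdd_one (m + 1)
    rw [_root_.mul_one, chiCl_cl, h0, mul_zero, ← PicMul.cl_tensorPow, ← _root_.one_mul (PicF.cl _)] at h1
    exact_mod_cast h1

/-- The squared Euler characteristic through an endomorphism `ψ` lifting `φ_L` through `φ_H`. -/
theorem euler_sq_eq {g : ℕ} (hg : topologicalKrullDim A.left = g) (N : ℕ) (ψ : EndAV.End A)
    (hψ : PairE.pair hH (fst A A) (snd A A ≫ ψ.toHom) = PairE.pair hL (fst A A) (snd A A) ^ N)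
    (hfin : IsFinite ψ.toHom.left) (pt : A.left) :
    0 < ψ.toHom.left.finrank pt ∧ ((N : ℤ) ^ g * @Curv2.euler k _ A.left ⟨A.hom⟩ L) ^ 2 =
      (ψ.toHom.left.finrank pt : ℤ) * @Curv2.euler k _ A.left ⟨A.hom⟩ H ^ 2 := by
  classical
  letI : A.left.Over (Spec (CommRingCat.of k)) := ⟨A.hom⟩
  haveI : IsProper (A.left ↘ Spec (CommRingCat.of k)) := ‹IsProper A.hom›
  haveI : IsLocallyNoetherian A.left := LocallyOfFiniteType.isLocallyNoetherian A.hom
  obtain ⟨l, hl, hlk⟩ := exists_prime_ne_zero k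
  haveI : Fact l.Prime := ⟨hl⟩
  obtain ⟨b⟩ := nonempty_tateBasis k A hg l hlk
  haveI := Module.Free.of_basis b
  haveI := Module.Finite.of_basis b
  let F := AlgebraicClosure ℚ_[l]
  let i₁ : ℤ_[l] →+* F := (algebraMap ℚ_[l] F).comp (algebraMap ℤ_[l] ℚ_[l])
  let ρ : EndAV.End A →+* Matrix (Fin (2 * g)) (Fin (2 * g)) F :=
    (i₁.mapMatrix.comp (LinearMap.toMatrixAlgEquiv b).toAlgHom.toRingHom).comp
      (EndAV.End.tateRep l (Over.mk (fieldMap (k := k) k)))
  -- degrees are determinants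
  have hdeg : ∀ y : EndAV.End A, ∃ d : ℤ, (ρ y).det = (d : F) ∧
      (IsFinite y.toHom.left → ∀ a : A.left, (y.toHom.left.finrank a : ℤ) = d) ∧ (¬ IsFinite y.toHom.left → d = 0) := fun y => by
    obtain ⟨P, -, hPd, hPn, hPc⟩ := AVDeg3.exists_charpoly k hg y
    have h0 := hPn 0
    rw [Int.cast_zero, sub_zero] at h0
    refine ⟨P.eval 0, ?_, h0.1, h0.2⟩
    let m := LinearMap.toMatrix b b (EndAV.End.tateRep l (Over.mk (fieldMap (k := k) k)) y)
    have hm : m.charpoly = P.map (Int.castRingHom ℤ_[l]) := (LinearMap.charpoly_toMatrix _ b).trans (hPc l hlk)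
    show (i₁.mapMatrix m).det = _
    rw [← RingHom.map_det, Matrix.det_eq_sign_charpoly_coeff, hm, Fintype.card_fin, pow_mul, neg_one_sq, one_pow,
      _root_.one_mul, Polynomial.coeff_map, ← Polynomial.coeff_zero_eq_eval_zero, eq_intCast, map_intCast]
  -- symmetry with respect to the pairing
  let Sym : EndAV.End A → Prop := fun x => ∀ (T : Over (Spec (CommRingCat.of k))) (u v : T ⟶ A),
    PairE.pair hH (u ≫ x.toHom) v = PairE.pair hH u (v ≫ x.toHom)
  have hψ' : ∀ (T : Over (Spec (CommRingCat.of k))) (u v : T ⟶ A),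
      PairE.pair hH u (v ≫ ψ.toHom) = PairE.pair hL u v ^ N := fun T u v => by
    have h := congrArg (Units.map (PicMul.pullHom (lift u v).left : PicF.Cl (A ⊗ A).left →* PicF.Cl T.left)) hψ
    rwa [map_pow, PairE.pull_pair, PairE.pull_pair, lift_fst, lift_snd_assoc, lift_snd] at h
  have hSψ : Sym ψ := fun T u v => by rw [PairE.pair_comm, hψ', hψ', PairE.pair_comm]
  have hSpoly : ∀ a : Polynomial ℤ, Sym (Polynomial.aeval ψ a) := fun a => by
    have hpow : ∀ n : ℕ, Sym (ψ ^ n) := fun n => by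
      induction n with
      | zero => intro T u v; rw [pow_zero, EndAV.End.toHom_one, Category.comp_id, Category.comp_id]
      | succ n ih =>
        intro T u v
        calc PairE.pair hH (u ≫ (ψ ^ (n + 1)).toHom) v
            = PairE.pair hH ((u ≫ (ψ ^ n).toHom) ≫ ψ.toHom) v := by rw [EndAV.End.toHom_pow_succ, Category.assoc]
          _ = PairE.pair hH (u ≫ (ψ ^ n).toHom) (v ≫ ψ.toHom) := hSψ T _ v
          _ = PairE.pair hH u ((v ≫ ψ.toHom) ≫ (ψ ^ n).toHom) := ih T u _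
          _ = _ := by rw [Category.assoc, ← EndAV.End.toHom_mul, ← pow_succ]
    induction a using Polynomial.induction_on' with
    | add a c ha hc =>
      intro T u v
      rw [map_add, EndAV.End.toHom_add, MonObj.comp_mul, MonObj.comp_mul, PairE.pair_mul_left, PairE.pair_mul_right,
        ha T u v, hc T u v]
    | monomial n c =>
      intro T u v
      rw [Polynomial.aeval_monomial, ← Algebra.smul_def, EndAV.End.toHom_zsmul, GrpObj.comp_zpow, GrpObj.comp_zpow]
      exact ((PairE.leftHom hH v).map_zpow _ c).trans ((congrArg (· ^ c) (hpow n T u v)).trans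
        ((PairE.rightHom hH u).map_zpow _ c).symm)
  -- the classes attached to endomorphisms
  let C : EndAV.End A → (PicF.Cl A.left)ˣ := fun x => PairE.pair hH x.toHom (𝟙 A)
  have hCadd : ∀ x y, C (x + y) = C x * C y := fun x y => PairE.pair_mul_left hH x.toHom y.toHom (𝟙 A)
  let f : EndAV.End A → F := fun x => ((chiCl k A.left (C x : PicF.Cl A.left) : ℤ) : F)
  have hpoly : ∀ D : ℕ, ∃ Φ : MvPolynomial (Fin D) F, ∀ c : Fin D → ℤ,
      f (∑ i, c i • ψ ^ (i : ℕ)) = MvPolynomial.eval (fun i => (c i : F)) Φ := fun D => by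
    refine exists_poly_int _ fun s => ?_
    have hinv : ∀ x, PicF.IsInvertibleCl (C x : PicF.Cl A.left) := fun x => PairE.isInvertibleCl_pair hH _ _
    choose M hMc hM using fun i : Fin D => hinv (ψ ^ (i : ℕ))
    obtain ⟨M₀, hM₀c, hM₀⟩ := hinv (-∑ i : Fin D, (s i : ℤ) • ψ ^ (i : ℕ))
    haveI := CurveCohLib.isNoetherian_of_proper (k := k) (X := A.left)
    obtain ⟨P, -, hP⟩ := Snapper.exists_mpoly k (L := M) hM (AmpleVan.isCoh_invertible hM₀) (d := g)
      ((topologicalKrullDim_subspace_le A.left _).trans hg.le)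
    refine ⟨P.map (algebraMap ℚ F), fun n => ?_⟩
    let Ch : EndAV.End A →+ Additive (PicF.Cl A.left)ˣ := AddMonoidHom.mk' (fun x => Additive.ofMul (C x)) hCadd
    have hCn : C (∑ i : Fin D, ((n i : ℤ) - s i) • ψ ^ (i : ℕ)) =
        C (-∑ i : Fin D, (s i : ℤ) • ψ ^ (i : ℕ)) * ∏ i : Fin D, C (ψ ^ (i : ℕ)) ^ n i := by
      simp only [sub_smul, Finset.sum_sub_distrib]
      rw [sub_eq_neg_add]
      show Additive.toMul (Ch _) = _
      rw [map_add, map_sum, toMul_add, toMul_sum]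
      refine congrArg₂ (· * ·) rfl (Finset.prod_congr rfl fun i _ => ?_)
      rw [map_zsmul, natCast_zsmul, toMul_nsmul]
      rfl
    show ((chiCl k A.left (C _ : PicF.Cl A.left) : ℤ) : F) = _
    rw [hCn, show ((C (-∑ i : Fin D, (s i : ℤ) • ψ ^ (i : ℕ)) * ∏ i : Fin D, C (ψ ^ (i : ℕ)) ^ n i : (PicF.Cl A.left)ˣ) : PicF.Cl A.left) =
      PicF.cl (Curv2.tensorPows M₀ D M n) by
        rw [AVDeg3.cl_tensorPows, hM₀c, Units.val_mul, Units.coe_prod]
        exact congrArg _ (Finset.prod_congr rfl fun i _ => by rw [Units.val_pow_eq_pow_val, hMc]), chiCl_cl,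
      ← map_intCast (algebraMap ℚ F), hP n, MvPolynomial.eval_map]
    refine (MvPolynomial.eval₂_comp_left (algebraMap ℚ F) (RingHom.id ℚ) _ P).trans ?_
    refine congrArg (fun v => MvPolynomial.eval₂ (algebraMap ℚ F) v P) (_root_.funext fun i => ?_)
    simp
  have hsq : ∀ a : Polynomial ℤ, (ρ (Polynomial.aeval ψ a)).det ≠ 0 →
      f ((Polynomial.aeval ψ a) ^ 2) = (ρ (Polynomial.aeval ψ a)).det * f 1 := fun a ha => by
    let y := Polynomial.aeval ψ a
    obtain ⟨d, hd, hd1, hd2⟩ := hdeg y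
    haveI : IsFinite y.toHom.left := by
      by_contra hnf
      exact ha (by rw [hd, hd2 hnf, Int.cast_zero])
    haveI := AVIsog3.surjective_of_isFinite y.toHom rfl
    haveI := AVIsog3.flat_of_surjective y.toHom
    have hC : (C (y ^ 2) : PicF.Cl A.left) = pu y.toHom (C 1 : PicF.Cl A.left) := by
      show _ = (Units.map (PicMul.pullHom y.toHom.left : PicF.Cl A.left →* PicF.Cl A.left) (C 1)).val
      refine congrArg Units.val ?_
      show PairE.pair hH (y ^ 2).toHom (𝟙 A) = _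
      rw [pow_two, EndAV.End.toHom_mul, PairE.pull_pair, EndAV.End.toHom_one, Category.comp_id,
        hSpoly a A y.toHom (𝟙 A), Category.id_comp]
    obtain ⟨M, hMc, hM⟩ := PairE.isInvertibleCl_pair hH (EndAV.End.toHom (1 : EndAV.End A)) (𝟙 A)
    obtain ⟨pt⟩ : Nonempty A.left := ⟨η[A].left (IsLocalRing.closedPoint k)⟩
    have he := euler_pullback_av A A y.toHom (y.toHom.left.finrank pt)
      (fun z => AVDeg3.finrank_const_av y.toHom z pt) (F := M) (AmpleVan.isCoh_invertible hM)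
    show ((chiCl k A.left (C (y ^ 2) : PicF.Cl A.left) : ℤ) : F) = (ρ y).det * ((chiCl k A.left (C 1 : PicF.Cl A.left) : ℤ) : F)
    rw [hC, ← show PicF.cl M = (C 1 : PicF.Cl A.left) from hMc,
      show chiCl k A.left (pu y.toHom (PicF.cl M)) = (y.toHom.left.finrank pt : ℤ) * chiCl k A.left (PicF.cl M) from he,
      Int.cast_mul, hd1 ‹_› pt, hd]
  obtain ⟨P, hPm, -, -, hPc⟩ := AVDeg3.exists_charpoly k hg ψ
  obtain ⟨d, hd, hd1, -⟩ := hdeg ψ
  haveI := hfin
  haveI := AVIsog3.surjective_of_isFinite ψ.toHom rfl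
  have hdpos : 0 < ψ.toHom.left.finrank pt := by
    rw [AVDeg3.finrank_const_av ψ.toHom pt (η[A].left (IsLocalRing.closedPoint k))]
    exact AVIsog3.finrank_pos ψ.toHom _
  have hPψ : Polynomial.aeval ψ P = 0 := by
    have hk : EndAV.End.tateRep l (Over.mk (fieldMap (k := k) k)) (Polynomial.aeval ψ P) = 0 := by
      have := LinearMap.aeval_self_charpoly (EndAV.End.tateRep l (Over.mk (fieldMap (k := k) k)) ψ)
      rw [hPc l hlk] at this
      rw [← this]
      rw [Polynomial.aeval_def, Polynomial.aeval_def, Polynomial.eval₂_map, Polynomial.hom_eval₂]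
      exact congrArg (fun φ => Polynomial.eval₂ φ _ P) (RingHom.ext_int _ _)
    by_contra hne
    obtain ⟨hfin', hfree'⟩ := finite_free_hom A A
    have hli : LinearIndependent ℤ (fun _ : Fin 1 => (Polynomial.aeval ψ P : EndAV.Hom A A)) :=
      Fintype.linearIndependent_iff.2 fun c hc i => by
        rw [Fin.sum_univ_one] at hc
        rw [show i = 0 from Subsingleton.elim _ _]
        exact (smul_eq_zero (M := EndAV.Hom A A)).1 hc |>.resolve_right hne
    exact (linearIndependent_tateMap k l hlk _ hli).ne_zero 0 hk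
  have hP0 : P.eval 0 ≠ 0 := by
    obtain ⟨P', -, -, hP'n, hP'c⟩ := AVDeg3.exists_charpoly k hg ψ
    have he : P = P' := Polynomial.map_injective _ (Int.castRingHom ℤ_[l]).injective_int ((hPc l hlk).symm.trans (hP'c l hlk))
    have h0 := hP'n 0
    rw [Int.cast_zero, sub_zero] at h0
    rw [he, ← h0.1 hfin pt]
    exact Int.natCast_ne_zero.2 hdpos.ne'
  have key := sq_eq_det_mul' ψ ρ f P hPm hP0 hpoly hPψ hsq
  have hfψ : f ψ = (((2 * N : ℤ) ^ g * @Curv2.euler k _ A.left ⟨A.hom⟩ L : ℤ) : F) := by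
    refine congrArg Int.cast ?_
    rw [← chiCl_pair_id_pow hL hg N]
    refine congrArg (chiCl k A.left) (congrArg Units.val ?_)
    rw [← hψ' A (𝟙 A) (𝟙 A), PairE.pair_comm hH (𝟙 A) (𝟙 A ≫ ψ.toHom), Category.id_comp]
  have hf1 : f 1 = (((2 : ℤ) ^ g * @Curv2.euler k _ A.left ⟨A.hom⟩ H : ℤ) : F) := by
    refine congrArg Int.cast ?_
    have h1 := chiCl_pair_id_pow hH hg 1
    rw [pow_one, Nat.cast_one, _root_.mul_one] at h1
    rw [← h1]
    rfl
  refine ⟨hdpos, ?_⟩
  rw [hfψ, hf1, hd, ← hd1 hfin pt] at key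
  have key' : ((2 * N : ℤ) ^ g * @Curv2.euler k _ A.left ⟨A.hom⟩ L) ^ 2 =
      (ψ.toHom.left.finrank pt : ℤ) * ((2 : ℤ) ^ g * @Curv2.euler k _ A.left ⟨A.hom⟩ H) ^ 2 := by
    refine Int.cast_injective (α := F) ((Int.cast_pow _ _).trans (key.trans ?_))
    exact ((Int.cast_mul _ _).trans (congrArg₂ (· * ·) rfl (Int.cast_pow _ _))).symm
  rw [mul_pow (2 : ℤ) (N : ℤ) g] at key'
  have h2 : ((2 : ℤ) ^ g) ^ 2 ≠ 0 := by positivity
  exact mul_left_cancel₀ h2 (by linear_combination key')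

/-- The pairing relation on a point. -/
theorem pair_point_of_rel (N : ℕ) (ψ : A ⟶ A)
    (hψ : PairE.pair hH (fst A A) (snd A A ≫ ψ) = PairE.pair hL (fst A A) (snd A A) ^ N)
    (a : 𝟙_ (Over (Spec (CommRingCat.of k))) ⟶ A) :
    PairE.pair hH (𝟙 A) (toUnit A ≫ a ≫ ψ) = PairE.pair hL (𝟙 A) (toUnit A ≫ a) ^ N := by
  have h := congrArg (Units.map (PicMul.pullHom (lift (𝟙 A) (toUnit A ≫ a)).left :
    PicF.Cl (A ⊗ A).left →* PicF.Cl A.left)) hψ
  rwa [map_pow, PairE.pull_pair, PairE.pull_pair, lift_fst, lift_snd_assoc, lift_snd, Category.assoc] at h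

/-- Roots of points of an abelian variety form finite sets. -/
theorem finite_roots {N : ℕ} (hN : 0 < N) {S : Set (𝟙_ (Over (Spec (CommRingCat.of k))) ⟶ A)} (hS : S.Finite) :
    {a : 𝟙_ (Over (Spec (CommRingCat.of k))) ⟶ A | a ^ N ∈ S}.Finite := by
  refine Set.Finite.subset (hS.biUnion (t := fun b => {a | a ^ N = b}) fun b _ => ?_)
    fun a ha => Set.mem_biUnion ha rfl
  rcases Set.eq_empty_or_nonempty {a : 𝟙_ (Over (Spec (CommRingCat.of k))) ⟶ A | a ^ N = b} with he | ⟨a₀, ha₀⟩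
  · rw [he]; exact Set.finite_empty
  refine (((AVTate3.finite_torsion (A := A) (𝟙 (Spec (CommRingCat.of k))) hN).image (a₀ * ·))).subset fun a ha => ?_
  refine ⟨a₀⁻¹ * a, ?_, mul_inv_cancel_left a₀ a⟩
  show (a₀⁻¹ * a) ^ N = 1
  rw [mul_pow, inv_pow, show a₀ ^ N = b from ha₀, show a ^ N = b from ha, inv_mul_cancel]

/-- `ψ` is finite when `L` is non-degenerate. -/
theorem isFinite_of_nondeg {N : ℕ} (hN : 0 < N) (ψ : A ⟶ A) [IsMonHom ψ]
    (hψ : PairE.pair hH (fst A A) (snd A A ≫ ψ) = PairE.pair hL (fst A A) (snd A A) ^ N)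
    (hnd : Set.Finite {a : 𝟙_ (Over (Spec (CommRingCat.of k))) ⟶ A |
      pl (𝟙 A * (toUnit A ≫ a)) (PicF.cl L) = PicF.cl L}) : IsFinite ψ.left := by
  refine AVDeg3.isFinite_of_finite_ker ψ ((finite_roots hN hnd).subset fun a ha => (pl_tr_eq_iff hL _).2 ?_)
  have h := pair_point_of_rel hL hH N ψ hψ a
  rw [show a ≫ ψ = η[A] from ha, MonObj.one_eq_one, MonObj.comp_one, PairE.pair_one_right] at h
  rw [MonObj.comp_pow, PairE.pair_pow_right]
  exact h.symm

include hL in
/-- A non-degenerate invertible module has non-zero Euler characteristic. -/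
theorem euler_ne_zero_of_finite
    (hnd : Set.Finite {a : 𝟙_ (Over (Spec (CommRingCat.of k))) ⟶ A |
      pl (𝟙 A * (toUnit A ≫ a)) (PicF.cl L) = PicF.cl L}) :
    @Curv2.euler k _ A.left ⟨A.hom⟩ L ≠ 0 := by
  obtain ⟨H, hHa⟩ := AVProj.exists_isAmple (X := A)
  obtain ⟨g, hg⟩ := exists_dim_av A
  have hndH := (AVPhi.finite_fixing_of_ample hHa).subset
    fun a (ha : pl (𝟙 A * (toUnit A ≫ a)) (PicF.cl H) = PicF.cl H) => (AVPhi.nonempty_iso_iff _).2 ha
  obtain ⟨N, ψ, hN, _, hψ⟩ := exists_lift hL hHa.1 hndH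
  have hfin := isFinite_of_nondeg hL hHa.1 hN ψ hψ hnd
  obtain ⟨pt⟩ : Nonempty A.left := ⟨η[A].left (IsLocalRing.closedPoint k)⟩
  obtain ⟨hr, e⟩ := euler_sq_eq hL hHa.1 hg N (EndAV.End.of ψ) hψ hfin pt
  intro h0
  rw [h0, mul_zero, zero_pow two_ne_zero] at e
  rcases mul_eq_zero.1 e.symm with h | h
  · omega
  · exact euler_ne_zero_of_isAmple hHa ((pow_eq_zero_iff two_ne_zero).1 h)

end Groth.Agent.AVIdx
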