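import Groth.Agent.AVIdx.IndexField
import Groth.Agent.AVPoinc.EulerSq
import Groth.Agent.H75.SteinPull
import Groth.Agent.H23.MaxAbelian
import Groth.Agent.IntNum47.Push

/-!
Subadditivity of the index: restrict the external product to the diagonal.
-/

noncomputable section

set_option linter.style.haveILetI false
set_option linter.unusedSectionVars false
set_option backward.isDefEq.respectTransparency false
set_option backward.isDefEq.respectTransparency.types false
set_option autoImplicit false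
set_option maxHeartbeats 800000

universe u

open CategoryTheory CategoryTheory.Limits MonoidalCategory CartesianMonoidalCategory AlgebraicGeometry
open TopologicalSpace

namespace Groth.Agent.AVIdx

open Groth.Agent Groth.Agent.H23 Groth.Agent.AVPair Groth.Agent.AVCube Groth.Agent.AVAmple
open scoped Groth.Agent.H23.PicMul

variable {k : Type u} [Field k] {A : Over (Spec (CommRingCat.of k))}
  [GrpObj A] [IsProper A.hom] [GeometricallyIntegral A.hom]

/-- The index of an external product. -/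
theorem index_box {B : Over (Spec (CommRingCat.of k))} [GrpObj B] [IsProper B.hom] [GeometricallyIntegral B.hom]
    [GeometricallyIntegral (A ⊗ B).hom]
    {L : A.left.Modules} (hL : PicF.IsInvertible L) {i : ℕ}
    (hvan : ∀ j, j ≠ i → Subsingleton (Coh.HH A.left L j)) (hne : ¬ Subsingleton (Coh.HH A.left L i))
    {L' : B.left.Modules} (hL' : PicF.IsInvertible L') {i' : ℕ}
    (hvan' : ∀ j, j ≠ i' → Subsingleton (Coh.HH B.left L' j)) (hne' : ¬ Subsingleton (Coh.HH B.left L' i')) :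
    (∀ j, j ≠ i + i' → Subsingleton (Coh.HH (A ⊗ B).left (CohB1.tensorMod ((Scheme.Modules.pullback (fst A B).left).obj L)
        ((Scheme.Modules.pullback (snd A B).left).obj L')) j)) ∧
      ¬ Subsingleton (Coh.HH (A ⊗ B).left (CohB1.tensorMod ((Scheme.Modules.pullback (fst A B).left).obj L)
        ((Scheme.Modules.pullback (snd A B).left).obj L')) (i + i')) := by
  haveI : IsProper (A ⊗ B).hom := inferInstance
  haveI : CompactSpace ↥(pullback A.hom B.hom) := QuasiCompact.compactSpace_of_compactSpace (A ⊗ B).hom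
  obtain ⟨H, hH⟩ := AVProj.exists_isAmple (X := A)
  obtain ⟨H', hH'⟩ := AVProj.exists_isAmple (X := B)
  obtain ⟨Φ, hΦ⟩ := exists_hilb (A := A) hL hH.1
  obtain ⟨Φ', hΦ'⟩ := exists_hilb (A := B) hL' hH'.1
  let p := (fst A B).left
  let q := (snd A B).left
  let P := CohB1.tensorMod ((Scheme.Modules.pullback p).obj L) ((Scheme.Modules.pullback q).obj L')
  let Q := CohB1.tensorMod ((Scheme.Modules.pullback p).obj H) ((Scheme.Modules.pullback q).obj H')
  have hP : PicF.IsInvertible P :=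
    PicMul.isInvertible_tensor (PicClLib.isInvertible_pullback _ hL) (PicClLib.isInvertible_pullback _ hL')
  have hQ : CohB1.IsAmple Q := H75.SteinPull.isAmple_box A.hom B.hom hH hH'
  have hχ : ∀ n : ℕ, (Φ * Φ').eval (n : ℚ) =
      (@Curv2.euler k _ (A ⊗ B).left ⟨(A ⊗ B).hom⟩ (CohB1.tensorMod P (CohB1.tensorPow Q n)) : ℚ) := fun n => by
    have e : PicF.cl (CohB1.tensorMod P (CohB1.tensorPow Q n)) =
        pu (fst A B) (PicF.cl (CohB1.tensorMod L (CohB1.tensorPow H n))) *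
          pu (snd A B) (PicF.cl (CohB1.tensorMod L' (CohB1.tensorPow H' n))) := by
      simp only [P, Q, PicMul.cl_tensor, PicMul.cl_tensorPow, map_mul, map_pow, mul_pow]
      exact mul_mul_mul_comm _ _ _ _
    rw [← chiCl_cl k (A ⊗ B).left (CohB1.tensorMod P _), e, AVPoinc.chiCl_box A B
      ⟨_, rfl, PicMul.isInvertible_tensor hL (PicMul.isInvertible_tensorPow hH.1 n)⟩
      ⟨_, rfl, PicMul.isInvertible_tensor hL' (PicMul.isInvertible_tensorPow hH'.1 n)⟩, chiCl_cl, chiCl_cl,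
      Polynomial.eval_mul, hΦ n, hΦ' n, Int.cast_mul]
  have h0 : ∀ {X : Scheme.{u}} (M N : X.Modules), PicF.cl (CohB1.tensorMod M (CohB1.tensorPow N 0)) = PicF.cl M :=
    fun M N => by rw [PicMul.cl_tensor, PicMul.cl_tensorPow, pow_zero, _root_.mul_one]
  have hev : Φ.eval 0 ≠ 0 ∧ Φ'.eval 0 ≠ 0 := by
    constructor
    · have h1 := hΦ 0
      rw [Nat.cast_zero] at h1
      rw [h1, Int.cast_ne_zero, ← chiCl_cl, h0, chiCl_cl]
      exact euler_ne_zero hL hvan hne
    · have h1 := hΦ' 0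
      rw [Nat.cast_zero] at h1
      rw [h1, Int.cast_ne_zero, ← chiCl_cl, h0, chiCl_cl]
      exact euler_ne_zero hL' hvan' hne'
  obtain ⟨I, hI, hI'⟩ := exists_concentrated (A := A ⊗ B) hP (by
    rw [← chiCl_cl, ← h0 P Q, chiCl_cl, ← Int.cast_ne_zero (α := ℚ), ← hχ 0, Nat.cast_zero, Polynomial.eval_mul]
    exact mul_ne_zero hev.1 hev.2)
  have e := (index_card hP hQ 0 (M := P) (by rw [pow_zero, _root_.mul_one]) hI hI' _ hχ).2
  have e1 := (index_card hL hH 0 (M := L) (by rw [pow_zero, _root_.mul_one]) hvan hne _ hΦ).2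
  have e2 := (index_card hL' hH' 0 (M := L') (by rw [pow_zero, _root_.mul_one]) hvan' hne' _ hΦ').2
  have hne0 : Φ.map (algebraMap ℚ ℝ) * Φ'.map (algebraMap ℚ ℝ) ≠ 0 := by
    refine mul_ne_zero ?_ ?_ <;> rw [Polynomial.map_ne_zero_iff (algebraMap ℚ ℝ).injective] <;> intro h
    · exact hev.1 (by simp [h])
    · exact hev.2 (by simp [h])
  rw [Polynomial.map_mul, Polynomial.roots_mul hne0, Multiset.filter_add, Multiset.card_add, ← e1, ← e2] at e
  subst e
  exact ⟨hI, hI'⟩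

/-- Negative twists of a high power keep the index. -/
theorem exists_twist_index {P Q : A.left.Modules} (hP : PicF.IsInvertible P) (hQ : CohB1.IsAmple Q) {I : ℕ}
    (hvan : ∀ j, j ≠ I → Subsingleton (Coh.HH A.left P j)) (hne : ¬ Subsingleton (Coh.HH A.left P I)) (D : ℕ) :
    ∃ n : ℕ, 0 < n ∧ ∀ e ≤ D, ∀ N : A.left.Modules, PicF.cl N * PicF.cl Q ^ e = PicF.cl P ^ n →
      ∀ j, j ≠ I → Subsingleton (Coh.HH A.left N j) := by
  letI : A.left.Over (Spec (CommRingCat.of k)) := ⟨A.hom⟩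
  obtain ⟨g, hg⟩ := exists_dim A
  obtain ⟨Φ, hΦ⟩ := exists_hilb (A := A) hP hQ.1
  let p := Φ.map (algebraMap ℚ ℝ)
  have h1 := hΦ 0
  rw [Nat.cast_zero] at h1
  have hp0 : p.eval 0 ≠ 0 := fun h => euler_ne_zero hP hvan hne (by
    have h2 : Φ.eval 0 = 0 := (algebraMap ℚ ℝ).injective (by
      rw [← Polynomial.eval_map_apply, map_zero]; exact h)
    rw [h1, Int.cast_eq_zero, ← chiCl_cl, PicMul.cl_tensor, PicMul.cl_tensorPow, pow_zero, _root_.mul_one,
      chiCl_cl] at h2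
    exact h2)
  obtain ⟨δ, hδ, hball⟩ := Metric.isOpen_iff.1 (isOpen_ne.preimage p.continuous) 0 hp0
  obtain ⟨n, hn⟩ := exists_nat_gt ((D : ℝ) / δ)
  have hn0 : (0 : ℝ) < n := lt_of_le_of_lt (div_nonneg (Nat.cast_nonneg _) hδ.le) hn
  have hnN : 0 < n := Nat.cast_pos.1 hn0
  refine ⟨n, hnN, fun e he N hN => ?_⟩
  obtain ⟨hv, hn'⟩ := index_pow hP hvan hne hnN
  let u := unitCl hP
  let v := unitCl hQ.1
  have hu : InvCl u := ⟨_, rfl, hP⟩
  have hw : InvCl v := ⟨_, rfl, hQ.1⟩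
  have hNu : PicF.cl N = ((u ^ n * v ^ (-(e : ℤ)) : (PicF.Cl A.left)ˣ) : PicF.Cl A.left) := by
    rw [← Units.mul_left_inj (v ^ e), ← Units.val_mul, _root_.mul_assoc, zpow_neg, zpow_natCast, inv_mul_cancel,
      _root_.mul_one, Units.val_pow_eq_pow_val, Units.val_pow_eq_pow_val]
    exact hN
  have hNi : PicF.IsInvertible N := isInvertible_of_cl (by rw [hNu]; exact (hu.pow _).mul (hw.zpow _))
  let Ψ : Polynomial ℚ := Polynomial.C ((n : ℚ) ^ g) * Φ.comp ((Polynomial.X - Polynomial.C (e : ℚ)) * Polynomial.C (1 / (n : ℚ)))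
  have hΨ : ∀ m : ℕ, Ψ.eval (m : ℚ) =
      (Curv2.euler k A.left (CohB1.tensorMod N (CohB1.tensorPow Q m)) : ℚ) := fun m => by
    rw [← chiCl_cl, PicMul.cl_tensor, PicMul.cl_tensorPow, hNu, ← val_unitCl hQ.1, ← Units.val_pow_eq_pow_val,
      ← Units.val_mul, _root_.mul_assoc, ← zpow_natCast v m, ← zpow_add,
      chiCl_twist hg hu hw Φ (fun l => by
        rw [hΦ l, ← chiCl_cl, PicMul.cl_tensor, PicMul.cl_tensorPow, Units.val_mul, Units.val_pow_eq_pow_val,
          val_unitCl, val_unitCl]) hnN]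
    simp only [Ψ, Polynomial.eval_mul, Polynomial.eval_C, Polynomial.eval_comp, Polynomial.eval_sub, Polynomial.eval_X]
    congr 2
    push_cast
    ring
  have hno : ∀ t : ℝ, 0 ≤ t → t ≤ e → (Ψ.map (algebraMap ℚ ℝ)).eval t ≠ 0 := fun t h1 h2 h => by
    simp only [Ψ, Polynomial.map_mul, Polynomial.map_C, Polynomial.map_comp, Polynomial.map_sub, Polynomial.map_X,
      Polynomial.eval_mul, Polynomial.eval_C, Polynomial.eval_comp, Polynomial.eval_sub, Polynomial.eval_X,
      Polynomial.map_pow, Polynomial.map_natCast, Polynomial.eval_pow, Polynomial.eval_natCast,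
      map_pow, map_natCast, map_div₀, map_one, mul_eq_zero] at h
    refine (h.resolve_left (pow_ne_zero _ hn0.ne') |> hball ?_)
    have h3 : (e : ℝ) ≤ D := Nat.cast_le.2 he
    rw [div_lt_iff₀ hδ] at hn
    rw [Metric.mem_ball, Real.dist_eq, sub_zero, mul_one_div, abs_div, Nat.abs_cast, div_lt_iff₀ hn0, abs_lt]
    constructor <;> nlinarith
  obtain ⟨i, hi, hi'⟩ := exists_concentrated hNi (fun h0 => hno 0 le_rfl (Nat.cast_nonneg _) (by
    have h3 := hΨ 0
    rw [Nat.cast_zero, ← chiCl_cl, PicMul.cl_tensor, PicMul.cl_tensorPow, pow_zero, _root_.mul_one, chiCl_cl,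
      h0, Int.cast_zero] at h3
    have h4 := congrArg (algebraMap ℚ ℝ) h3
    rwa [← Polynomial.eval_map_apply, map_zero] at h4))
  have e1 := (index_card hNi hQ 0 (M := N) (by rw [pow_zero, _root_.mul_one]) hi hi' Ψ hΨ).2
  have e2 := (index_card hNi hQ e (M := CohB1.tensorPow P n) (by rw [hN, PicMul.cl_tensorPow]) hv hn' Ψ hΨ).2
  suffices i = I by rwa [← this]
  rw [e1, e2]
  refine congrArg Multiset.card (Multiset.filter_congr fun r hr => ?_)
  have hr0 := (Polynomial.mem_roots'.1 hr).2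
  simp only [Nat.cast_zero]
  exact ⟨fun h => lt_of_not_ge fun h1 => hno r h.le h1 hr0, fun h => lt_of_le_of_lt (Nat.cast_nonneg _) h⟩

/-- Subadditivity of the index. -/
theorem index_tensor_le {L₁ L₂ M : A.left.Modules} (hL₁ : PicF.IsInvertible L₁) (hL₂ : PicF.IsInvertible L₂)
    (hM : PicF.cl M = PicF.cl L₁ * PicF.cl L₂) {i₁ i₂ i : ℕ}
    (h₁ : ∀ j, j ≠ i₁ → Subsingleton (Coh.HH A.left L₁ j)) (h₁' : ¬ Subsingleton (Coh.HH A.left L₁ i₁))
    (h₂ : ∀ j, j ≠ i₂ → Subsingleton (Coh.HH A.left L₂ j)) (h₂' : ¬ Subsingleton (Coh.HH A.left L₂ i₂))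
    (h : ∀ j, j ≠ i → Subsingleton (Coh.HH A.left M j)) (h' : ¬ Subsingleton (Coh.HH A.left M i)) :
    i ≤ i₁ + i₂ := by
  haveI := MaxAbelian.geometricallyIntegral_tensor A A
  haveI : IsProper (A ⊗ A).hom := inferInstance
  letI : (A ⊗ A).left.Over (Spec (CommRingCat.of k)) := ⟨(A ⊗ A).hom⟩
  haveI : IsProper ((A ⊗ A).left ↘ Spec (CommRingCat.of k)) := inferInstanceAs (IsProper (A ⊗ A).hom)
  haveI := CurveCohLib.isNoetherian_of_proper (k := k) (X := (A ⊗ A).left)
  haveI : IsSeparated A.hom := inferInstance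
  let d : A ⟶ A ⊗ A := lift (𝟙 A) (𝟙 A)
  haveI : IsClosedImmersion d.left := inferInstanceAs (IsClosedImmersion (pullback.diagonal A.hom))
  obtain ⟨hbox, hbox'⟩ := index_box hL₁ h₁ h₁' hL₂ h₂ h₂'
  let P := CohB1.tensorMod ((Scheme.Modules.pullback (fst A A).left).obj L₁)
    ((Scheme.Modules.pullback (snd A A).left).obj L₂)
  have hP : PicF.IsInvertible P :=
    PicMul.isInvertible_tensor (PicClLib.isInvertible_pullback _ hL₁) (PicClLib.isInvertible_pullback _ hL₂)
  obtain ⟨Q, hQ⟩ := AVProj.exists_isAmple (X := A ⊗ A)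
  obtain ⟨c, ⟨N, rfl, hN⟩, hQN⟩ := AVPair.exists_inv ⟨Q, rfl, hQ.1⟩
  have hinv : ClSub.IsInverseOf N Q := PicMul.cl_eq_iff.1 (by rw [PicMul.cl_tensor, _root_.mul_comm, hQN]; rfl)
  let F := (Coh.push d.left).obj (Coh.structureModule A.left)
  obtain ⟨D, hD⟩ := exists_amplitude k hQ hinv (i₁ + i₂) F (QCoh.isCoh_push_structure d.left)
  obtain ⟨n, hn, htw⟩ := exists_twist_index hP hQ hbox hbox' D
  have hPn := PicMul.isInvertible_tensorPow hP n
  have hF : ∀ j, i₁ + i₂ < j → Subsingleton (Coh.HH (A ⊗ A).left (CohB1.tensorMod F (CohB1.tensorPow P n)) j) :=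
    hD _ hPn fun e he j hj => htw e he _ (by
      rw [PicMul.cl_tensor, PicMul.cl_tensorPow, PicMul.cl_tensorPow, mul_right_comm, ← mul_pow,
        _root_.mul_comm (PicF.cl N), hQN, one_pow, _root_.one_mul]) j hj.ne'
  obtain ⟨eproj⟩ := IntNum47.nonempty_projIso d.left hPn (Coh.structureModule A.left)
  obtain ⟨hv, hn'⟩ := index_pow (L := M) (isInvertible_of_cl (hM ▸ PicMul.isInvertibleCl_mul ⟨_, rfl, hL₁⟩
    ⟨_, rfl, hL₂⟩)) h h' hn
  by_contra hlt
  refine hn' ?_
  have hpull : PicF.cl ((Scheme.Modules.pullback d.left).obj (CohB1.tensorPow P n)) = PicF.cl M ^ n := by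
    show pu d (PicF.cl (CohB1.tensorPow P n)) = _
    rw [PicMul.cl_tensorPow, map_pow, show PicF.cl P = pu (fst A A) (PicF.cl L₁) * pu (snd A A) (PicF.cl L₂) from
      PicMul.cl_tensor _ _, map_mul, pu_pu, pu_pu, lift_fst, lift_snd, pu_id, pu_id, hM]
  let G := (AmpleVan.tw ((Scheme.Modules.pullback d.left).obj (CohB1.tensorPow P n))).obj (Coh.structureModule A.left)
  have hG : PicF.cl G = PicF.cl M ^ n := by
    show PicF.cl (CohB1.tensorMod (Coh.structureModule A.left) _) = _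
    rw [PicMul.cl_tensor, ← PicMul.one_def, _root_.one_mul, hpull]
  have hGq : Coh.IsQCoh G := ProjUPX.isQCoh_of_isInvertible (isInvertible_of_cl (hG ▸ isInvertibleCl_pow
    (hM ▸ PicMul.isInvertibleCl_mul ⟨_, rfl, hL₁⟩ ⟨_, rfl, hL₂⟩) n))
  obtain ⟨eH⟩ := QCoh.HH_push_of_isAffineHom d.left hGq i
  haveI : Subsingleton (Coh.HH A.left G i) :=
    @Equiv.subsingleton _ _ eH.toEquiv (QCoh.subsingleton_HH_of_iso eproj i (hF i (by omega)))
  exact QCoh.subsingleton_HH_of_iso (PicMul.cl_eq_iff.1 (show PicF.cl G = PicF.cl (CohB1.tensorPow M n) by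
    rw [hG, PicMul.cl_tensorPow])).some i inferInstance

end Groth.Agent.AVIdx
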