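import Groth.Agent.AVIdx.NondegEuler
import Groth.Agent.AVIdx.FixedSub
import Groth.Agent.AVFac.Kernel
import Groth.Agent.AVFac.TateFree
import Groth.Agent.AVTate3.AbVar
import Groth.Agent.AVSupp.Fixing
import Groth.Agent.VarDim.Top

/-!
The kernel of a lift of `φ_L` on the Tate module and the stabilizer of a class.
-/

set_option linter.style.haveILetI false
set_option linter.unusedSectionVars false
set_option backward.isDefEq.respectTransparency false
set_option backward.isDefEq.respectTransparency.types false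

universe u

open CategoryTheory CategoryTheory.Limits MonoidalCategory CartesianMonoidalCategory MonObj GrpObj AlgebraicGeometry TopologicalSpace

noncomputable section

namespace Groth.Agent.AVIdx

open Groth.Agent Groth.Agent.H23 Groth.Agent.H23.TrivBasic Groth.Agent.InvX Groth.Agent.AVPair Groth.Agent.AVAmple
  Groth.Agent.AVCube
open scoped Groth.Agent.H23.PicMul

variable {k : Type u} [Field k] [IsAlgClosed k] {A : Over (Spec (CommRingCat.of k))}
  [GrpObj A] [IsCommMonObj A] [IsProper A.hom] [GeometricallyIntegral A.hom]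

/-- Finitely many translates of a subvariety filling a closed set. -/
theorem dim_eq_of_cover {S : Set A.left} (hS : IsClosed S) {B : Over (Spec (CommRingCat.of k))} (j : B ⟶ A)
    [IsClosedImmersion j.left] (hsub : Set.range j.left ⊆ S) (F : Finset (𝟙_ (Over (Spec (CommRingCat.of k))) ⟶ A))
    (hF : ∀ a, AVFac.ptOf a ∈ S → ∃ f ∈ F, ∃ b : 𝟙_ (Over (Spec (CommRingCat.of k))) ⟶ B, a = f * (b ≫ j)) :
    topologicalKrullDim S = topologicalKrullDim B.left := by
  haveI : JacobsonSpace A.left := LocallyOfFiniteType.jacobsonSpace A.hom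
  refine le_antisymm ?_ ((j.left.isClosedEmbedding.toIsEmbedding.codRestrict S fun x => hsub ⟨x, rfl⟩).toIsInducing.topologicalKrullDim_le)
  let g : (𝟙_ (Over (Spec (CommRingCat.of k))) ⟶ A) → (B ⟶ A) := fun f => j ≫ tr f
  have hg : ∀ f, IsClosedImmersion (g f).left := fun f => by
    rw [show (g f).left = j.left ≫ (tr f).left from rfl]
    infer_instance
  have hsub' : S ⊆ ⋃ f ∈ F, Set.range (g f).left := by
    rw [← hS.closure_eq, ← JacobsonSpace.closure_inter_closedPoints_eq_closure hS.isLocallyClosed]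
    refine closure_minimal ?_ (isClosed_biUnion_finset fun f _ => (g f).left.isClosedEmbedding.isClosed_range)
    rintro x ⟨hxS, hx⟩
    obtain ⟨a, rfl⟩ := exists_pt (mem_closedPoints_iff.1 hx)
    obtain ⟨f, hf, b, rfl⟩ := hF a hxS
    refine Set.mem_biUnion hf ⟨AVFac.ptOf b, ?_⟩
    show AVFac.ptOf (b ≫ j ≫ tr f) = _
    rw [← Category.assoc, comp_tr, unit_comp, _root_.mul_comm]
    rfl
  rw [VarDim.topologicalKrullDim_set_eq_iSup_deg A.hom hS]
  refine iSup_le fun z => ?_
  obtain ⟨f, -, hz⟩ := Set.mem_iUnion₂.1 (hsub' z.2)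
  haveI := hg f
  refine le_trans (le_trans ?_ (le_of_eq (VarDim.topologicalKrullDim_set_eq_iSup_deg A.hom
    (g f).left.isClosedEmbedding.isClosed_range).symm)) ((g f).left.isClosedEmbedding.toIsEmbedding.toHomeomorph.isHomeomorph.topologicalKrullDim_eq.ge)
  exact le_iSup_of_le ⟨z.1, hz⟩ le_rfl

variable {L H : A.left.Modules} (hL : PicF.IsInvertible L) (hHa : CohB1.IsAmple H)

include hL hHa in
/-- The kernel of a lift of `φ_L` on the Tate module, and the dimension of the stabilizer. -/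
theorem exists_ker_tate {S : Set A.left} (hS : IsClosed S)
    (hmem : ∀ a : 𝟙_ (Over (Spec (CommRingCat.of k))) ⟶ A,
      AVFac.ptOf a ∈ S ↔ pl (𝟙 A * (toUnit A ≫ a)) (PicF.cl L) = PicF.cl L)
    {N : ℕ} (hN : 0 < N) (ψ : EndAV.End A)
    (hψ : PairE.pair hHa.1 (fst A A) (snd A A ≫ ψ.toHom) = PairE.pair hL (fst A A) (snd A A) ^ N)
    (l : ℕ) [Fact l.Prime] (hl : (l : k) ≠ 0) :
    ∃ b : ℕ, topologicalKrullDim S = b ∧
      (∀ x, EndAV.End.tateRep l (𝟙_ (Over (Spec (CommRingCat.of k)))) ψ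
          (EndAV.End.tateRep l (𝟙_ (Over (Spec (CommRingCat.of k)))) ψ x) = 0 →
        EndAV.End.tateRep l (𝟙_ (Over (Spec (CommRingCat.of k)))) ψ x = 0) ∧
      Module.finrank ℤ_[l] (LinearMap.ker (EndAV.End.tateRep l (𝟙_ (Over (Spec (CommRingCat.of k)))) ψ)) = 2 * b := by
  classical
  let G := fixing (A := A) (c := PicF.cl L) ⟨L, rfl, hL⟩
  have hG : ∀ a, AVFac.ptOf a ∈ S ↔ a ∈ G := fun a => hmem a
  have hsg : AVFac.IsSubgroupSet S :=
    ⟨hS, (hG _).2 (by rw [AVFac.eta_eq_one]; exact G.one_mem), fun a b ha hb => (hG _).2 (G.mul_mem ((hG a).1 ha) ((hG b).1 hb)),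
      fun a ha => (hG _).2 (G.inv_mem ((hG a).1 ha))⟩
  obtain ⟨B, _, j, _, _, _, _, hsub, F, hF⟩ := AVFac.exists_abelian_finite_index hsg
  haveI : IsCommMonObj B := isCommMonObj_of_isProper_of_geometricallyIntegral B
  haveI : Mono j := by
    haveI : Mono j.left := inferInstance
    exact Over.mono_of_mono_left j
  obtain ⟨b, hb⟩ := exists_dim_av B
  refine ⟨b, (dim_eq_of_cover hS j hsub F hF).trans hb, ?_⟩
  have hjS : ∀ v : 𝟙_ (Over (Spec (CommRingCat.of k))) ⟶ B, AVFac.ptOf (v ≫ j) ∈ S :=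
    fun v => hsub ⟨AVFac.ptOf v, rfl⟩
  -- the pairing of `L` kills `B`
  have h0 : PairE.pair hL (fst A B) (snd A B ≫ j) = 1 := by
    have h1 := pl_mul_eq j (c := PicF.cl L) ⟨L, rfl, hL⟩ fun v => (hmem _).1 (hjS v)
    rw [PairE.pair, div_eq_one]
    exact Units.ext (by rw [Units.val_mul, val_pc', val_pc', val_pc']; exact h1)
  have hLj : ∀ {T : Over (Spec (CommRingCat.of k))} (u : T ⟶ A) (v : T ⟶ B), PairE.pair hL u (v ≫ j) = 1 := by
    intro T u v
    have h1 := congrArg (Units.map (PicMul.pullHom (lift u v).left : PicF.Cl (A ⊗ B).left →* PicF.Cl T.left)) h0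
    rwa [map_one, PairE.pull_pair, lift_fst, lift_snd_assoc] at h1
  have hψ' : ∀ (T : Over (Spec (CommRingCat.of k))) (u v : T ⟶ A),
      PairE.pair hHa.1 u (v ≫ ψ.toHom) = PairE.pair hL u v ^ N := fun T u v => by
    have h := congrArg (Units.map (PicMul.pullHom (lift u v).left : PicF.Cl (A ⊗ A).left →* PicF.Cl T.left)) hψ
    rwa [map_pow, PairE.pull_pair, PairE.pull_pair, lift_fst, lift_snd_assoc, lift_snd] at h
  -- `ψ` kills `B`
  let GH := fixing (A := A) (c := PicF.cl H) ⟨H, rfl, hHa.1⟩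
  have hGHfin : (GH : Set (𝟙_ (Over (Spec (CommRingCat.of k))) ⟶ A)).Finite :=
    (AVPhi.finite_fixing_of_ample hHa).subset fun a ha => (AVPhi.nonempty_iso_iff _).2 ha
  haveI : Finite GH := hGHfin.to_subtype
  have hjψ : ∀ v : 𝟙_ (Over (Spec (CommRingCat.of k))) ⟶ B, v ≫ j ≫ ψ.toHom = 1 := by
    intro v
    obtain ⟨w, hw⟩ := AVFac.exists_pow_eq (A := B) (Nat.card_pos (α := GH)) v
    have hmemH : w ≫ j ≫ ψ.toHom ∈ GH := by
      refine (pl_tr_eq_iff hHa.1 _).2 ?_
      have h := hψ' A (𝟙 A) ((toUnit A ≫ w) ≫ j)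
      rw [hLj, one_pow] at h
      simpa only [Category.assoc] using h
    rw [← hw, MonObj.pow_comp]
    exact congrArg Subtype.val (pow_card_eq_one' (x := (⟨_, hmemH⟩ : GH)))
  -- the kernel of `ψ` on points
  let G1 : Subgroup (𝟙_ (Over (Spec (CommRingCat.of k))) ⟶ A) :=
    (MonoidHom.mk' (fun a => a ≫ ψ.toHom) fun a c => MonObj.mul_comp a c ψ.toHom).ker
  have hG1 : ∀ a, a ∈ G1 → AVFac.ptOf (a ^ N) ∈ S := by
    intro a ha
    refine (hG _).2 ((pl_tr_eq_iff hL _).2 ?_)
    have h := pair_point_of_rel hL hHa.1 N ψ.toHom hψ a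
    rw [show a ≫ ψ.toHom = 1 from ha, MonObj.comp_one, PairE.pair_one_right] at h
    rw [MonObj.comp_pow, PairE.pair_pow_right]
    exact h.symm
  obtain ⟨m, hm, hmG⟩ : ∃ m : ℕ, 0 < m ∧ ∀ a, a ∈ G1 →
      ∃ v : 𝟙_ (Over (Spec (CommRingCat.of k))) ⟶ B, v ≫ j = a ^ m := by
    let G0 : Subgroup (𝟙_ (Over (Spec (CommRingCat.of k))) ⟶ A) :=
      (MonoidHom.mk' (fun v : 𝟙_ (Over (Spec (CommRingCat.of k))) ⟶ B => v ≫ j) fun a c => MonObj.mul_comp a c j).range
    have hF' := finite_roots (A := A) hN F.finite_toSet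
    let G' := G0.subgroupOf G1
    haveI : Finite (G1 ⧸ G') := by
      refine Set.finite_univ_iff.1 (((hF'.preimage Subtype.val_injective.injOn :
        (Subtype.val ⁻¹' _ : Set G1).Finite).image (fun a : G1 => (a : G1 ⧸ G'))).subset ?_)
      intro q _
      induction q using QuotientGroup.induction_on with
      | H a =>
        obtain ⟨f, hf, v, hv⟩ := hF _ (hG1 a.1 a.2)
        obtain ⟨w, hw⟩ := AVFac.exists_pow_eq (A := B) hN v
        have hwk : w ≫ j ∈ G1 := by
          show (w ≫ j) ≫ ψ.toHom = 1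
          rw [Category.assoc, hjψ]
        refine ⟨a * (⟨w ≫ j, hwk⟩ : G1)⁻¹, ?_, ?_⟩
        · show ((a : 𝟙_ (Over (Spec (CommRingCat.of k))) ⟶ A) * (w ≫ j)⁻¹) ^ N ∈ F
          rw [mul_pow, inv_pow, hv, ← MonObj.pow_comp, hw, mul_inv_cancel_right]
          exact hf
        · refine (QuotientGroup.eq (s := G')).2 ?_
          rw [_root_.mul_inv_rev, _root_.inv_inv, inv_mul_cancel_right]
          exact ⟨w, rfl⟩
    haveI : G'.FiniteIndex := Subgroup.finiteIndex_of_finite_quotient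
    refine ⟨G'.index, Nat.pos_of_ne_zero Subgroup.FiniteIndex.index_ne_zero, fun a ha => ?_⟩
    exact Subgroup.pow_index_mem G' (⟨a, ha⟩ : G1)
  -- Tate modules
  let T := 𝟙_ (Over (Spec (CommRingCat.of k)))
  let J : AbDual.TateMod B l T →ₗ[ℤ_[l]] AbDual.TateMod A l T := AbDual.tateMapₗ j
  let t : Module.End ℤ_[l] (AbDual.TateMod A l T) := EndAV.End.tateRep l T ψ
  have hJ : Function.Injective J := (AVTate3.tateMap_saturated (l := l) (T := T) j).1
  obtain ⟨eA⟩ : Nonempty _ := AVFac.tateMod_free (A := A) hl (exists_dim_av A).choose_spec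
  obtain ⟨eB⟩ := AVFac.tateMod_free (A := B) hl hb
  haveI := Module.Free.of_equiv eA
  haveI := Module.Finite.equiv eA
  haveI := Module.Free.of_equiv eB
  haveI := Module.Finite.equiv eB
  have htJ : ∀ z, t (J z) = 0 := fun z => AbDual.TateMod.ext fun n =>
    congrArg Additive.ofMul ((Category.assoc _ j ψ.toHom).trans (hjψ _))
  have hdiv : ∀ x : AbDual.TateMod A l T, t x = 0 → (m : ℤ_[l]) • x ∈ LinearMap.range J := by
    intro x hx
    have hxk : ∀ n, ((x : ℕ → Additive (T ⟶ A)) n).toMul ∈ G1 := fun n =>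
      congrArg (fun y : AbDual.TateMod A l T => ((y : ℕ → Additive (T ⟶ A)) n).toMul) hx
    choose v hv using fun n => hmG _ (hxk n)
    have hinj : Function.Injective fun w : T ⟶ B => w ≫ j := fun a c h => (cancel_mono j).1 h
    refine ⟨⟨fun n => Additive.ofMul (v n), fun n => ?_, fun n => ?_⟩, AbDual.TateMod.ext fun n => ?_⟩
    · refine Additive.toMul.injective (hinj ?_)
      show (v n ^ l ^ n) ≫ j = 1 ≫ j
      rw [MonObj.pow_comp, hv, ← pow_mul, _root_.mul_comm, pow_mul, MonObj.one_comp,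
        show ((x : ℕ → Additive (T ⟶ A)) n).toMul ^ l ^ n = 1 from x.component_mem n, one_pow]
    · refine Additive.toMul.injective (hinj ?_)
      show (v (n + 1) ^ l) ≫ j = v n ≫ j
      rw [MonObj.pow_comp, hv, hv, ← pow_mul, _root_.mul_comm, pow_mul,
        show ((x : ℕ → Additive (T ⟶ A)) (n + 1)).toMul ^ l = _ from congrArg Additive.toMul (x.compat n)]
    · rw [Nat.cast_smul_eq_nsmul]
      exact congrArg Additive.ofMul (hv n)
  have hmK : (m : ℤ_[l]) ≠ 0 := Nat.cast_ne_zero.2 hm.ne'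
  refine ⟨fun x hx => ?_, ?_⟩
  · -- the image of `ψ` meets `B` in the finite stabilizer of `H|_B`
    obtain ⟨z, hz⟩ := hdiv (t x) hx
    have hB : CohB1.IsAmple ((Scheme.Modules.pullback j.left).obj H) := AVSupp.isAmple_pullback A.hom j.left hHa
    let GB := fixing (A := B) (c := PicF.cl ((Scheme.Modules.pullback j.left).obj H)) ⟨_, rfl, hB.1⟩
    have hGBfin : (GB : Set (𝟙_ (Over (Spec (CommRingCat.of k))) ⟶ B)).Finite :=
      (AVPhi.finite_fixing_of_ample hB).subset fun a ha => (AVPhi.nonempty_iso_iff _).2 ha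
    haveI : Finite GB := hGBfin.to_subtype
    have hz0 : ∀ n, ((z : ℕ → Additive (T ⟶ B)) n).toMul ∈ GB := by
      intro n
      let a : T ⟶ A := ((x : ℕ → Additive (T ⟶ A)) n).toMul
      have hzn : ((z : ℕ → Additive (T ⟶ B)) n).toMul ≫ j = (a ^ m) ≫ ψ.toHom := by
        have h1 := congrArg (fun y : AbDual.TateMod A l T => ((y : ℕ → Additive (T ⟶ A)) n).toMul) hz
        rw [Nat.cast_smul_eq_nsmul] at h1
        exact h1.trans (MonObj.pow_comp a m ψ.toHom).symm
      refine (pl_tr_eq_iff hB.1 _).2 (Units.ext ?_)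
      have h2 := hψ' B j (toUnit B ≫ a ^ m)
      rw [Category.assoc, ← hzn, PairE.pair_comm hL, ← Category.id_comp j, hLj, one_pow] at h2
      have h3 : ∀ {U : Over (Spec (CommRingCat.of k))} (p : U ⟶ B), pc hB.1 p = pc hHa.1 (p ≫ j) := fun p =>
        Units.ext (by rw [val_pc', val_pc']; exact pl_pl p j (PicF.cl H))
      refine congrArg Units.val (Eq.trans ?_ h2)
      rw [Category.id_comp]
      simp only [PairE.pair, h3, MonObj.mul_comp, Category.id_comp, Category.assoc]
    have hz1 : (Nat.card GB : ℤ_[l]) • z = 0 := AbDual.TateMod.ext fun n => by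
      rw [Nat.cast_smul_eq_nsmul]
      exact congrArg Additive.ofMul (congrArg Subtype.val (pow_card_eq_one' (x := (⟨_, hz0 n⟩ : GB))))
    rcases smul_eq_zero.1 hz1 with h | h
    · exact absurd h (Nat.cast_ne_zero.2 Nat.card_pos.ne')
    · rw [h, map_zero] at hz
      exact (smul_eq_zero.1 hz.symm).resolve_left hmK
  · have h1 : LinearMap.range J ≤ LinearMap.ker t := by
      rintro _ ⟨z, rfl⟩
      exact htJ z
    have h2 : Module.finrank ℤ_[l] (LinearMap.ker t) ≤ Module.finrank ℤ_[l] (LinearMap.range J) := by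
      let mf : LinearMap.ker t →ₗ[ℤ_[l]] LinearMap.range J :=
        LinearMap.codRestrict _ ((m : ℤ_[l]) • (LinearMap.ker t).subtype) fun x => hdiv x.1 x.2
      refine LinearMap.finrank_le_finrank_of_injective (f := mf) fun a c h => Subtype.ext ?_
      exact smul_right_injective _ hmK (congrArg Subtype.val h)
    rw [le_antisymm h2 (Submodule.finrank_mono h1), LinearMap.finrank_range_of_inj hJ, ← eB.finrank_eq,
      Module.finrank_fin_fun]

end Groth.Agent.AVIdx
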