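import Groth.Agent.AVPhi.Leray

/-!
Vanishing read off from the terms of the Leray spectral sequence.
-/

set_option linter.style.haveILetI false
set_option linter.unusedSectionVars false
set_option backward.isDefEq.respectTransparency false
set_option backward.isDefEq.respectTransparency.types false
set_option autoImplicit false

universe u

open CategoryTheory CategoryTheory.Limits CategoryTheory.Abelian AlgebraicGeometry TopologicalSpace Opposite

namespace Groth.Agent.AVIdx

variable {X : Scheme.{u}} {S : ShortComplex X.Modules}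

theorem subsingleton_HH_X₁ (hS : S.ShortExact) (n : ℕ) (h₃ : Subsingleton (Coh.HH X S.X₃ n))
    (h₂ : Subsingleton (Coh.HH X S.X₂ (n + 1))) : Subsingleton (Coh.HH X S.X₁ (n + 1)) := by
  have hT := QCoh.toAb_shortExact hS
  refine subsingleton_of_forall_eq 0 fun x => ?_
  obtain ⟨y, hy⟩ := Ext.covariant_sequence_exact₁ _ hT x (h₂.elim _ _) (rfl : n + 1 = n + 1)
  rw [← hy, h₃.elim y 0]
  exact Ext.zero_comp _ _ _ _ _

theorem subsingleton_HH_one_of_surjective (hS : S.ShortExact) (hg : Function.Surjective (S.g.app ⊤))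
    (h₂ : Subsingleton (Coh.HH X S.X₂ 1)) : Subsingleton (Coh.HH X S.X₁ 1) := by
  let T := S.map (QCoh.toAbFunctor X)
  have hT : T.ShortExact := QCoh.toAb_shortExact hS
  refine subsingleton_of_forall_eq 0 fun x => ?_
  obtain ⟨y, hy⟩ := Ext.covariant_sequence_exact₁ _ hT x (h₂.elim _ _) (zero_add 1)
  obtain ⟨z, hz⟩ := hg (Sheaf.H.equiv₀ T.X₃ isTerminalTop y)
  have e : Sheaf.H.map T.g 0 ((Sheaf.H.equiv₀ T.X₂ isTerminalTop).symm z) = y := by
    apply (Sheaf.H.equiv₀ T.X₃ isTerminalTop).injective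
    refine (Sheaf.H.equiv₀_naturality isTerminalTop T.g _).symm.trans ?_
    rw [AddEquiv.apply_symm_apply]
    exact hz
  rw [← hy, ← e]
  show ((Ext.comp _ (Ext.mk₀ T.g) (add_zero 0)).comp hT.extClass (zero_add 1)) = 0
  rw [Ext.comp_assoc_of_second_deg_zero, hT.comp_extClass, Ext.comp_zero]

theorem exists_app_top_eq (hS : S.ShortExact) (z : Γ(S.X₂, ⊤)) (hz : S.g.app ⊤ z = 0) :
    ∃ y : Γ(S.X₁, ⊤), S.f.app ⊤ y = z := by
  let T := S.map (QCoh.toAbFunctor X)
  have hT : T.ShortExact := QCoh.toAb_shortExact hS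
  obtain ⟨y, hy⟩ := Ext.covariant_sequence_exact₂ _ hT ((Sheaf.H.equiv₀ T.X₂ isTerminalTop).symm z) (by
    apply (Sheaf.H.equiv₀ T.X₃ isTerminalTop).injective
    refine (Sheaf.H.equiv₀_naturality isTerminalTop T.g _).symm.trans ?_
    rw [AddEquiv.apply_symm_apply, map_zero]
    exact hz)
  refine ⟨Sheaf.H.equiv₀ T.X₁ isTerminalTop y, ?_⟩
  refine (Sheaf.H.equiv₀_naturality isTerminalTop T.f y).trans ?_
  rw [show Sheaf.H.map T.f 0 y = _ from hy]
  exact AddEquiv.apply_symm_apply _ _

theorem app_top_injective (hS : S.ShortExact) : Function.Injective (S.f.app ⊤) := by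
  haveI := hS.mono_f
  haveI : Mono ((Scheme.Modules.toPresheaf X).map S.f) := inferInstance
  haveI : Mono (((Scheme.Modules.toPresheaf X).map S.f).app (op ⊤)) := inferInstance
  exact (AddCommGrpCat.mono_iff_injective (((Scheme.Modules.toPresheaf X).map S.f).app (op ⊤))).1 inferInstance

theorem subsingleton_sections_of_HH {M : X.Modules} (h : Subsingleton (Coh.HH X M 0)) : Subsingleton Γ(M, ⊤) :=
  @Equiv.subsingleton _ _ (Sheaf.H.equiv₀ (Coh.toAb M) isTerminalTop).symm.toEquiv h

theorem subsingleton_HH_zero_of_sections {M : X.Modules} (h : Subsingleton Γ(M, ⊤)) : Subsingleton (Coh.HH X M 0) :=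
  @Equiv.subsingleton _ _ (Sheaf.H.equiv₀ (Coh.toAb M) isTerminalTop).toEquiv h

variable {Y : Scheme.{u}} (f : X ⟶ Y) [HasInjectiveResolutions X.Modules]

/-- The data of one step of dimension shifting along `f`. -/
structure Shift (G : X.Modules) where
  I : X.Modules
  G' : X.Modules
  i : G ⟶ I
  g : I ⟶ G'
  zero : i ≫ g = 0
  hS : (ShortComplex.mk i g zero).ShortExact
  acyclic : ∀ n, Subsingleton (Coh.HH X I (n + 1))
  Q : Y.Modules
  e : (Scheme.Modules.pushforward f).obj I ⟶ Q
  m : Q ⟶ (Scheme.Modules.pushforward f).obj G'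
  fac : e ≫ m = (Scheme.Modules.pushforward f).map g
  zero₁ : (Scheme.Modules.pushforward f).map i ≫ e = 0
  hS₁ : (ShortComplex.mk _ e zero₁).ShortExact
  C : Y.Modules
  π : (Scheme.Modules.pushforward f).obj G' ⟶ C
  zero₂ : m ≫ π = 0
  hS₂ : (ShortComplex.mk m π zero₂).ShortExact
  push_acyclic : ∀ n, Subsingleton (Coh.HH Y ((Scheme.Modules.pushforward f).obj I) (n + 1))
  e₁ : (Coh.Rpush f 1).obj G ≅ C
  esh : ∀ q, (Coh.Rpush f (q + 1)).obj G' ≅ (Coh.Rpush f (q + 2)).obj G

theorem nonempty_shift (G : X.Modules) : Nonempty (Shift f G) := by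
  haveI := SpObjSS.enoughInjectives_of_hasInjectiveResolutions (C := X.Modules)
  haveI := QCoh.preservesFiniteLimits_push f
  let F := Scheme.Modules.pushforward f
  let S := ShortComplex.mk (Injective.ι G) (cokernel.π (Injective.ι G)) (cokernel.condition _)
  have hS : S.ShortExact := { exact := ShortComplex.exact_of_g_is_cokernel _ (cokernelIsCokernel _) }
  haveI : Injective S.X₂ := inferInstanceAs (Injective (Injective.under G))
  have hfl := QCoh.isFlasqueMod_of_injective S.X₂
  have hI : ∀ q : ℕ, IsZero ((Coh.Rpush f (q + 1)).obj S.X₂) := fun q =>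
    F.isZero_rightDerived_obj_injective_succ q _
  haveI : Mono S.f := hS.mono_f
  let b := F.map S.g
  have hex : (ShortComplex.mk (F.map S.f) b (by rw [← F.map_comp, S.zero, F.map_zero])).Exact :=
    (S.map F).exact_of_f_is_kernel (isLimitForkMapOfIsLimit' F S.zero hS.fIsKernel)
  have w : F.map S.f ≫ Abelian.factorThruImage b = 0 := by
    rw [← cancel_mono (Abelian.image.ι b), Category.assoc, Abelian.image.fac, zero_comp, ← F.map_comp, S.zero,
      F.map_zero]
  have hS₁ : (ShortComplex.mk (F.map S.f) (Abelian.factorThruImage b) w).ShortExact := by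
    refine { exact := ?_, mono_f := inferInstance, epi_g := inferInstance }
    let φ : ShortComplex.mk (F.map S.f) (Abelian.factorThruImage b) w ⟶
        ShortComplex.mk (F.map S.f) b (by rw [← F.map_comp, S.zero, F.map_zero]) :=
      { τ₁ := 𝟙 _, τ₂ := 𝟙 _, τ₃ := Abelian.image.ι b, comm₁₂ := by simp, comm₂₃ := by simp }
    haveI : Epi φ.τ₁ := inferInstanceAs (Epi (𝟙 _))
    haveI : IsIso φ.τ₂ := inferInstanceAs (IsIso (𝟙 _))
    haveI : Mono φ.τ₃ := inferInstanceAs (Mono (Abelian.image.ι b))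
    exact (ShortComplex.exact_iff_of_epi_of_isIso_of_mono φ).2 hex
  exact ⟨{
    I := S.X₂, G' := S.X₃, i := S.f, g := S.g, zero := S.zero, hS := hS
    acyclic := fun n => CExt24.subsingleton_HH_of_flasque _ hfl n
    Q := Abelian.image b, e := Abelian.factorThruImage b, m := Abelian.image.ι b
    fac := Abelian.image.fac b, zero₁ := w, hS₁ := hS₁
    C := cokernel b, π := cokernel.π b, zero₂ := kernel.condition _
    hS₂ := { exact := ShortComplex.exact_of_f_is_kernel _ (kernelIsKernel _) }
    push_acyclic := fun n => CExt24.subsingleton_HH_of_flasque _ (CExt24.isFlasqueMod_push f _ hfl) n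
    e₁ := (QCoh.nonempty_R1_iso F hS (hI 0)).some
    esh := fun q => (QCoh.nonempty_shift_iso F hS q (hI q) (hI (q + 1))).some }⟩

theorem subsingleton_HH_R0_iff (G : X.Modules) (a : ℕ) :
    Subsingleton (Coh.HH Y ((Coh.Rpush f 0).obj G) a) ↔
      Subsingleton (Coh.HH Y ((Scheme.Modules.pushforward f).obj G) a) := by
  haveI := SpObjSS.enoughInjectives_of_hasInjectiveResolutions (C := X.Modules)
  haveI := QCoh.preservesFiniteLimits_push f
  exact ⟨QCoh.subsingleton_HH_of_iso ((Scheme.Modules.pushforward f).rightDerivedZeroIsoSelf.app G) a,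
    QCoh.subsingleton_HH_of_iso ((Scheme.Modules.pushforward f).rightDerivedZeroIsoSelf.app G).symm a⟩

/-- No terms in total degree `n` kill the cohomology in degree `n`. -/
theorem subsingleton_HH_of_terms (n : ℕ) (G : X.Modules)
    (h : ∀ a b, a + b = n → Subsingleton (Coh.HH Y ((Coh.Rpush f b).obj G) a)) : Subsingleton (Coh.HH X G n) := by
  induction n generalizing G with
  | zero =>
    have h0 := subsingleton_sections_of_HH ((subsingleton_HH_R0_iff f G 0).1 (h 0 0 rfl))
    exact subsingleton_HH_zero_of_sections h0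
  | succ n ih =>
    obtain ⟨D⟩ := nonempty_shift f G
    have hFG := (subsingleton_HH_R0_iff f G (n + 1)).1 (h (n + 1) 0 rfl)
    have hC : Subsingleton (Coh.HH Y D.C n) := QCoh.subsingleton_HH_of_iso D.e₁ n (h n 1 rfl)
    cases n with
    | zero =>
      refine subsingleton_HH_one_of_surjective D.hS (fun z => ?_) (D.acyclic 0)
      obtain ⟨y, hy⟩ := exists_app_top_eq D.hS₂ z ((subsingleton_sections_of_HH hC).elim _ _)
      obtain ⟨x, hx⟩ := QCoh.app_top_surjective_of_HH_one D.hS₁ hFG y
      refine ⟨x, ?_⟩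
      rw [← hy, ← hx]
      exact congr(($(D.fac.symm)).app ⊤ x)
    | succ n =>
      have hQ : Subsingleton (Coh.HH Y D.Q (n + 1)) := AVPhi.subsingleton_HH_X₃ D.hS₁ (n + 1) (D.push_acyclic n)
        (by exact (subsingleton_HH_R0_iff f G (n + 2)).1 (h (n + 2) 0 rfl))
      refine subsingleton_HH_X₁ D.hS (n + 1) (ih D.G' fun a b hab => ?_) (D.acyclic (n + 1))
      cases b with
      | zero =>
        obtain rfl : a = n + 1 := by omega
        exact (subsingleton_HH_R0_iff f D.G' (n + 1)).2 (QCoh.subsingleton_HH_X₂ D.hS₂ (n + 1) hQ hC)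
      | succ b => exact QCoh.subsingleton_HH_of_iso (D.esh b).symm a (h a (b + 2) (by omega))

/-- The term in bidegree `(q, p)` vanishes with the cohomology in degree `p + q` when all the terms linked to it do. -/
theorem subsingleton_term_of_HH (n : ℕ) : ∀ (p q : ℕ) (G : X.Modules), p + q = n → Subsingleton (Coh.HH X G n) →
    (∀ a b, a + b + 1 = n → p < b → Subsingleton (Coh.HH Y ((Coh.Rpush f b).obj G) a)) →
    (∀ a b, a + b = n + 1 → b < p → Subsingleton (Coh.HH Y ((Coh.Rpush f b).obj G) a)) →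
    Subsingleton (Coh.HH Y ((Coh.Rpush f p).obj G) q) := by
  induction n with
  | zero =>
    intro p q G hpq hn _ _
    obtain ⟨rfl, rfl⟩ : p = 0 ∧ q = 0 := by omega
    exact (subsingleton_HH_R0_iff f G 0).2 (subsingleton_HH_zero_of_sections
      (by exact subsingleton_sections_of_HH hn : Subsingleton Γ(G, ⊤)))
  | succ n ih =>
    intro p q G hpq hn hin hout
    obtain ⟨D⟩ := nonempty_shift f G
    cases n with
    | zero =>
      have hsurj : Function.Surjective (D.g.app ⊤) := QCoh.app_top_surjective_of_HH_one D.hS hn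
      obtain ⟨rfl, rfl⟩ | ⟨rfl, rfl⟩ : (p = 0 ∧ q = 1) ∨ (p = 1 ∧ q = 0) := by omega
      · have hse : Function.Surjective (D.e.app ⊤) := fun y => by
          obtain ⟨x, hx⟩ := hsurj (D.m.app ⊤ y)
          refine ⟨x, app_top_injective (S := ShortComplex.mk D.m D.π D.zero₂) D.hS₂ ?_⟩
          show D.m.app ⊤ (D.e.app ⊤ x) = D.m.app ⊤ y
          have h1 := congr(($(D.fac)).app ⊤ x)
          exact h1.trans hx
        have hFG : Subsingleton (Coh.HH Y ((Scheme.Modules.pushforward f).obj G) 1) :=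
          subsingleton_HH_one_of_surjective (S := ShortComplex.mk _ D.e D.zero₁) D.hS₁ hse (D.push_acyclic 0)
        exact (subsingleton_HH_R0_iff f G 1).2 hFG
      · have hQ : Subsingleton (Coh.HH Y D.Q 1) := AVPhi.subsingleton_HH_X₃ D.hS₁ 1 (D.push_acyclic 0)
          ((subsingleton_HH_R0_iff f G 2).1 (hout 2 0 rfl one_pos))
        refine QCoh.subsingleton_HH_of_iso D.e₁.symm 0 (subsingleton_HH_zero_of_sections
          (subsingleton_of_forall_eq 0 fun z => ?_))
        obtain ⟨y, hy⟩ := QCoh.app_top_surjective_of_HH_one D.hS₂ hQ z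
        obtain ⟨x, hx⟩ := hsurj y
        rw [← hy]
        refine Eq.trans (congrArg (D.π.app ⊤) (hx.symm.trans (congr(($(D.fac.symm)).app ⊤ x)))) ?_
        exact congr(($(D.zero₂)).app ⊤ (D.e.app ⊤ x))
    | succ n =>
      have hn' : Subsingleton (Coh.HH X D.G' (n + 1)) := AVPhi.subsingleton_HH_X₃ D.hS (n + 1) (D.acyclic n) hn
      match p with
      | 0 =>
        obtain rfl : q = n + 2 := by omega
        have h' := ih 0 (n + 1) D.G' (zero_add _) hn' (fun a b hab hb => by
          obtain ⟨b, rfl⟩ : ∃ c, b = c + 1 := ⟨b - 1, by omega⟩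
          exact QCoh.subsingleton_HH_of_iso (D.esh b).symm a (hin a (b + 2) (by omega) (by omega)))
          (fun a b _ hb => absurd hb (Nat.not_lt_zero b))
        have hC : Subsingleton (Coh.HH Y D.C n) :=
          QCoh.subsingleton_HH_of_iso D.e₁ n (hin n 1 rfl one_pos)
        have hQ : Subsingleton (Coh.HH Y D.Q (n + 1)) :=
          subsingleton_HH_X₁ D.hS₂ n hC ((subsingleton_HH_R0_iff f D.G' (n + 1)).1 h')
        exact (subsingleton_HH_R0_iff f G (n + 2)).2 (subsingleton_HH_X₁ D.hS₁ (n + 1) hQ (D.push_acyclic (n + 1)))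
      | 1 =>
        obtain rfl : q = n + 1 := by omega
        have h' := ih 0 (n + 1) D.G' (zero_add _) hn' (fun a b hab hb => by
          obtain ⟨b, rfl⟩ : ∃ c, b = c + 1 := ⟨b - 1, by omega⟩
          exact QCoh.subsingleton_HH_of_iso (D.esh b).symm a (hin a (b + 2) (by omega) (by omega)))
          (fun a b _ hb => absurd hb (Nat.not_lt_zero b))
        have hQ : Subsingleton (Coh.HH Y D.Q (n + 2)) := AVPhi.subsingleton_HH_X₃ D.hS₁ (n + 2) (D.push_acyclic (n + 1))
          ((subsingleton_HH_R0_iff f G (n + 3)).1 (hout (n + 3) 0 rfl one_pos))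
        exact QCoh.subsingleton_HH_of_iso D.e₁.symm (n + 1)
          (AVPhi.subsingleton_HH_X₃ D.hS₂ (n + 1) ((subsingleton_HH_R0_iff f D.G' (n + 1)).1 h') hQ)
      | p + 2 =>
        refine QCoh.subsingleton_HH_of_iso (D.esh p) q (ih (p + 1) q D.G' (by omega) hn' (fun a b hab hb => ?_)
          (fun a b hab hb => ?_))
        · obtain ⟨b, rfl⟩ : ∃ c, b = c + 1 := ⟨b - 1, by omega⟩
          exact QCoh.subsingleton_HH_of_iso (D.esh b).symm a (hin a (b + 2) (by omega) (by omega))
        · cases b with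
          | succ b => exact QCoh.subsingleton_HH_of_iso (D.esh b).symm a (hout a (b + 2) (by omega) (by omega))
          | zero =>
            obtain rfl : a = n + 2 := by omega
            have hQ : Subsingleton (Coh.HH Y D.Q (n + 2)) := AVPhi.subsingleton_HH_X₃ D.hS₁ (n + 2)
              (D.push_acyclic (n + 1)) ((subsingleton_HH_R0_iff f G (n + 3)).1 (hout (n + 3) 0 rfl (by omega)))
            exact (subsingleton_HH_R0_iff f D.G' (n + 2)).2 (QCoh.subsingleton_HH_X₂ D.hS₂ (n + 2) hQ
              (QCoh.subsingleton_HH_of_iso D.e₁ (n + 2) (hout (n + 2) 1 rfl (by omega))))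

end Groth.Agent.AVIdx
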