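import Groth.Agent.AVIdx.PairE
import Groth.Agent.AVIdx.FixedSub
import Groth.Agent.AVPhi.Main
import Groth.Agent.AVFac.Kernel
import Groth.Agent.AVFac.Tate
import Groth.Agent.AVDeg3.Kernel
import Groth.Agent.AVIsog3.Basic

/-!
Lifting `x ↦ φ_L(x)` through a non-degenerate `φ_H` to an endomorphism, up to an integer.
-/

set_option linter.style.haveILetI false
set_option linter.unusedSectionVars false
set_option backward.isDefEq.respectTransparency false
set_option backward.isDefEq.respectTransparency.types false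

universe u

open CategoryTheory CategoryTheory.Limits MonoidalCategory CartesianMonoidalCategory MonObj GrpObj AlgebraicGeometry TopologicalSpace

noncomputable section

namespace Groth.Agent.AVIdx

open Groth.Agent Groth.Agent.H23 Groth.Agent.H23.TrivBasic Groth.Agent.AVPair Groth.Agent.AVCube
open scoped Groth.Agent.H23.PicMul

/-- A quotient of invertible unit classes is invertible. -/
theorem isInvertibleCl_div {X : Scheme.{u}} {u v : (PicF.Cl X)ˣ} (hu : PicF.IsInvertibleCl (u : PicF.Cl X))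
    (hv : PicF.IsInvertibleCl (v : PicF.Cl X)) : PicF.IsInvertibleCl ((u / v : (PicF.Cl X)ˣ) : PicF.Cl X) := by
  obtain ⟨d, hd, hvd⟩ := AVPair.exists_inv hv
  rw [div_eq_mul_inv, Units.val_mul, show ((v⁻¹ : (PicF.Cl X)ˣ) : PicF.Cl X) = d from Units.inv_eq_of_mul_eq_one_right hvd]
  exact PicMul.isInvertibleCl_mul hu hd

variable {k : Type u} [Field k] {A : Over (Spec (CommRingCat.of k))}
  {L H : A.left.Modules} (hL : PicF.IsInvertible L) (hH : PicF.IsInvertible H)

theorem PairE.isInvertibleCl_pair [GrpObj A] {T : Over (Spec (CommRingCat.of k))} (f g : T ⟶ A) :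
    PicF.IsInvertibleCl ((PairE.pair hL f g : (PicF.Cl T.left)ˣ) : PicF.Cl T.left) := by
  have h : ∀ v : T ⟶ A, PicF.IsInvertibleCl (pc hL v : PicF.Cl T.left) := fun v => by
    rw [val_pc']
    exact PicClLib.isInvertibleCl_pullCl v.left ⟨L, rfl, hL⟩
  refine isInvertibleCl_div (h _) ?_
  rw [Units.val_mul]
  exact PicMul.isInvertibleCl_mul (h f) (h g)

theorem isInvertibleCl_pow {X : Scheme.{u}} {c : PicF.Cl X} (hc : PicF.IsInvertibleCl c) (n : ℕ) :
    PicF.IsInvertibleCl (c ^ n) := by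
  obtain ⟨M, rfl, hM⟩ := hc
  exact ⟨_, PicMul.cl_tensorPow M n, PicMul.isInvertible_tensorPow hM n⟩

variable [GrpObj A] [IsProper A.hom] [GeometricallyIntegral A.hom]

theorem PairE.pair_const_id (a : 𝟙_ (Over (Spec (CommRingCat.of k))) ⟶ A) {T : Over (Spec (CommRingCat.of k))}
    (v : T ⟶ A) : Units.map (PicMul.pullHom v.left : PicF.Cl A.left →* PicF.Cl T.left)
      (PairE.pair hL (𝟙 A) (toUnit A ≫ a)) = PairE.pair hL v (toUnit T ≫ a) := by
  rw [PairE.pull_pair, Category.comp_id, comp_toUnit_assoc]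

variable [IsAlgClosed k]

theorem pl_tr_eq_iff (a : 𝟙_ (Over (Spec (CommRingCat.of k))) ⟶ A) :
    pl (𝟙 A * (toUnit A ≫ a)) (PicF.cl H) = PicF.cl H ↔ PairE.pair hH (𝟙 A) (toUnit A ≫ a) = 1 := by
  rw [PairE.pl_tr hH]
  constructor
  · intro h
    obtain ⟨u, hu⟩ := PicMul.isUnit_cl hH
    rw [← hu, ← Units.val_mul, Units.val_inj, mul_eq_left] at h
    exact h
  · intro h
    rw [h, Units.val_one, _root_.mul_one]

/-- A homomorphism lifting `φ_L` through a non-degenerate `φ_H`, up to multiplication by `N`. -/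
theorem exists_lift
    (hnd : Set.Finite {a : 𝟙_ (Over (Spec (CommRingCat.of k))) ⟶ A |
      pl (𝟙 A * (toUnit A ≫ a)) (PicF.cl H) = PicF.cl H}) :
    ∃ (N : ℕ) (ψ : A ⟶ A), 0 < N ∧ IsMonHom ψ ∧
      PairE.pair hH (fst A A) (snd A A ≫ ψ) = PairE.pair hL (fst A A) (snd A A) ^ N := by
  classical
  haveI : IsCommMonObj A := isCommMonObj_of_isProper_of_geometricallyIntegral A
  haveI : IsIntegral A.left := GeometricallyIntegral.isIntegral_of_subsingleton A.hom
  let P := A ⊗ A
  haveI : GeometricallyIntegral P.hom := MaxAbelian.geometricallyIntegral_tensor A A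
  haveI : IsProper P.hom := inferInstanceAs (IsProper (pullback.fst A.hom A.hom ≫ A.hom))
  haveI : IsCommMonObj P := isCommMonObj_of_isProper_of_geometricallyIntegral P
  -- the two homomorphisms on points
  let χ : (𝟙_ (Over (Spec (CommRingCat.of k))) ⟶ P) →* (PicF.Cl A.left)ˣ := MonoidHom.mk'
    (fun c => PairE.pair hL (𝟙 A) (toUnit A ≫ c ≫ fst A A) / PairE.pair hH (𝟙 A) (toUnit A ≫ c ≫ snd A A))
    fun c c' => by
      simp only [MonObj.mul_comp, MonObj.comp_mul, PairE.pair_mul_right]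
      exact mul_div_mul_comm _ _ _ _
  let D : (PicF.Cl (A ⊗ P).left)ˣ := PairE.pair hL (fst A P) (snd A P ≫ fst A A) /
    PairE.pair hH (fst A P) (snd A P ≫ snd A A)
  obtain ⟨M, hMD, hM⟩ := isInvertibleCl_div (PairE.isInvertibleCl_pair hL (fst A P) (snd A P ≫ fst A A))
    (PairE.isInvertibleCl_pair hH (fst A P) (snd A P ≫ snd A A))
  haveI : IsProper (snd A P).left := inferInstanceAs (IsProper (pullback.snd A.hom P.hom))
  haveI : Flat (snd A P).left := inferInstanceAs (Flat (pullback.snd A.hom P.hom))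
  haveI : GeometricallyIntegral (snd A P).left := inferInstanceAs (GeometricallyIntegral (pullback.snd A.hom P.hom))
  haveI : IsLocallyNoetherian P.left := LocallyOfFiniteType.isLocallyNoetherian P.hom
  let S : Set P.left := {w | SeesawGlobal.FieldTriv (snd A P).left M w}
  have hmem : ∀ c, AVFac.ptOf c ∈ S ↔ χ c = 1 := fun c => by
    have key : Triv ((Scheme.Modules.pullback (lift (𝟙 A) (toUnit A ≫ c)).left).obj M) ↔ χ c = 1 := by
      rw [triv_iff, hMD]
      show (Units.map (PicMul.pullHom (lift (𝟙 A) (toUnit A ≫ c)).left : _ →* PicF.Cl A.left) D).val = 1 ↔ _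
      rw [map_div, PairE.pull_pair, PairE.pull_pair, lift_fst, lift_snd_assoc, lift_snd_assoc, Category.assoc,
        Category.assoc, Units.val_eq_one]
      rfl
    refine Iff.trans ⟨fun h => ?_, fun h => AVAmple.fieldTriv_of_slice A P hM c h⟩ key
    refine SeesawGlobal.triv_of_factor
      (pullback.lift (lift (𝟙 A) (toUnit A ≫ c)).left A.hom ?_ : A.left ⟶ pullback (snd A P).left c.left) ?_
      (h k c.left rfl)
    · show _ ≫ (snd A P).left = _
      rw [← Over.comp_left, lift_snd, Over.comp_left]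
      rfl
    · rw [pullback.lift_fst]
  have hS : AVFac.IsSubgroupSet (A := P) S := ⟨SeesawGlobal.isClosed_fieldTriv (snd A P).left hM,
    (hmem _).2 (by rw [MonObj.one_eq_one, map_one]),
    fun a b ha hb => (hmem _).2 (by rw [map_mul, (hmem a).1 ha, (hmem b).1 hb, _root_.mul_one]),
    fun a ha => (hmem _).2 (by rw [map_inv, (hmem a).1 ha, inv_one])⟩
  obtain ⟨B, _, j, _, _, _, _, hjS, F, hF⟩ := AVFac.exists_abelian_finite_index hS
  haveI : IsCommMonObj B := isCommMonObj_of_isProper_of_geometricallyIntegral B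
  let q : B ⟶ A := j ≫ fst A A
  haveI : IsMonHom (fst A A) := inferInstance
  haveI : IsMonHom q := inferInstance
  have hBmem : ∀ b : 𝟙_ (Over (Spec (CommRingCat.of k))) ⟶ B, χ (b ≫ j) = 1 := fun b =>
    (hmem _).1 (hjS ⟨AVFac.ptOf b, rfl⟩)
  -- every point is matched
  have hmatch : ∀ a : 𝟙_ (Over (Spec (CommRingCat.of k))) ⟶ A, ∃ c, c ≫ fst A A = a ∧ χ c = 1 := fun a => by
    let m : (PicF.Cl A.left)ˣ := PairE.pair hL (𝟙 A) (toUnit A ≫ a)
    have hinv : ∀ t : 𝟙_ (Over (Spec (CommRingCat.of k))) ⟶ A, pl (AVAmple.tr t) (m : PicF.Cl A.left) = m := fun t => by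
      have h := congrArg Units.val (PairE.pair_const_id hL a (AVAmple.tr t))
      rw [show AVAmple.tr t = 𝟙 A * (toUnit A ≫ t) from rfl, PairE.pair_mul_left, PairE.pair_points,
        _root_.mul_one] at h
      exact h
    obtain ⟨x, hx⟩ := AVPhi.exists_translate_eq ⟨H, rfl, hH⟩ (PairE.isInvertibleCl_pair hL (𝟙 A) (toUnit A ≫ a))
      hnd hinv
    refine ⟨lift a x, lift_fst _ _, ?_⟩
    show PairE.pair hL (𝟙 A) (toUnit A ≫ lift a x ≫ fst A A) / PairE.pair hH (𝟙 A) (toUnit A ≫ lift a x ≫ snd A A) = 1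
    rw [lift_fst, lift_snd, div_eq_one]
    refine (Units.ext ?_).symm
    obtain ⟨u, hu⟩ := PicMul.isUnit_cl hH
    rw [show AVAmple.tr x = 𝟙 A * (toUnit A ≫ x) from rfl, PairE.pl_tr hH, ← hu] at hx
    exact (Units.mul_right_inj u).1 hx
  -- `q` is surjective on points by divisibility
  let qpts : (𝟙_ (Over (Spec (CommRingCat.of k))) ⟶ B) →* (𝟙_ (Over (Spec (CommRingCat.of k))) ⟶ A) :=
    MonoidHom.mk' (fun b => b ≫ q) fun _ _ => MonObj.mul_comp _ _ q
  have hcov : ∀ a, ∃ f ∈ F, a / (f ≫ fst A A) ∈ qpts.range := fun a => by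
    obtain ⟨c, rfl, hc⟩ := hmatch a
    obtain ⟨f, hf, b, rfl⟩ := hF c ((hmem c).2 hc)
    refine ⟨f, hf, b, ?_⟩
    show b ≫ q = _
    rw [MonObj.mul_comp, Category.assoc, mul_div_cancel_left]
  have hindex : qpts.range.FiniteIndex := by
    haveI : Finite ((𝟙_ (Over (Spec (CommRingCat.of k))) ⟶ A) ⧸ qpts.range) := by
      refine Finite.of_surjective (α := F) (fun f => QuotientGroup.mk ((f : _ ⟶ P) ≫ fst A A)) fun z => ?_
      obtain ⟨a, rfl⟩ := QuotientGroup.mk_surjective z
      obtain ⟨f, hf, hfa⟩ := hcov a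
      exact ⟨⟨f, hf⟩, ((QuotientGroup.eq_iff_div_mem).2 hfa).symm⟩
    exact Subgroup.finiteIndex_of_finite_quotient
  have hsurjpts : ∀ a, ∃ b, b ≫ q = a := fun a => by
    obtain ⟨c, rfl⟩ := AVFac.exists_pow_eq (n := qpts.range.index) (Nat.one_le_iff_ne_zero.2 hindex.index_ne_zero) a
    exact Subgroup.pow_index_mem qpts.range c
  haveI : Surjective q.left := by
    haveI : IsProper q.left := AVIsog3.isProper_left q
    haveI : JacobsonSpace A.left := LocallyOfFiniteType.jacobsonSpace A.hom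
    refine ⟨Set.range_eq_univ.1 (Set.eq_univ_of_univ_subset ?_)⟩
    rw [← closure_closedPoints (X := A.left)]
    refine closure_minimal (fun z hz => ?_) q.left.isClosedMap.isClosed_range
    obtain ⟨b, hb⟩ := hsurjpts (AVFac.ptAt z hz)
    exact ⟨AVFac.ptOf b, by rw [← AVFac.ptOf_comp, hb]; exact AVFac.ptAt_apply z hz⟩
  have hfin : IsFinite q.left := by
    refine AVDeg3.isFinite_of_finite_ker q (Set.Finite.of_finite_image (f := fun b => b ≫ j ≫ snd A A) ?_ ?_)
    · refine hnd.subset ?_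
      rintro _ ⟨b, hb, rfl⟩
      have h := hBmem b
      rw [MonObj.one_eq_one] at hb
      change PairE.pair hL (𝟙 A) (toUnit A ≫ (b ≫ j) ≫ fst A A) /
        PairE.pair hH (𝟙 A) (toUnit A ≫ (b ≫ j) ≫ snd A A) = 1 at h
      rw [Category.assoc b j (fst A A), show b ≫ j ≫ fst A A = 1 from hb, MonObj.comp_one, PairE.pair_one_right,
        one_div, inv_eq_one, Category.assoc] at h
      exact (pl_tr_eq_iff hH _).2 h
    · intro b hb b' hb' he
      haveI : Mono j.left := inferInstance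
      haveI : Mono j := Over.mono_of_mono_left j
      refine (cancel_mono j).1 (CartesianMonoidalCategory.hom_ext _ _ ?_ (by simpa only [Category.assoc] using he))
      simp only [Category.assoc]
      exact (show b ≫ q = η[A] from hb).trans (show b' ≫ q = η[A] from hb').symm
  haveI := hfin
  obtain ⟨N, g, hN, _, -, hgq⟩ := AVIsog3.exists_quasiInverse q
  haveI : IsMonHom (snd A A) := inferInstance
  let ψ : A ⟶ A := g ≫ j ≫ snd A A
  haveI : IsMonHom ψ := inferInstance
  have hpts : ∀ a : 𝟙_ (Over (Spec (CommRingCat.of k))) ⟶ A,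
      PairE.pair hH (𝟙 A) (toUnit A ≫ a ≫ ψ) = PairE.pair hL (𝟙 A) (toUnit A ≫ a) ^ N := fun a => by
    have h := hBmem (a ≫ g)
    change PairE.pair hL (𝟙 A) (toUnit A ≫ ((a ≫ g) ≫ j) ≫ fst A A) /
      PairE.pair hH (𝟙 A) (toUnit A ≫ ((a ≫ g) ≫ j) ≫ snd A A) = 1 at h
    have e1 : ((a ≫ g) ≫ j) ≫ fst A A = a ^ N := by
      rw [Category.assoc, Category.assoc, show g ≫ j ≫ fst A A = 𝟙 A ^ N from hgq, MonObj.comp_pow, Category.comp_id]
    have e2 : ((a ≫ g) ≫ j) ≫ snd A A = a ≫ ψ := by simp only [Category.assoc, ψ]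
    rw [e1, e2, MonObj.comp_pow, PairE.pair_pow_right, div_eq_one] at h
    exact h.symm
  refine ⟨N, ψ, hN, ‹_›, ?_⟩
  let W := PairE.pair hH (fst A A) (snd A A ≫ ψ) / PairE.pair hL (fst A A) (snd A A) ^ N
  obtain ⟨M', hMW, hM'⟩ := isInvertibleCl_div (PairE.isInvertibleCl_pair hH (fst A A) (snd A A ≫ ψ))
    (v := PairE.pair hL (fst A A) (snd A A) ^ N)
    (by rw [Units.val_pow_eq_pow_val]; exact isInvertibleCl_pow (PairE.isInvertibleCl_pair hL _ _) N)
  have hT : ∀ {T : Over (Spec (CommRingCat.of k))} (σ : T ⟶ A ⊗ A),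
      PairE.pair hH (σ ≫ fst A A) (σ ≫ snd A A ≫ ψ) = PairE.pair hL (σ ≫ fst A A) (σ ≫ snd A A) ^ N →
        Triv ((Scheme.Modules.pullback σ.left).obj M') := fun {T} σ hσ => by
    rw [triv_iff, hMW]
    show (Units.map (PicMul.pullHom σ.left : _ →* PicF.Cl T.left) W).val = 1
    rw [map_div, map_pow, PairE.pull_pair, PairE.pull_pair, hσ, div_self', Units.val_one]
  have htriv : Triv M' := by
    refine triv_of_slices A A η[A] hM' (hT _ ?_) fun b => hT _ ?_
    · rw [lift_fst, lift_snd, lift_snd_assoc, show (toUnit A ≫ η[A] : A ⟶ A) = 1 from rfl, PairE.pair_one_left,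
        PairE.pair_one_left, one_pow]
    · rw [lift_fst, lift_snd, lift_snd_assoc, Category.assoc]
      exact hpts b
  exact div_eq_one.1 (Units.ext (hMW.symm.trans ((PicGrp.cl_eq_cl_iff _ _).2 htriv)))

end Groth.Agent.AVIdx
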