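import Groth.Prelude.Def_Red
import Groth.Agent.H23.RatProductK
import Groth.Agent.H23.MaxAbelian
import Groth.Agent.H23.RigidGamma
import Mathlib.Algebra.MvPolynomial.Nilpotent

/-!
Maps from the affine line to semiabelian groups are constant, and maps out of products with affine
spaces factor through the projection.
-/

set_option linter.style.haveILetI false
set_option linter.unusedSectionVars false
set_option backward.isDefEq.respectTransparency false
set_option backward.isDefEq.respectTransparency.types false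

universe u

open CategoryTheory CategoryTheory.Limits MonoidalCategory CartesianMonoidalCategory MonObj GrpObj AlgebraicGeometry TopologicalSpace

namespace Groth.Agent.AVIdx.LineConst

open Groth.Agent

/-- The coordinate ring of the line. -/
abbrev LR (Ω : Type u) [Field Ω] := MvPolynomial PUnit.{u+1} Ω

/-- The structure map of the line. -/
noncomputable abbrev cL (Ω : Type u) [Field Ω] : Spec (CommRingCat.of (LR Ω)) ⟶ Spec (CommRingCat.of Ω) :=
  Spec.map (CommRingCat.ofHom (MvPolynomial.C : Ω →+* LR Ω))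

/-- A rational point of the line. -/
noncomputable abbrev iL {Ω : Type u} [Field Ω] (a : Ω) : Spec (CommRingCat.of Ω) ⟶ Spec (CommRingCat.of (LR Ω)) :=
  Spec.map (CommRingCat.ofHom (MvPolynomial.eval fun _ : PUnit.{u+1} => a))

variable {Ω : Type u} [Field Ω]

theorem iL_cL (a : Ω) : iL a ≫ cL Ω = 𝟙 _ := by
  rw [← Spec.map_comp, ← Spec.map_id]
  congr 1
  ext x
  simp

/-- Constancy of a map from the line. -/
def IsConst {Y : Scheme.{u}} (z : Spec (CommRingCat.of (LR Ω)) ⟶ Y) : Prop := z = cL Ω ≫ iL 0 ≫ z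

theorem IsConst.comp {Y Y' : Scheme.{u}} {z : Spec (CommRingCat.of (LR Ω)) ⟶ Y} (h : IsConst z) (f : Y ⟶ Y') :
    IsConst (z ≫ f) := by
  unfold IsConst at *
  calc z ≫ f = (cL Ω ≫ iL 0 ≫ z) ≫ f := by rw [← h]
    _ = _ := by simp only [Category.assoc]

theorem isConst_cL {Y : Scheme.{u}} (w : Spec (CommRingCat.of Ω) ⟶ Y) : IsConst (cL Ω ≫ w) := by
  unfold IsConst
  rw [reassoc_of% (iL_cL (0 : Ω))]

theorem IsConst.pullback {X Y S : Scheme.{u}} {f : X ⟶ S} {g : Y ⟶ S}
    {z : Spec (CommRingCat.of (LR Ω)) ⟶ Limits.pullback f g}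
    (h₁ : IsConst (z ≫ Limits.pullback.fst f g)) (h₂ : IsConst (z ≫ Limits.pullback.snd f g)) : IsConst z := by
  unfold IsConst at *
  apply Limits.pullback.hom_ext <;> simp only [Category.assoc] <;> assumption

/-- The units of the line are constants. -/
theorem isConst_diag (M : Type) [AddCommGroup M]
    (z : Spec (CommRingCat.of (LR Ω)) ⟶ (Red.diag (ULift.{u} ℤ) M).left) : IsConst z := by
  unfold IsConst
  obtain ⟨φ, rfl⟩ := Spec.map_surjective z
  rw [← Spec.map_comp, ← Spec.map_comp]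
  congr 1
  refine CommRingCat.hom_ext ?_
  refine MonoidAlgebra.ringHom_ext (fun r => ?_) fun m => ?_
  · obtain ⟨n⟩ := r
    have e : ∀ g : MonoidAlgebra (ULift.{u} ℤ) (Multiplicative M) →+* LR Ω,
        g (MonoidAlgebra.single 1 (ULift.up n)) = (n : LR Ω) := fun g =>
      RingHom.congr_fun (RingHom.ext_int ((g.comp MonoidAlgebra.singleOneRingHom).comp
        (ULift.ringEquiv.symm : ℤ ≃+* ULift.{u} ℤ).toRingHom) (Int.castRingHom _)) n
    exact (e φ.hom).trans (e _).symm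
  · have hu : IsUnit (φ.hom (MonoidAlgebra.single m 1)) :=
      (IsUnit.map φ.hom ((Group.isUnit m).map (MonoidAlgebra.of (ULift.{u} ℤ) (Multiplicative M))))
    obtain ⟨r, -, hr⟩ := MvPolynomial.isUnit_iff_eq_C_of_isReduced.1 hu
    show φ.hom (MonoidAlgebra.single m 1) = MvPolynomial.C (MvPolynomial.eval _ (φ.hom (MonoidAlgebra.single m 1)))
    rw [hr, MvPolynomial.eval_C]

theorem isConst_DS {U : Scheme.{u}} (M : Type) [AddCommGroup M] (w : Spec (CommRingCat.of Ω) ⟶ U)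
    (z : Spec (CommRingCat.of (LR Ω)) ⟶ (Red.DS U M).left)
    (hz : z ≫ (Red.DS U M).hom = cL Ω ≫ w) : IsConst z := by
  refine IsConst.pullback (isConst_diag M _) ?_
  rw [show z ≫ Limits.pullback.snd _ _ = cL Ω ≫ w from hz]
  exact isConst_cL w

section OverK

variable {k : Type u} [Field k]

/-- The line as a scheme over `k`. -/
noncomputable abbrev Lk (σ : Spec (CommRingCat.of Ω) ⟶ Spec (CommRingCat.of k)) : Over (Spec (CommRingCat.of k)) :=
  Over.mk (cL Ω ≫ σ)

/-- The point as a scheme over `k`. -/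
noncomputable abbrev Pk (σ : Spec (CommRingCat.of Ω) ⟶ Spec (CommRingCat.of k)) : Over (Spec (CommRingCat.of k)) :=
  Over.mk σ

noncomputable abbrev cK (σ : Spec (CommRingCat.of Ω) ⟶ Spec (CommRingCat.of k)) : Lk σ ⟶ Pk σ := Over.homMk (cL Ω) rfl

noncomputable abbrev iK (σ : Spec (CommRingCat.of Ω) ⟶ Spec (CommRingCat.of k)) (a : Ω) : Pk σ ⟶ Lk σ :=
  Over.homMk (iL a) (by
    show iL a ≫ cL Ω ≫ σ = σ
    rw [reassoc_of% (iL_cL a)])

theorem iK_cK (σ : Spec (CommRingCat.of Ω) ⟶ Spec (CommRingCat.of k)) (a : Ω) : iK σ a ≫ cK σ = 𝟙 _ :=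
  Over.OverMorphism.ext (iL_cL a)

theorem eq_of_isConst {σ : Spec (CommRingCat.of Ω) ⟶ Spec (CommRingCat.of k)} {Y : Over (Spec (CommRingCat.of k))}
    (g : Lk σ ⟶ Y) (h : IsConst g.left) : g = cK σ ≫ iK σ 0 ≫ g :=
  Over.OverMorphism.ext h

theorem isConst_torus {T : Over (Spec (CommRingCat.of k))} [GrpObj T] {S' U : Scheme.{u}}
    (u : U ⟶ S') (f : S' ⟶ Spec (CommRingCat.of k)) (M : Type) [AddCommGroup M]
    (hT : Red.IsSplitTorusWith M (Red.bc (u ≫ f) T))
    (w : Spec (CommRingCat.of Ω) ⟶ U) (σ : Spec (CommRingCat.of Ω) ⟶ Spec (CommRingCat.of k))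
    (hw : w ≫ u ≫ f = σ) (g : Lk σ ⟶ T) : IsConst g.left := by
  obtain ⟨e⟩ := hT
  let ε := (Grp.forget _).mapIso e
  let z : Spec (CommRingCat.of (LR Ω)) ⟶ (Red.bc (u ≫ f) T).left :=
    Limits.pullback.lift g.left (cL Ω ≫ w) (by rw [Over.w g, Category.assoc, hw]; rfl)
  have hz2 : z ≫ (Red.bc (u ≫ f) T).hom = cL Ω ≫ w := Limits.pullback.lift_snd _ _ _
  have hDS : IsConst (z ≫ ε.hom.left) := isConst_DS M w _ (by
    rw [Category.assoc]
    exact (congrArg (z ≫ ·) (Over.w ε.hom)).trans hz2)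
  have h1 := (hDS.comp ε.inv.left).comp (Limits.pullback.fst T.hom (u ≫ f))
  have h2 : ε.hom.left ≫ ε.inv.left = 𝟙 _ := congrArg (fun t => t.left) ε.hom_inv_id
  refine (congrArg IsConst ?_).mp h1
  exact (congrArg (· ≫ Limits.pullback.fst T.hom (u ≫ f))
    ((Category.assoc _ _ _).trans ((congrArg (z ≫ ·) h2).trans (Category.comp_id _)))).trans (Limits.pullback.lift_fst _ _ _)

theorem isConst_proper [IsAlgClosed Ω] {B : Over (Spec (CommRingCat.of k))} [GrpObj B] [IsProper B.hom]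
    [GeometricallyIntegral B.hom] (σ : Spec (CommRingCat.of Ω) ⟶ Spec (CommRingCat.of k)) (g : Lk σ ⟶ B) :
    IsConst g.left := by
  let BΩ : Over (Spec (CommRingCat.of Ω)) := Red.bc σ B
  haveI : IsProper BΩ.hom := inferInstanceAs (IsProper (Limits.pullback.snd B.hom σ))
  haveI : GeometricallyIntegral BΩ.hom := inferInstanceAs (GeometricallyIntegral (Limits.pullback.snd B.hom σ))
  let z : Spec (CommRingCat.of (LR Ω)) ⟶ BΩ.left := Limits.pullback.lift g.left (cL Ω) (Over.w g)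
  have hz : z ≫ BΩ.hom = cL Ω := Limits.pullback.lift_snd _ _ _
  let e := AffineSpace.SpecIso PUnit.{u+1} (CommRingCat.of Ω)
  let G : H23.RatProductK.affine Ω PUnit.{u+1} ⟶ BΩ := Over.homMk (e.hom ≫ z) (by
    rw [Category.assoc, hz]
    exact (congrArg (e.hom ≫ ·) (AffineSpace.SpecIso_inv_over _).symm).trans (e.hom_inv_id_assoc _))
  obtain ⟨a, ha⟩ := H23.RatProductK.affine_const PUnit.{u+1} G
  have ha' : e.hom ≫ z = (H23.RatProductK.affine Ω PUnit.{u+1}).hom ≫ a.left :=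
    congrArg (fun t => t.left) ha
  have hc : IsConst z := by
    have : z = cL Ω ≫ a.left := by
      rw [← e.inv_hom_id_assoc z, ha', ← Category.assoc]
      congr 1
      exact AffineSpace.SpecIso_inv_over _
    rw [this]
    exact isConst_cL _
  have h1 := hc.comp (Limits.pullback.fst B.hom σ)
  rwa [show z ≫ Limits.pullback.fst B.hom σ = g.left from Limits.pullback.lift_fst _ _ _] at h1

/-- A map from the line to a group with an open semiabelian subgroup is constant. -/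
theorem isConst_semiabelian [IsAlgClosed Ω]
    {G : Over (Spec (CommRingCat.of k))} [GrpObj G]
    {G0 : Over (Spec (CommRingCat.of k))} [GrpObj G0] (e : G0 ⟶ G) [IsMonHom e] [IsOpenImmersion e.left]
    {T : Over (Spec (CommRingCat.of k))} [GrpObj T] (i : T ⟶ G0) [IsMonHom i]
    {B : Over (Spec (CommRingCat.of k))} [GrpObj B] [IsProper B.hom] [GeometricallyIntegral B.hom]
    (q : G0 ⟶ B) [IsMonHom q] (hker : AlgGrp.IsKernel i q)
    {S' U : Scheme.{u}} (u : U ⟶ S') (f : S' ⟶ Spec (CommRingCat.of k)) (M : Type) [AddCommGroup M]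
    (hT : Red.IsSplitTorusWith M (Red.bc (u ≫ f) T))
    (w : Spec (CommRingCat.of Ω) ⟶ U) (σ : Spec (CommRingCat.of Ω) ⟶ Spec (CommRingCat.of k))
    (hw : w ≫ u ≫ f = σ) (g : Lk σ ⟶ G) : IsConst g.left := by
  let pt : (Pk σ).left := IsLocalRing.closedPoint Ω
  have hpts : ∀ z : (Pk σ).left, z = pt := fun z => @Subsingleton.elim (Spec (CommRingCat.of Ω)) inferInstance z pt
  let R : Set G.left := Set.range e.left
  have hfac : ∀ {W : Over (Spec (CommRingCat.of k))} (h : W ⟶ G), Set.range h.left ⊆ R → ∃ h₀ : W ⟶ G0, h₀ ≫ e = h :=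
    fun {W} h hh => ⟨Over.homMk (IsOpenImmersion.lift e.left h.left hh) (by
      rw [← Over.w e, IsOpenImmersion.lift_fac_assoc, Over.w]), Over.OverMorphism.ext (IsOpenImmersion.lift_fac _ _ _)⟩
  have honeR : ∀ {W : Over (Spec (CommRingCat.of k))} (z : W.left), (1 : W ⟶ G).left z ∈ R := fun {W} z =>
    ⟨(1 : W ⟶ G0).left z, by rw [← MonObj.one_comp (f := e)]; rfl⟩
  let h := g * (cK σ ≫ iK σ 0 ≫ g)⁻¹
  have h0 : iK σ 0 ≫ h = 1 := by
    simp only [h, MonObj.comp_mul, GrpObj.comp_inv, reassoc_of% (iK_cK σ 0), mul_inv_cancel]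
  have hall : Set.range h.left ⊆ R := by
    let W : (Lk σ).left.Opens := h.left ⁻¹ᵁ e.left.opensRange
    have hW0 : (iK σ 0).left pt ∈ W := by
      show h.left ((iK σ 0).left pt) ∈ R
      rw [show h.left ((iK σ 0).left pt) = (iK σ 0 ≫ h).left pt from rfl, h0]
      exact honeR _
    haveI : IrreducibleSpace (Lk σ).left := inferInstanceAs (IrreducibleSpace (PrimeSpectrum (LR Ω)))
    haveI : LocallyOfFiniteType (cL Ω) := (HasRingHomProperty.Spec_iff (P := @LocallyOfFiniteType)).2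
      (RingHom.finiteType_algebraMap.2 inferInstance)
    haveI : JacobsonSpace (Lk σ).left :=
      LocallyOfFiniteType.jacobsonSpace (cL Ω)
    suffices hW : W = ⊤ by
      rintro _ ⟨z, rfl⟩
      exact (hW.ge (trivial : z ∈ (⊤ : (Lk σ).left.Opens)) : z ∈ W)
    refine top_le_iff.1 fun z _ => ?_
    by_contra hz
    obtain ⟨y, hy, hyc⟩ := nonempty_inter_closedPoints (Z := (W : Set (Lk σ).left)ᶜ) ⟨z, hz⟩
      W.isOpen.isClosed_compl.isLocallyClosed
    obtain ⟨p, hp⟩ := (pointEquivClosedPoint (cL Ω)).surjective ⟨y, hyc⟩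
    let a : Pk σ ⟶ Lk σ := Over.homMk p.1 (by
      show p.1 ≫ cL Ω ≫ σ = σ
      rw [reassoc_of% p.2])
    have hay : a.left pt = y := congrArg Subtype.val hp
    have hac : a ≫ cK σ = 𝟙 _ := Over.OverMorphism.ext p.2
    let ha := h * (cK σ ≫ a ≫ h)⁻¹
    let Wa : (Lk σ).left.Opens := ha.left ⁻¹ᵁ e.left.opensRange
    have ha0 : a ≫ ha = 1 := by
      simp only [ha, MonObj.comp_mul, GrpObj.comp_inv, reassoc_of% hac, mul_inv_cancel]
    have hWa : y ∈ Wa := by
      show ha.left y ∈ R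
      rw [← hay, show ha.left (a.left pt) = (a ≫ ha).left pt from rfl, ha0]
      exact honeR _
    obtain ⟨b', hb', hbc⟩ := nonempty_inter_closedPoints (X := (Lk σ).left) (Z := ((W ⊓ Wa : (Lk σ).left.Opens) : Set _))
      (nonempty_preirreducible_inter W.isOpen Wa.isOpen ⟨_, hW0⟩ ⟨_, hWa⟩) (W ⊓ Wa).isOpen.isLocallyClosed
    obtain ⟨p', hp'⟩ := (pointEquivClosedPoint (cL Ω)).surjective ⟨b', hbc⟩
    let b : Pk σ ⟶ Lk σ := Over.homMk p'.1 (by
      show p'.1 ≫ cL Ω ≫ σ = σ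
      rw [reassoc_of% p'.2])
    have hbc' : b ≫ cK σ = 𝟙 _ := Over.OverMorphism.ext p'.2
    have hbb : b.left pt = b' := congrArg Subtype.val hp'
    have hin : ∀ m : Lk σ ⟶ G, m.left b' ∈ R → ∃ m₀ : Pk σ ⟶ G0, m₀ ≫ e = b ≫ m := fun m hm =>
      hfac (b ≫ m) (by
        rintro _ ⟨z, rfl⟩
        rw [hpts z, show (b ≫ m).left pt = m.left (b.left pt) from rfl, hbb]
        exact hm)
    obtain ⟨m₁, hm₁⟩ := hin h hb'.1
    obtain ⟨m₂, hm₂⟩ := hin ha hb'.2
    have e2 : a ≫ h = (m₂⁻¹ * m₁) ≫ e := by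
      rw [MonObj.mul_comp, GrpObj.inv_comp, hm₁, hm₂]
      simp only [ha, MonObj.comp_mul, GrpObj.comp_inv, reassoc_of% hbc', _root_.mul_inv_rev, _root_.inv_inv,
        inv_mul_cancel_right]
    refine hy ?_
    show h.left y ∈ R
    rw [← hay, show h.left (a.left pt) = (a ≫ h).left pt from rfl, e2]
    exact ⟨_, rfl⟩
  obtain ⟨h₀, hh₀⟩ := hfac h hall
  haveI : Mono e := (Over.forget _).mono_of_mono_map (inferInstanceAs (Mono e.left))
  have h00 : iK σ 0 ≫ h₀ = 1 := by
    rw [← cancel_mono e, Category.assoc, hh₀, h0, MonObj.one_comp]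
  have hq : h₀ ≫ q = 1 := by
    rw [eq_of_isConst (h₀ ≫ q) (isConst_proper σ _), ← Category.assoc (iK σ 0), h00, MonObj.one_comp,
      MonObj.comp_one]
  obtain ⟨y, hy, -⟩ : ∃ y : Lk σ ⟶ T, y ≫ i = h₀ ∧ True := by
    refine ⟨hker.lift h₀ (toUnit _) ?_, hker.lift_fst _ _ _, trivial⟩
    rw [hq, Hom.one_def]
  have hy0 : h₀ = 1 := by
    rw [← hy, eq_of_isConst y (isConst_torus u f M hT w σ hw y), Category.assoc, Category.assoc, hy, h00,
      MonObj.comp_one]
  have h1 : h = 1 := by rw [← hh₀, hy0, MonObj.one_comp]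
  exact congrArg (fun t => t.left) (mul_inv_eq_one.1 h1 : g = cK σ ≫ iK σ 0 ≫ g)

end OverK

end Groth.Agent.AVIdx.LineConst
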