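import Groth.Agent.AVIdx.LineConst
import Groth.Agent.AlgSpLib.DescendLocally
import Groth.Agent.GrpSchLib.SmoothReduced
import Mathlib.RingTheory.RingHom.Smooth

/-!
Maps out of products with affine spaces into semiabelian groups factor through the projection.
-/

set_option linter.style.haveILetI false
set_option linter.unusedSectionVars false
set_option backward.isDefEq.respectTransparency false
set_option backward.isDefEq.respectTransparency.types false

universe u

open CategoryTheory CategoryTheory.Limits MonoidalCategory CartesianMonoidalCategory MonObj GrpObj AlgebraicGeometry TopologicalSpace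

namespace Groth.Agent.AVIdx.LineConst

open Groth.Agent

/-- Maps out of a reduced scheme into a separated one agree when they agree at a point over every point. -/
theorem eq_of_agree {X G : Scheme.{u}} {S : Scheme.{u}} (g : G ⟶ S) [IsSeparated g] [IsReduced X]
    (φ ψ : X ⟶ G) (hS : φ ≫ g = ψ ≫ g)
    (h : ∀ z : X, ∃ (P : Scheme.{u}) (p : P ⟶ X), z ∈ Set.range p ∧ p ≫ φ = p ≫ ψ) : φ = ψ := by
  let E := pullback (pullback.lift φ ψ hS) (pullback.diagonal g)
  let e : E ⟶ X := pullback.fst _ _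
  haveI : Surjective e := ⟨fun z => by
    obtain ⟨P, p, ⟨y, rfl⟩, hp⟩ := h z
    refine ⟨(pullback.lift p (p ≫ φ) ?_ : P ⟶ E) y, ?_⟩
    · apply pullback.hom_ext <;> simp [hp]
    · rw [← Scheme.Hom.comp_apply]
      exact congrArg (fun t : P ⟶ X => t y) (pullback.lift_fst _ _ _)⟩
  haveI : IsClosedImmersion e := inferInstanceAs (IsClosedImmersion (pullback.fst _ _))
  haveI := isIso_of_isClosedImmersion_of_surjective e
  have h2 : e ≫ φ = e ≫ ψ := by
    have h1 := congrArg (· ≫ pullback.fst g g) (pullback.condition (f := pullback.lift φ ψ hS) (g := pullback.diagonal g))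
    have h3 := congrArg (· ≫ pullback.snd g g) (pullback.condition (f := pullback.lift φ ψ hS) (g := pullback.diagonal g))
    simp at h1 h3
    exact h1.trans h3.symm
  exact (cancel_epi e).1 h2

/-- Morphisms from `X × 𝔸ⁿ` to a group with an open semiabelian subgroup factor through `X`. -/
theorem exists_factor_fst {k : Type u} [Field k]
    {X : Over (Spec (CommRingCat.of k))} [IsReduced X.left] (n : ℕ)
    {G : Over (Spec (CommRingCat.of k))} [GrpObj G] [IsSeparated G.hom]
    {G0 : Over (Spec (CommRingCat.of k))} [GrpObj G0] (e : G0 ⟶ G) [IsMonHom e] [IsOpenImmersion e.left]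
    {T : Over (Spec (CommRingCat.of k))} [GrpObj T] (i : T ⟶ G0) [IsMonHom i]
    (hT : Red.IsTorus T)
    {B : Over (Spec (CommRingCat.of k))} [GrpObj B] [IsProper B.hom] [Smooth B.hom] [ConnectedSpace ↥B.left]
    (q : G0 ⟶ B) [IsMonHom q] (hker : AlgGrp.IsKernel i q)
    (φ : X ⊗ Over.mk (Spec.map (CommRingCat.ofHom (algebraMap k (MvPolynomial (Fin n) k)))) ⟶ G) :
    ∃ ψ : X ⟶ G, φ = fst X (Over.mk (Spec.map (CommRingCat.ofHom (algebraMap k (MvPolynomial (Fin n) k))))) ≫ ψ := by
  let V : Over (Spec (CommRingCat.of k)) :=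
    Over.mk (Spec.map (CommRingCat.ofHom (algebraMap k (MvPolynomial (Fin n) k))))
  haveI : GeometricallyReduced B.hom := GrpSchLib.geometricallyReduced_of_smooth B.hom
  haveI := H23.MaxAbelian.geometricallyIntegral_of_connected B
  let o : 𝟙_ (Over (Spec (CommRingCat.of k))) ⟶ V :=
    Over.homMk (Spec.map (CommRingCat.ofHom (MvPolynomial.eval fun _ : Fin n => (0 : k)))) (by
      show _ ≫ Spec.map _ = 𝟙 _
      rw [← Spec.map_comp, ← Spec.map_id]
      congr 1
      ext x
      simp)
  let s : X ⟶ X ⊗ V := lift (𝟙 X) (toUnit X ≫ o)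
  refine ⟨s ≫ φ, ?_⟩
  haveI : Smooth V.hom := by
    show Smooth (Spec.map _)
    rw [HasRingHomProperty.Spec_iff (P := @Smooth)]
    exact RingHom.smooth_algebraMap.2 ⟨(inferInstance : Algebra.FormallySmooth k (MvPolynomial (Fin n) k)), (inferInstance : Algebra.FinitePresentation k (MvPolynomial (Fin n) k))⟩
  haveI : IsReduced (X ⊗ V).left := by
    haveI : Smooth (fst X V).left := inferInstanceAs (Smooth (pullback.fst X.hom V.hom))
    exact AlgSpLib.isReduced_of_smooth (fst X V).left
  refine Over.OverMorphism.ext (eq_of_agree G.hom _ _ ((Over.w φ).trans (Over.w _).symm) fun z => ?_)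
  obtain ⟨S', f, -, hf, -, hloc⟩ := hT
  obtain ⟨s', -⟩ := hf.surj (IsLocalRing.closedPoint k)
  obtain ⟨U, hs', r, hsplit⟩ := hloc s'
  let σz := (X ⊗ V).left.fromSpecResidueField z ≫ (X ⊗ V).hom
  obtain ⟨w₀, -⟩ : ∃ w₀ : ↥(pullback σz (U.ι ≫ f)), True := by
    obtain ⟨w₀, -⟩ := Scheme.Pullback.exists_preimage_pullback (f := σz) (g := U.ι ≫ f)
      (IsLocalRing.closedPoint _) (⟨s', hs'⟩ : U) (@Subsingleton.elim (Spec (CommRingCat.of k)) inferInstance _ _)
    exact ⟨w₀, trivial⟩
  let P := pullback σz (U.ι ≫ f)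
  let Ω := AlgebraicClosure (P.residueField w₀)
  let j : Spec (CommRingCat.of Ω) ⟶ P :=
    Spec.map (CommRingCat.ofHom (algebraMap (P.residueField w₀) Ω)) ≫ P.fromSpecResidueField w₀
  let w : Spec (CommRingCat.of Ω) ⟶ U.toScheme := j ≫ pullback.snd _ _
  let pz : Spec (CommRingCat.of Ω) ⟶ (X ⊗ V).left := j ≫ pullback.fst _ _ ≫ (X ⊗ V).left.fromSpecResidueField z
  let σ := pz ≫ (X ⊗ V).hom
  have hw : w ≫ U.ι ≫ f = σ := by
    simp only [w, σ, pz, Category.assoc]
    rw [← pullback.condition]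
  refine ⟨_, pz, ⟨IsLocalRing.closedPoint Ω, ?_⟩, ?_⟩
  · exact (X ⊗ V).left.fromSpecResidueField_apply z _
  let p : Pk σ ⟶ X ⊗ V := Over.homMk pz rfl
  obtain ⟨β, hβ⟩ := Spec.map_surjective (p ≫ snd X V).left
  have hβσ : Spec.map (CommRingCat.ofHom (algebraMap k (MvPolynomial (Fin n) k)) ≫ β) = σ := by
    rw [Spec.map_comp, hβ]
    exact Over.w (p ≫ snd X V)
  let gam : MvPolynomial (Fin n) k →+* LR Ω := MvPolynomial.eval₂Hom
    ((MvPolynomial.C : Ω →+* LR Ω).comp (β.hom.comp (algebraMap k (MvPolynomial (Fin n) k))))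
    fun i => MvPolynomial.C (β.hom (MvPolynomial.X i)) * MvPolynomial.X PUnit.unit
  let m : Lk σ ⟶ V := Over.homMk (Spec.map (CommRingCat.ofHom gam)) (by
    show _ ≫ Spec.map _ = cL Ω ≫ σ
    rw [← hβσ, ← Spec.map_comp, ← Spec.map_comp]
    congr 1
    refine CommRingCat.hom_ext (RingHom.ext fun x => ?_)
    exact MvPolynomial.eval₂Hom_C _ _ _)
  let ℓ : Lk σ ⟶ X ⊗ V := lift (cK σ ≫ p ≫ fst X V) m
  have h1 : iK σ 1 ≫ ℓ = p := by
    apply CartesianMonoidalCategory.hom_ext
    · rw [Category.assoc, lift_fst, reassoc_of% (iK_cK σ 1)]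
    · rw [Category.assoc, lift_snd]
      apply Over.OverMorphism.ext
      rw [← hβ]
      show iL 1 ≫ Spec.map _ = _
      rw [← Spec.map_comp]
      congr 1
      refine CommRingCat.hom_ext (MvPolynomial.ringHom_ext (fun x => ?_) fun i => ?_) <;> simp [gam]
  have h0 : iK σ 0 ≫ ℓ = p ≫ fst X V ≫ s := by
    apply CartesianMonoidalCategory.hom_ext
    · rw [Category.assoc, lift_fst, reassoc_of% (iK_cK σ 0)]
      simp [s]
    · rw [Category.assoc, lift_snd]
      simp only [s, Category.assoc, lift_snd]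
      rw [← Category.assoc p, ← Category.assoc (p ≫ fst X V), toUnit_unique ((p ≫ fst X V) ≫ toUnit X) (toUnit _)]
      apply Over.OverMorphism.ext
      show iL 0 ≫ Spec.map _ = σ ≫ Spec.map _
      rw [← hβσ, ← Spec.map_comp, ← Spec.map_comp]
      congr 1
      refine CommRingCat.hom_ext (MvPolynomial.ringHom_ext (fun x => ?_) fun i => ?_) <;> simp [gam]
  have hc := eq_of_isConst (ℓ ≫ φ) (isConst_semiabelian e i q hker U.ι f (Fin r → ℤ) hsplit w σ hw (ℓ ≫ φ))
  have key := congrArg (iK σ 1 ≫ ·) hc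
  simp only [reassoc_of% (iK_cK σ 1)] at key
  rw [← Category.assoc, h1, ← Category.assoc, h0] at key
  have := congrArg (fun t => t.left) key
  simp only [Category.assoc] at this
  exact this

end Groth.Agent.AVIdx.LineConst
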