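import Groth.Agent.AVPoinc.SelfDual
import Groth.Agent.QCoh.RpushExchange2
import Groth.Agent.AVPhi.Main

/-!
Higher direct images supported in finitely many regular closed points of dimension `g` vanish below
degree `g`.
-/

noncomputable section

set_option linter.style.haveILetI false
set_option linter.unusedSectionVars false
set_option maxHeartbeats 800000

universe u

open CategoryTheory CategoryTheory.Limits IsLocalRing AlgebraicGeometry TopologicalSpace TensorProduct

namespace Groth.Agent.AVIdx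

section Algebra

variable {R : Type u} [CommRing R] (P : ChainComplex (ModuleCat.{u} R) ℤ)

/-- What is divided out to make the complex end in degree zero. -/
def topSub (q : ℤ) : Submodule R (P.X q) :=
  if q < 0 then ⊥ else if q = 0 then LinearMap.range (P.d (q + 1) q).hom else ⊤

theorem topSub_of_neg {q : ℤ} (h : q < 0) : topSub P q = ⊥ := if_pos h

theorem topSub_zero : topSub P 0 = LinearMap.range (P.d (0 + 1) 0).hom := by
  rw [topSub, if_neg (lt_irrefl _), if_pos rfl]

theorem topSub_of_pos {q : ℤ} (h : 0 < q) : topSub P q = ⊤ := by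
  rw [topSub, if_neg h.le.not_gt, if_neg h.ne']

theorem topSub_le_range {q : ℤ} (h : q ≤ 0) : topSub P q ≤ LinearMap.range (P.d (q + 1) q).hom := by
  rcases h.lt_or_eq with h | rfl
  · rw [topSub_of_neg P h]; exact bot_le
  · rw [topSub_zero]

theorem d_mem_topSub {i j : ℤ} (h : j + 1 = i) : topSub P i ≤ (topSub P j).comap (P.d i j).hom := by
  subst h
  rcases lt_trichotomy (j + 1) 0 with h | h | h
  · rw [topSub_of_neg P h]; exact bot_le
  · intro x hx
    obtain ⟨w, rfl⟩ := topSub_le_range P h.le hx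
    show (P.d (j + 1) j).hom ((P.d (j + 1 + 1) (j + 1)).hom w) ∈ topSub P j
    rw [show (P.d (j + 1) j).hom ((P.d (j + 1 + 1) (j + 1)).hom w) = 0 from
      congrArg (fun φ : P.X (j + 1 + 1) ⟶ P.X j => φ.hom w) (P.d_comp_d _ _ _)]
    exact zero_mem _
  · rcases (show 0 < j ∨ j = 0 by omega) with hj | rfl
    · rw [topSub_of_pos P hj, Submodule.comap_top]; exact le_top
    · intro x _
      rw [Submodule.mem_comap, topSub_zero]
      exact ⟨x, rfl⟩

/-- The complex cut off in degree zero and reindexed from degree `-g`. -/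
def topCx (g : ℕ) : ChainComplex (ModuleCat.{u} R) ℕ :=
  ChainComplex.of (fun j => ModuleCat.of R (P.X ((j : ℤ) - g) ⧸ topSub P ((j : ℤ) - g)))
    (fun j => ModuleCat.ofHom (Submodule.mapQ _ _ (P.d (((j + 1 : ℕ) : ℤ) - g) ((j : ℤ) - g)).hom
      (d_mem_topSub P (by omega))))
    (fun j => ModuleCat.hom_ext (Submodule.linearMap_qext _ (LinearMap.ext fun x => by
      show Submodule.Quotient.mk ((P.d _ _).hom ((P.d _ _).hom x)) = 0
      rw [← ModuleCat.comp_apply, P.d_comp_d]
      rfl)))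

theorem topCx_d (g j : ℕ) : (topCx P g).d (j + 1) j =
    ModuleCat.ofHom (Submodule.mapQ _ _ (P.d (((j + 1 : ℕ) : ℤ) - g) ((j : ℤ) - g)).hom
      (d_mem_topSub P (by omega))) := by
  simp [topCx]

theorem free_quot [IsLocalRing R] [IsNoetherianRing R] (hfin : ∀ i, Module.Finite R (P.X i))
    (hfree : ∀ i, Module.Free R (P.X i)) (hflat : Module.Flat R (FlatCxLib.Coker P (0 + 1) 0)) (q : ℤ) :
    Module.Free R (P.X q ⧸ topSub P q) := by
  haveI := hfree q
  haveI := hfin q
  rcases lt_trichotomy q 0 with h | rfl | h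
  · exact Module.Free.of_equiv (Submodule.quotEquivOfEqBot _ (topSub_of_neg P h)).symm
  · haveI : Module.Flat R (P.X 0 ⧸ topSub P 0) :=
      Module.Flat.of_linearEquiv (Submodule.quotEquivOfEq _ _ (topSub_zero P))
    exact Module.free_of_flat_of_isLocalRing
  · haveI : Subsingleton (P.X q ⧸ topSub P q) := Submodule.Quotient.subsingleton_iff.2 (topSub_of_pos P h)
    exact Module.Free.of_subsingleton R _

/-- A finite free complex over a regular local ring of dimension `g`, exact in positive degrees for every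
coefficient module, with homology killed by powers of the maximal ideal above degree `-g`, is exact there. -/
theorem exists_preimage_of_killed [IsRegularLocalRing R] {g : ℕ} (hg : ringKrullDim R = g)
    (hfin : ∀ i, Module.Finite R (P.X i)) (hfree : ∀ i, Module.Free R (P.X i))
    (hflat : Module.Flat R (FlatCxLib.Coker P (0 + 1) 0))
    (hkill : ∀ a ∈ maximalIdeal R, ∀ q : ℤ, -(g : ℤ) < q → q ≤ 0 → ∀ z : P.X q, P.d q (q - 1) z = 0 →
      ∃ (n : ℕ) (w : P.X (q + 1)), P.d (q + 1) q w = a ^ n • z)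
    (q : ℤ) (hq : -(g : ℤ) < q) (hq0 : q ≤ 0) (z : P.X q) (hz : P.d q (q - 1) z = 0) :
    ∃ w : P.X (q + 1), P.d (q + 1) q w = z := by
  have hsub : ∀ j : ℕ, g < j → Subsingleton (P.X ((j : ℤ) - g) ⧸ topSub P ((j : ℤ) - g)) := fun j hj =>
    Submodule.Quotient.subsingleton_iff.2 (topSub_of_pos P (by omega))
  have hex := AVPoinc.exactAt_of_killed (topCx P g) g (AVPoinc.depth_eq_dim hg)
    (fun j hj => @ModuleCat.isZero_of_subsingleton _ _ _ (hsub j hj))
    (fun j => by
      haveI := hfin ((j : ℤ) - g)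
      exact inferInstanceAs (Module.Finite R (P.X ((j : ℤ) - g) ⧸ topSub P ((j : ℤ) - g))))
    (fun j => free_quot P hfin hfree hflat _) ?_
  swap
  · intro a ha j z hz
    rcases lt_or_ge (0 : ℤ) (((j + 1 : ℕ) : ℤ) - g) with h | h
    · haveI : Subsingleton ((topCx P g).X (j + 1)) := hsub (j + 1) (by omega)
      exact ⟨0, 0, Subsingleton.elim _ _⟩
    obtain ⟨x, rfl⟩ := Submodule.mkQ_surjective _ z
    rw [topCx_d] at hz
    have hx : (P.d (((j + 1 : ℕ) : ℤ) - g) ((j : ℤ) - g)).hom x ∈ topSub P ((j : ℤ) - g) :=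
      (Submodule.Quotient.mk_eq_zero _).1 hz
    rw [topSub_of_neg P (by omega), Submodule.mem_bot] at hx
    have e : ∀ i, i = (j : ℤ) - g → P.d (((j + 1 : ℕ) : ℤ) - g) i x = 0 := fun i hi => by subst hi; exact hx
    obtain ⟨n, w, hw⟩ := hkill a ha _ (by omega) h x (e _ (by omega))
    have e' : ∀ i, i = ((j + 1 : ℕ) : ℤ) - g + 1 →
        ∃ w' : P.X i, P.d i (((j + 1 : ℕ) : ℤ) - g) w' = a ^ n • x := fun i hi => by subst hi; exact ⟨w, hw⟩
    obtain ⟨w', hw'⟩ := e' (((j + 1 + 1 : ℕ) : ℤ) - g) (by omega)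
    refine ⟨n, Submodule.Quotient.mk w', ?_⟩
    rw [topCx_d]
    exact congrArg Submodule.Quotient.mk hw'
  obtain ⟨j, rfl⟩ : ∃ j : ℕ, q = ((j + 1 : ℕ) : ℤ) - g := ⟨(q + g - 1).toNat, by omega⟩
  have hd : (P.d (((j + 1 : ℕ) : ℤ) - g) ((j : ℤ) - g)).hom z = 0 := by
    have e : ∀ i, i = ((j + 1 : ℕ) : ℤ) - g - 1 → P.d (((j + 1 : ℕ) : ℤ) - g) i z = 0 := fun i hi => by
      subst hi; exact hz
    exact e _ (by omega)
  obtain ⟨wb, hwb⟩ := (AVPoinc.exactAt_iff_elem (topCx P g) j).1 (hex j) (Submodule.Quotient.mk z) (by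
    rw [topCx_d]
    show Submodule.Quotient.mk _ = 0
    rw [hd]
    rfl)
  obtain ⟨w, rfl⟩ := Submodule.mkQ_surjective _ wb
  rw [topCx_d] at hwb
  have hw : (P.d (((j + 1 + 1 : ℕ) : ℤ) - g) (((j + 1 : ℕ) : ℤ) - g)).hom w - z ∈
      topSub P (((j + 1 : ℕ) : ℤ) - g) := (Submodule.Quotient.eq _).1 hwb
  have e : ∀ i, i = ((j + 1 : ℕ) : ℤ) - g + 1 → ∀ w : P.X i,
      (P.d i (((j + 1 : ℕ) : ℤ) - g)).hom w ∈ LinearMap.range (P.d (((j + 1 : ℕ) : ℤ) - g + 1) (((j + 1 : ℕ) : ℤ) - g)).hom :=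
    fun i hi w => by subst hi; exact ⟨w, rfl⟩
  have h2 := Submodule.sub_mem _ (e _ (by omega) w) (topSub_le_range P hq0 hw)
  rw [sub_sub_cancel] at h2
  exact h2

end Algebra

section Scheme

variable {X S : Scheme.{u}} (f : X ⟶ S) [IsProper f] [IsLocallyNoetherian S] [HasInjectiveResolutions X.Modules]
  (M : X.Modules)

/-- A direct image supported in finitely many closed points has no stalk at a regular one of dimension `g`
in degrees below `g`. -/
theorem subsingleton_stalk_Rpush_of_lt (hM : Coh.IsCoh M) (hfl : FlatMod.IsFlatOver f M) {T : Set S}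
    (hT : T.Finite) (hTc : ∀ t ∈ T, IsClosed ({t} : Set S)) {g : ℕ} {y : S}
    [IsRegularLocalRing (S.presheaf.stalk y)] (hdim : ringKrullDim (S.presheaf.stalk y) = g)
    (hst : ∀ p < g, ∀ z ∉ T, Subsingleton (((Coh.Rpush f p).obj M).presheaf.stalk z))
    {p : ℕ} (hp : p < g) : Subsingleton (((Coh.Rpush f p).obj M).presheaf.stalk y) := by
  have hcl : IsClosed (T \ {y}) := by
    have := Set.Finite.isClosed_biUnion (hT.sdiff (t := {y})) (f := fun t => ({t} : Set S)) fun t ht => hTc t ht.1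
    rwa [Set.biUnion_of_singleton] at this
  obtain ⟨_, ⟨V, hV, rfl⟩, hy, hVT⟩ := S.isBasis_affineOpens.exists_subset_of_mem_open
    (show y ∈ (T \ {y})ᶜ from fun h => h.2 rfl) hcl.isOpen_compl
  have hV' : IsAffineOpen V := hV
  haveI : IsNoetherianRing Γ(S, V) := IsLocallyNoetherian.component_noetherian ⟨V, hV'⟩
  obtain ⟨P, hP⟩ := QCoh.exists_isLocalModel hM hfl hV'
  let x := hV'.primeIdealOf ⟨y, hy⟩
  let R := Localization.AtPrime x.asIdeal
  letI : Algebra Γ(S, V) (S.presheaf.stalk y) := (S.presheaf.germ V y hy).hom.toAlgebra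
  haveI : IsLocalization.AtPrime (S.presheaf.stalk y) x.asIdeal := hV'.isLocalization_stalk ⟨y, hy⟩
  let eS : R ≃+* S.presheaf.stalk y :=
    (IsLocalization.algEquiv x.asIdeal.primeCompl R (S.presheaf.stalk y)).toRingEquiv
  haveI : IsRegularLocalRing R := IsRegularLocalRing.of_ringEquiv eS.symm
  let C := QCoh.locCx P x
  have hfin := QCoh.finite_bcCx_X_aux P (algebraMap Γ(S, V) R) hP.1
  have hflC : ∀ i, Module.Flat R (C.X i) := FlatCxLib.flat_bcCx_X P hP.flat
  have hfree : ∀ i, Module.Free R (C.X i) := fun i => by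
    haveI := hfin i
    haveI := hflC i
    exact Module.free_of_flat_of_isLocalRing
  have hflat : Module.Flat R (FlatCxLib.Coker C (0 + 1) 0) :=
    (FlatCxLib.preservesMono_iff hflC (show (0 : ℤ) + 1 = 0 + 1 from rfl)).1
      ((FlatCxLib.preservesEpi_iff_preservesMono hflC (show (0 : ℤ) + 1 = 0 + 1 from rfl)).1
        (hP.isExactT_of_pos x (by norm_num : (0 : ℤ) < 0 + 1)).2)
  have hkill : ∀ a ∈ maximalIdeal R, ∀ p < g, ∃ n : ℕ, ∀ t : R ⊗[Γ(S, V)] Γ((Coh.Rpush f p).obj M, V), a ^ n • t = 0 := by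
    intro a ha p hp
    let G := (Coh.Rpush f p).obj M
    obtain ⟨⟨r, s⟩, hrs⟩ := IsLocalization.surj x.asIdeal.primeCompl a
    have hr : r ∈ x.asIdeal :=
      (IsLocalization.AtPrime.to_map_mem_maximal_iff R x.asIdeal r).1 (hrs ▸ Ideal.mul_mem_right _ _ ha)
    have hG : Coh.IsQCoh G := QCoh.isQCoh_Rpush f hM.1 p
    haveI : Subsingleton Γ(G, S.basicOpen r) := subsingleton_of_forall_eq 0 fun u =>
      TopCat.Presheaf.section_ext (⟨G.presheaf, G.isSheaf⟩ : TopCat.Sheaf AddCommGrpCat S) _ u 0 fun z hz => by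
        haveI := hst p hp z fun hzT => by
          rcases eq_or_ne z y with rfl | hne
          · exact (QCoh.mem_basicOpen_iff_notMem hV' hy r).1 hz hr
          · exact hVT (S.basicOpen_le r hz) ⟨hzT, hne⟩
        exact Subsingleton.elim _ _
    obtain ⟨l⟩ := hP.2.2.2.2.1 p
    haveI := hP.finite_homology (-(p : ℤ))
    haveI : Module.Finite Γ(S, V) Γ(G, V) := Module.Finite.equiv l.symm
    haveI := QCoh.isLocalizedModule_basicRes r hG hV'
    have hs : ∀ u : Γ(G, V), ∃ n : ℕ, r ^ n • u = 0 := fun u => by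
      obtain ⟨⟨_, n, rfl⟩, hc⟩ := IsLocalizedModule.exists_of_eq (S := Submonoid.powers r) (f := QCoh.basicRes r G)
        (show QCoh.basicRes r G u = QCoh.basicRes r G 0 from Subsingleton.elim _ _)
      exact ⟨n, hc.trans (smul_zero _)⟩
    obtain ⟨F, hF⟩ := Module.Finite.fg_top (R := Γ(S, V)) (M := Γ(G, V))
    choose n hn using hs
    refine ⟨F.sup n, fun t => ?_⟩
    have hGz : ∀ u : Γ(G, V), r ^ F.sup n • u = 0 := fun u => by
      have hu : u ∈ Submodule.span Γ(S, V) (F : Set Γ(G, V)) := hF ▸ Submodule.mem_top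
      induction hu using Submodule.span_induction with
      | mem v hv =>
        rw [← Nat.sub_add_cancel (Finset.le_sup (f := n) (Finset.mem_coe.1 hv)), pow_add, mul_smul, hn, smul_zero]
      | zero => rw [smul_zero]
      | add v w _ _ hv hw => rw [smul_add, hv, hw, add_zero]
      | smul c v _ hv => rw [smul_comm, hv, smul_zero]
    have ht : (algebraMap Γ(S, V) R r) ^ F.sup n • t = 0 := by
      rw [← map_pow, algebraMap_smul]
      induction t using TensorProduct.induction_on with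
      | zero => rw [smul_zero]
      | tmul c u => rw [← TensorProduct.tmul_smul, hGz, TensorProduct.tmul_zero]
      | add v w hv hw => rw [smul_add, hv, hw, add_zero]
    rw [← hrs, mul_pow, mul_comm, mul_smul] at ht
    exact ((IsLocalization.map_units R s).pow _).smul_eq_zero.1 ht
  have hexact := exists_preimage_of_killed C (g := g) ((ringKrullDim_eq_of_ringEquiv eS).trans hdim) hfin hfree
    hflat (fun a ha q hq hq0 z hz => by
      obtain ⟨i, rfl⟩ : ∃ i : ℕ, q = -(i : ℤ) := ⟨(-q).toNat, by omega⟩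
      obtain ⟨n, hn⟩ := hkill a ha i (by omega)
      obtain ⟨l⟩ := hP.2.2.2.2.1 i
      obtain ⟨eH⟩ := QCoh.nonempty_homology_locCx P x (-(i : ℤ))
      let E : FlatCxLib.Hom' C (-(i : ℤ) + 1) (-(i : ℤ)) (-(i : ℤ) - 1) ≃ₗ[R] R ⊗[Γ(S, V)] Γ((Coh.Rpush f i).obj M, V) :=
        (FlatCxLib.hom'Equiv (P := C) rfl (by omega)).trans (eH.trans
          (TensorProduct.AlgebraTensorModule.congr (LinearEquiv.refl R R) l.symm))
      have h0 : a ^ n • (Submodule.Quotient.mk ⟨z, hz⟩ : FlatCxLib.Hom' C (-(i : ℤ) + 1) (-(i : ℤ)) (-(i : ℤ) - 1)) = 0 :=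
        E.injective (by rw [map_smul, hn, map_zero])
      rw [← Submodule.Quotient.mk_smul, Submodule.Quotient.mk_eq_zero] at h0
      obtain ⟨w, hw⟩ := h0
      exact ⟨n, w, congrArg Subtype.val hw⟩)
  obtain ⟨l⟩ := hP.2.2.2.2.1 p
  obtain ⟨eH⟩ := QCoh.nonempty_homology_locCx P x (-(p : ℤ))
  haveI hsub : Subsingleton (R ⊗[Γ(S, V)] Γ((Coh.Rpush f p).obj M, V)) := by
    have hz : IsZero (C.homology (-(p : ℤ))) := by
      rw [← HomologicalComplex.exactAt_iff_isZero_homology,
        HomologicalComplex.exactAt_iff' C (-(p : ℤ) + 1) (-(p : ℤ)) (-(p : ℤ) - 1) (by simp) (by simp),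
        ShortComplex.moduleCat_exact_iff]
      exact fun z hz => hexact _ (by omega) (by omega) z hz
    haveI := ModuleCat.subsingleton_of_isZero hz
    exact ((eH.trans (TensorProduct.AlgebraTensorModule.congr (LinearEquiv.refl R R) l.symm))).toEquiv.symm.subsingleton
  haveI := hP.finite_homology (-(p : ℤ))
  haveI : Module.Finite Γ(S, V) Γ((Coh.Rpush f p).obj M, V) := Module.Finite.equiv l.symm
  obtain ⟨U, hU, ⟨i⟩⟩ := QCoh.exists_free_nhd_of_localization (QCoh.isQCoh_Rpush f hM.1 p) hV' hy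
    (Module.Free.of_subsingleton R _)
  have h0 : IsZero (((Coh.Rpush f p).obj M).restrict U.ι) :=
    (QCoh.isZero_freeMod_zero' _).of_iso (i ≪≫ eqToIso (congrArg _ (Module.finrank_zero_of_subsingleton)))
  haveI : Subsingleton ((((Coh.Rpush f p).obj M).restrict U.ι).presheaf.stalk ⟨y, hU⟩) :=
    AddCommGrpCat.subsingleton_of_isZero ((TopCat.Presheaf.stalkFunctor Ab.{u}
      (X := U.toScheme.toPresheafedSpace.carrier) ⟨y, hU⟩).map_isZero
      ((Scheme.Modules.toPresheaf U.toScheme).map_isZero h0))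
  exact @Equiv.subsingleton _ _ ((Scheme.Modules.restrictStalkNatIso U.ι ⟨y, hU⟩).app
    ((Coh.Rpush f p).obj M)).addCommGroupIsoToAddEquiv.symm.toEquiv
    ‹Subsingleton ((((Coh.Rpush f p).obj M).restrict U.ι).presheaf.stalk ⟨y, hU⟩)›

end Scheme

end Groth.Agent.AVIdx
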