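import Groth.Agent.H23.MaxAbelian
import Groth.Agent.H23.RedSub

/-!
The abelian subvariety generated by the image of a proper variety in a commutative group scheme.
-/

set_option linter.style.haveILetI false
set_option backward.isDefEq.respectTransparency false
set_option backward.isDefEq.respectTransparency.types false

universe u

open CategoryTheory CategoryTheory.Limits MonoidalCategory CartesianMonoidalCategory MonObj GrpObj AlgebraicGeometry

namespace Groth.Agent.AVIdx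

open Groth.Agent

variable {k : Type u} [Field k]

/-- A map from a proper variety sending a point to the unit lands in a proper connected subgroup. -/
theorem exists_subvariety_of_map {G P₀ : Over (Spec (CommRingCat.of k))} [GrpObj G] [IsCommMonObj G]
    [IsSeparated G.hom] [LocallyOfFiniteType G.hom] [IsProper P₀.hom] [GeometricallyIntegral P₀.hom]
    (d : P₀ ⟶ G) (p₀ : 𝟙_ (Over (Spec (CommRingCat.of k))) ⟶ P₀) (hd : p₀ ≫ d = η[G]) :
    ∃ (C : Over (Spec (CommRingCat.of k))) (_ : GrpObj C) (j : C ⟶ G) (w : P₀ ⟶ C), IsMonHom j ∧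
      IsClosedImmersion j.left ∧ IsProper C.hom ∧ GeometricallyIntegral C.hom ∧ w ≫ j = d := by
  let pt := IsLocalRing.closedPoint k
  let S : Set G.left → Prop := fun Z => Set.range d.left ⊆ Z ∧
    ∃ (P : Over (Spec (CommRingCat.of k))) (ψ : P ⟶ G), IsProper P.hom ∧ GeometricallyIntegral P.hom ∧
      Set.range ψ.left = Z ∧ ∃ e : 𝟙_ _ ⟶ P, e ≫ ψ = η[G]
  have hS : ∀ Z, S Z → IsIrreducible Z ∧ IsClosed Z ∧ η[G].left pt ∈ Z := by
    rintro Z ⟨-, P, ψ, _, _, rfl, e, he⟩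
    have : IsIntegral P.left := H23.MaxAbelian.isIntegral_of_geometricallyIntegral
    have : IsProper (ψ.left ≫ G.hom) := by rw [Over.w ψ]; infer_instance
    have := IsProper.of_comp ψ.left G.hom
    refine ⟨?_, ψ.left.isClosedMap.isClosed_range, e.left pt, congrArg (fun t : 𝟙_ _ ⟶ G => t.left pt) he⟩
    rw [← Set.image_univ]
    exact (IrreducibleSpace.isIrreducible_univ _).image _ ψ.left.continuous.continuousOn
  haveI : IsLocallyNoetherian G.left := LocallyOfFiniteType.isLocallyNoetherian G.hom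
  obtain ⟨Z, hZS, hmax⟩ := H23.MaxAbelian.exists_maximal (η[G].left pt) S hS
    ⟨_, subset_rfl, P₀, d, ‹_›, ‹_›, rfl, p₀, hd⟩
  obtain ⟨hdZ, P, ψ, _, _, hr, e, he⟩ := hZS
  have hone : (toUnit P ≫ e) ≫ ψ = (1 : P ⟶ G) := by
    rw [Category.assoc, he, MonObj.one_eq_one, MonObj.comp_one]
  haveI : IsProper (P ⊗ P).hom :=
    inferInstanceAs (IsProper (Limits.pullback.fst P.hom P.hom ≫ P.hom))
  haveI := H23.MaxAbelian.geometricallyIntegral_tensor P P
  let ψm : P ⊗ P ⟶ G := (fst P P ≫ ψ) * (snd P P ≫ ψ)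
  let ψd : P ⊗ P ⟶ G := (fst P P ≫ ψ) * (snd P P ≫ ψ)⁻¹
  have hl : lift (𝟙 P) (toUnit P ≫ e) ≫ ψm = ψ := by
    simp only [ψm, MonObj.comp_mul, lift_fst_assoc, lift_snd_assoc, Category.id_comp]
    rw [hone, _root_.mul_one]
  have hl' : lift (𝟙 P) (toUnit P ≫ e) ≫ ψd = ψ := by
    simp only [ψd, MonObj.comp_mul, GrpObj.comp_inv, lift_fst_assoc, lift_snd_assoc, Category.id_comp]
    rw [hone, inv_one, _root_.mul_one]
  have hi : lift (toUnit P ≫ e) (𝟙 P) ≫ ψd = ψ⁻¹ := by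
    simp only [ψd, MonObj.comp_mul, GrpObj.comp_inv, lift_fst_assoc, lift_snd_assoc, Category.id_comp]
    rw [hone, _root_.one_mul]
  have key : ∀ φ : P ⊗ P ⟶ G, lift (𝟙 P) (toUnit P ≫ e) ≫ φ = ψ →
      Set.range φ.left = Set.range ψ.left := by
    intro φ hφ
    have hsub : Set.range ψ.left ⊆ Set.range φ.left := by
      rintro _ ⟨y, rfl⟩
      exact ⟨_, congrArg (fun χ : P ⟶ G => χ.left y) hφ⟩
    rw [hr] at hsub ⊢
    refine (hmax _ ⟨hdZ.trans hsub, _, φ, ‹_›, ‹_›, rfl, e ≫ lift (𝟙 P) (toUnit P ≫ e), ?_⟩ hsub).symm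
    rw [Category.assoc, hφ, he]
  obtain ⟨N, hN, j, hj, hjc, _, _, hjr⟩ := H23.MaxAbelian.exists_image' ψ
    (by rintro _ ⟨y, rfl⟩; exact ⟨e.left y, congrArg (fun t : 𝟙_ _ ⟶ G => t.left y) he⟩)
    (key ψm hl).subset (by
      rw [← hi]
      rintro _ ⟨y, rfl⟩
      exact (key ψd hl').subset ⟨_, rfl⟩)
  haveI : IsIntegral P₀.left := H23.MaxAbelian.isIntegral_of_geometricallyIntegral
  obtain ⟨w, hw⟩ := H23.RedSub.exists_lift_closed d.left j.left (by rw [hjr, hr]; exact hdZ)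
  exact ⟨N, hN, j, Over.homMk w (by rw [← Over.w j, ← Category.assoc, hw, Over.w]), hj, hjc, ‹_›, ‹_›,
    Over.OverMorphism.ext hw⟩

end Groth.Agent.AVIdx
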