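import Groth.Agent.AVDegLib.MulN
import Groth.Agent.AbSchX.FinRank
import Mathlib.LinearAlgebra.FreeModule.PID
import Mathlib.LinearAlgebra.Matrix.ToLin

/-!
Degrees of integral matrices acting on a power of an abelian variety.
-/

set_option linter.style.haveILetI false
set_option linter.unusedSectionVars false
set_option backward.isDefEq.respectTransparency false
set_option backward.isDefEq.respectTransparency.types false

universe u

open CategoryTheory CategoryTheory.Limits MonoidalCategory CartesianMonoidalCategory MonObj GrpObj AlgebraicGeometry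

namespace Groth.Agent.AVIdx

open Groth.Agent

noncomputable section

variable {k : Type u} [Field k] (X : Over (Spec (CommRingCat.of k))) [GrpObj X] [IsCommMonObj X] {r : ℕ}

/-- The endomorphism of the power of `X` given by an integral matrix. -/
def matEnd (α : Matrix (Fin r) (Fin r) ℤ) : (∏ᶜ fun _ : Fin r => X) ⟶ (∏ᶜ fun _ : Fin r => X) :=
  Pi.lift (fun i => ∏ j : Fin r, (Pi.π (fun _ : Fin r => X) j) ^ (α i j))

theorem prod_zpow_eq_zpow_sum {G J : Type*} [CommGroup G] (x : G) (f : J → ℤ) (s : Finset J) :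
    ∏ i ∈ s, x ^ f i = x ^ ∑ i ∈ s, f i := by
  classical
  induction s using Finset.induction with
  | empty => simp
  | @insert a s ha ih => rw [Finset.prod_insert ha, Finset.sum_insert ha, ih, zpow_add]

theorem comp_prod_zpow {P Q : Over (Spec (CommRingCat.of k))} (φ : P ⟶ Q) (f : Fin r → (Q ⟶ X)) (n : Fin r → ℤ) :
    φ ≫ ∏ j, f j ^ n j = ∏ j, (φ ≫ f j) ^ n j := by
  let Φ : (Q ⟶ X) →* (P ⟶ X) :=
    { toFun := fun g => φ ≫ g, map_one' := MonObj.comp_one _, map_mul' := fun _ _ => MonObj.comp_mul _ _ _ }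
  show Φ _ = ∏ j, Φ (f j) ^ n j
  simp only [map_prod, map_zpow]

theorem matEnd_comp (α β : Matrix (Fin r) (Fin r) ℤ) : matEnd X β ≫ matEnd X α = matEnd X (α * β) := by
  refine Pi.hom_ext _ _ fun i => ?_
  simp only [matEnd, Category.assoc, Pi.lift_π, comp_prod_zpow]
  calc ∏ j, (∏ l, Pi.π (fun _ : Fin r => X) l ^ β j l) ^ α i j
      = ∏ j, ∏ l, Pi.π (fun _ : Fin r => X) l ^ (α i j * β j l) := by
        refine Finset.prod_congr rfl fun j _ => ?_
        rw [← Finset.prod_zpow]
        exact Finset.prod_congr rfl fun l _ => by rw [← zpow_mul, _root_.mul_comm]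
    _ = ∏ l, Pi.π (fun _ : Fin r => X) l ^ ((α * β) i l) := by
        rw [Finset.prod_comm]
        simp only [prod_zpow_eq_zpow_sum, Matrix.mul_apply]

theorem matEnd_one : matEnd X (1 : Matrix (Fin r) (Fin r) ℤ) = 𝟙 _ := by
  refine Pi.hom_ext _ _ fun i => ?_
  rw [matEnd, Pi.lift_π, Category.id_comp, Finset.prod_eq_single i (fun j _ hj => by
    rw [Matrix.one_apply_ne' hj, zpow_zero]) (fun h => absurd (Finset.mem_univ i) h), Matrix.one_apply_eq, zpow_one]

variable [IsProper X.hom] [GeometricallyIntegral X.hom] {g : ℕ}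

/-- The matrix endomorphism is finite flat of the expected degree. -/
def HasMatDeg (g : ℕ) (α : Matrix (Fin r) (Fin r) ℤ) : Prop :=
  IsFinite (matEnd X α).left ∧ Flat (matEnd X α).left ∧
    ∀ y, Scheme.Hom.finrank (matEnd X α).left y = α.det.natAbs ^ (2 * g)

theorem hasMatDeg_mul {α β : Matrix (Fin r) (Fin r) ℤ} (hα : HasMatDeg X g α) (hβ : HasMatDeg X g β) :
    HasMatDeg X g (α * β) := by
  obtain ⟨_, _, hβd⟩ := hβ
  obtain ⟨_, _, hαd⟩ := hα
  unfold HasMatDeg
  rw [← matEnd_comp, Over.comp_left]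
  refine ⟨inferInstance, inferInstance, fun y => ?_⟩
  rw [AbSchX.FinRank.finrank_comp (matEnd X β).left (matEnd X α).left _ hβd, hαd, Matrix.det_mul, Int.natAbs_mul,
    mul_pow, Nat.mul_comm]

theorem hasMatDeg_of_isUnit {α : Matrix (Fin r) (Fin r) ℤ} (h : IsUnit α) : HasMatDeg X g α := by
  obtain ⟨u, rfl⟩ := h
  haveI : IsIso (matEnd X (u : Matrix (Fin r) (Fin r) ℤ)) := ⟨matEnd X ↑u⁻¹,
    by rw [matEnd_comp, u.inv_mul, matEnd_one], by rw [matEnd_comp, u.mul_inv, matEnd_one]⟩
  haveI : IsIso (matEnd X (u : Matrix (Fin r) (Fin r) ℤ)).left :=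
    inferInstanceAs (IsIso ((Over.forget _).map (matEnd X (u : Matrix (Fin r) (Fin r) ℤ))))
  refine ⟨inferInstance, inferInstance, fun y => ?_⟩
  rw [Scheme.Hom.finrank_eq_one_of_isIso]
  have : (u : Matrix (Fin r) (Fin r) ℤ).det.natAbs = 1 :=
    Int.isUnit_iff_natAbs_eq.1 ((Matrix.isUnit_iff_isUnit_det _).1 u.isUnit)
  simp

theorem hasMatDeg_update_one (hg : topologicalKrullDim X.left = g) (i : Fin r) {d : ℤ} (hd : d ≠ 0) :
    HasMatDeg X g (Matrix.diagonal (Function.update (1 : Fin r → ℤ) i d)) := by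
  classical
  obtain ⟨hfin, hflat, -⟩ := AVDegLib.zpow_props (A := X) d hd
  have hfr := AVDegLib.finrank_zpow (A := X) hg d hd
  let E := matEnd X (Matrix.diagonal (Function.update (1 : Fin r → ℤ) i d))
  have hE : ∀ j, E ≫ Pi.π (fun _ : Fin r => X) j =
      Pi.π (fun _ : Fin r => X) j ^ (Function.update (1 : Fin r → ℤ) i d j) := fun j => by
    simp only [E, matEnd, Pi.lift_π]
    rw [Finset.prod_eq_single j (fun l _ hl => by rw [Matrix.diagonal_apply_ne' _ hl, zpow_zero])
      (fun h => absurd (Finset.mem_univ j) h), Matrix.diagonal_apply_eq]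
  have hEi : E ≫ Pi.π (fun _ : Fin r => X) i = Pi.π (fun _ : Fin r => X) i ≫ (𝟙 X ^ d) := by
    rw [hE, Function.update_self, GrpObj.comp_zpow, Category.comp_id]
  have hEj : ∀ j, j ≠ i → E ≫ Pi.π (fun _ : Fin r => X) j = Pi.π (fun _ : Fin r => X) j := fun j hj => by
    rw [hE, Function.update_of_ne hj, Pi.one_apply, zpow_one]
  have hsq : IsPullback E (Pi.π (fun _ : Fin r => X) i) (Pi.π (fun _ : Fin r => X) i) (𝟙 X ^ d) := by
    refine ⟨⟨hEi⟩, ⟨PullbackCone.IsLimit.mk _
      (fun s => Pi.lift (Function.update (fun j => s.fst ≫ Pi.π (fun _ : Fin r => X) j) i s.snd)) ?_ ?_ ?_⟩⟩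
    · intro s
      refine Pi.hom_ext _ _ fun j => ?_
      rcases eq_or_ne j i with rfl | hj
      · rw [Category.assoc, hEi, ← Category.assoc, Pi.lift_π, Function.update_self]
        exact s.condition.symm
      · rw [Category.assoc, hEj j hj, Pi.lift_π, Function.update_of_ne hj]
    · intro s
      rw [Pi.lift_π, Function.update_self]
    · intro s m h1 h2
      refine Pi.hom_ext _ _ fun j => ?_
      rcases eq_or_ne j i with rfl | hj
      · rw [Pi.lift_π, Function.update_self]; exact h2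
      · rw [Pi.lift_π, Function.update_of_ne hj, ← h1, Category.assoc, hEj j hj]
  have hsq' : IsPullback E.left (Pi.π (fun _ : Fin r => X) i).left (Pi.π (fun _ : Fin r => X) i).left
      (𝟙 X ^ d : X ⟶ X).left := hsq.map (Over.forget _)
  haveI : IsFinite (𝟙 X ^ d : X ⟶ X).left := hfin
  haveI : Flat (𝟙 X ^ d : X ⟶ X).left := hflat
  refine ⟨MorphismProperty.of_isPullback hsq'.flip hfin, MorphismProperty.of_isPullback hsq'.flip hflat, fun y => ?_⟩
  show Scheme.Hom.finrank E.left y = _
  rw [Scheme.Hom.finrank_of_isPullback _ _ _ _ hsq'.flip, hfr, Matrix.det_diagonal,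
    Finset.prod_eq_single i (fun j _ hj => by rw [Function.update_of_ne hj]; rfl)
      (fun h => absurd (Finset.mem_univ i) h), Function.update_self]

theorem hasMatDeg_diagonal (hg : topologicalKrullDim X.left = g) (d : Fin r → ℤ) (hd : ∀ i, d i ≠ 0) :
    HasMatDeg X g (Matrix.diagonal d) := by
  classical
  suffices H : ∀ s : Finset (Fin r), HasMatDeg X g (Matrix.diagonal fun i => if i ∈ s then d i else 1) by
    simpa using H Finset.univ
  intro s
  induction s using Finset.induction with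
  | empty =>
    refine hasMatDeg_of_isUnit X ?_
    simp
  | @insert a s ha ih =>
    have := hasMatDeg_mul X (hasMatDeg_update_one X hg a (hd a)) ih
    rw [Matrix.diagonal_mul_diagonal] at this
    convert this using 2
    funext i
    rcases eq_or_ne i a with rfl | hi
    · simp [ha]
    · simp [hi, Finset.mem_insert]

theorem hasMatDeg (hg : topologicalKrullDim X.left = g) (α : Matrix (Fin r) (Fin r) ℤ) (hα : α.det ≠ 0) :
    HasMatDeg X g α := by
  classical
  let f := Matrix.toLin' α
  have hf : Function.Injective f := by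
    rw [injective_iff_map_eq_zero]
    intro v hv
    exact Matrix.eq_zero_of_mulVec_eq_zero hα (by simpa [f, Matrix.toLin'_apply] using hv)
  let e := LinearEquiv.ofInjective f hf
  obtain ⟨b', a, ab', hab⟩ := Submodule.exists_smith_normal_form_of_rank_eq (Pi.basisFun ℤ (Fin r))
    (N := LinearMap.range f) e.finrank_eq.symm
  let w := ab'.map e.symm
  have hw : ∀ i, α.mulVec (w i) = a i • (b' i : Fin r → ℤ) := fun i => by
    rw [← hab i, ← Matrix.toLin'_apply]
    exact congrArg Subtype.val (e.apply_symm_apply (ab' i))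
  have ha : ∀ i, a i ≠ 0 := fun i h0 => by
    have := hab i
    rw [h0, zero_smul] at this
    exact ab'.ne_zero i (Subtype.ext this)
  let W := (Pi.basisFun ℤ (Fin r)).toMatrix w
  let B := (Pi.basisFun ℤ (Fin r)).toMatrix b'
  have hWB : α * W = B * Matrix.diagonal a := by
    ext i j
    rw [Matrix.mul_diagonal]
    have := congrFun (hw j) i
    simp only [Matrix.mulVec, dotProduct, Pi.smul_apply, smul_eq_mul] at this
    rw [Matrix.mul_apply]
    simp only [W, B, Module.Basis.toMatrix_apply, Pi.basisFun_repr]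
    rw [this, _root_.mul_comm]
  have hWu : W * w.toMatrix (Pi.basisFun ℤ (Fin r)) = 1 := Module.Basis.toMatrix_mul_toMatrix_flip _ _
  have hWu' : w.toMatrix (Pi.basisFun ℤ (Fin r)) * W = 1 := Module.Basis.toMatrix_mul_toMatrix_flip _ _
  have hBu : IsUnit B := ⟨⟨B, b'.toMatrix (Pi.basisFun ℤ (Fin r)), Module.Basis.toMatrix_mul_toMatrix_flip _ _,
    Module.Basis.toMatrix_mul_toMatrix_flip _ _⟩, rfl⟩
  have hα' : α = B * Matrix.diagonal a * w.toMatrix (Pi.basisFun ℤ (Fin r)) := by
    rw [← hWB, Matrix.mul_assoc, hWu, Matrix.mul_one]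
  rw [hα']
  exact hasMatDeg_mul X (hasMatDeg_mul X (hasMatDeg_of_isUnit X hBu) (hasMatDeg_diagonal X hg a ha))
    (hasMatDeg_of_isUnit X ⟨⟨_, W, hWu', hWu⟩, rfl⟩)

end

end Groth.Agent.AVIdx
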