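import Groth.Agent.AVIdx.HomFinite
import Mathlib.RingTheory.Polynomial.GaussLemma
import Mathlib.RingTheory.Flat.Basic
import Mathlib.RingTheory.PowerBasis
import Mathlib.RingTheory.IntegralClosure.Algebra.Basic
import Mathlib.RingTheory.Int.Basic

/-!
The minimal polynomial on the Tate module of an endomorphism has integer coefficients.
-/

set_option linter.style.haveILetI false
set_option linter.unusedSectionVars false
set_option backward.isDefEq.respectTransparency false
set_option backward.isDefEq.respectTransparency.types false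

universe u

open CategoryTheory CategoryTheory.Limits MonoidalCategory CartesianMonoidalCategory MonObj GrpObj AlgebraicGeometry
open scoped TensorProduct

noncomputable section

namespace Groth.Agent.AVIdx

open Groth.Agent

variable {k : Type u} [Field k] {A : Over (Spec (CommRingCat.of k))}
  [GrpObj A] [IsCommMonObj A] [IsProper A.hom] [GeometricallyIntegral A.hom]
  (Ω : Type u) [Field Ω] [Algebra k Ω] [IsAlgClosed Ω] (l : ℕ) [Fact l.Prime]

theorem exists_int_minpoly_tateRep (hl : (l : k) ≠ 0) (a : EndAV.End A) :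
    ∃ P : Polynomial ℤ, P.Monic ∧
      minpoly ℤ_[l] (EndAV.End.tateRep l (Over.mk (fieldMap (k := k) Ω)) a) = P.map (Int.castRingHom ℤ_[l]) := by
  classical
  obtain ⟨hfin, hfree⟩ := finite_free_hom A A
  haveI : Module.Finite ℤ (EndAV.End A) := hfin
  haveI : Module.Free ℤ (EndAV.End A) := hfree
  have hinj : Function.Injective (EndAV.toEnd0 (A := A)) :=
    Algebra.TensorProduct.includeRight_injective (R := ℤ) (A := ℚ) (B := EndAV.End A)
      (algebraMap ℤ ℚ).injective_int
  let x := EndAV.toEnd0 a
  obtain ⟨R, hR, hRa⟩ := Algebra.IsIntegral.isIntegral (R := ℤ) a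
  have hRa' : Polynomial.aeval a R = 0 := hRa
  have hRx : Polynomial.aeval x R = 0 := by rw [Polynomial.aeval_algHom_apply, hRa', map_zero]
  have hdvd : minpoly ℚ x ∣ R.map (algebraMap ℤ ℚ) :=
    minpoly.dvd ℚ x (by rw [Polynomial.aeval_map_algebraMap]; exact hRx)
  have hint : IsIntegral ℚ x := ⟨R.map (algebraMap ℤ ℚ), hR.map _, by
    rw [← Polynomial.aeval_def, Polynomial.aeval_map_algebraMap]; exact hRx⟩
  have hmonic := minpoly.monic hint
  obtain ⟨P, hP⟩ := IsIntegrallyClosed.eq_map_mul_C_of_dvd ℚ hR hdvd
  rw [hmonic.leadingCoeff, map_one, _root_.mul_one] at hP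
  have hPm : P.Monic := Polynomial.monic_of_injective (algebraMap ℤ ℚ).injective_int (hP ▸ hmonic)
  have hPa : Polynomial.aeval a P = 0 := hinj (by
    rw [← Polynomial.aeval_algHom_apply, map_zero, ← Polynomial.aeval_map_algebraMap ℚ, hP, minpoly.aeval])
  have hdeg : (minpoly ℚ x).natDegree = P.natDegree := by
    rw [← hP, Polynomial.natDegree_map_eq_of_injective (algebraMap ℤ ℚ).injective_int]
  -- the powers below the degree are independent
  have hind : LinearIndependent ℤ (fun i : Fin P.natDegree => a ^ (i : ℕ)) := by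
    have h1 := linearIndependent_pow (K := ℚ) x
    rw [hdeg] at h1
    rw [Fintype.linearIndependent_iff] at h1 ⊢
    intro c hc i
    have h2 := congrArg (EndAV.toEnd0 (A := A)) hc
    rw [map_sum, map_zero] at h2
    have h3 := h1 (fun j => (c j : ℚ)) (Eq.trans (Finset.sum_congr rfl fun j _ => ?_) h2) i
    · exact Int.cast_eq_zero.1 h3
    · rw [map_zsmul, map_pow, Int.cast_smul_eq_zsmul]
  let ρ := EndAV.End.tateRep (A := A) l (Over.mk (fieldMap (k := k) Ω))
  have hind' : LinearIndependent ℤ_[l] (fun i : Fin P.natDegree => ρ a ^ (i : ℕ)) := by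
    have := linearIndependent_tateMap (A := A) (B := A) Ω l hl (fun i : Fin P.natDegree => a ^ (i : ℕ)) hind
    convert this using 1
    exact funext fun i => (map_pow ρ a (i : ℕ)).symm
  refine ⟨P, hPm, (minpoly.unique' _ _ (hPm.map _) ?_ fun q hq => ?_).symm⟩
  · rw [Polynomial.aeval_def, Polynomial.eval₂_map]
    rw [show (algebraMap ℤ_[l] (Module.End ℤ_[l] _)).comp (Int.castRingHom ℤ_[l]) = ρ.comp (algebraMap ℤ (EndAV.End A))
      from RingHom.ext_int _ _, ← Polynomial.hom_eval₂, ← Polynomial.aeval_def, hPa, map_zero]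
  · by_cases hq0 : q = 0
    · exact Or.inl hq0
    refine Or.inr fun h0 => hq0 ?_
    have hlt : q.natDegree < P.natDegree := by
      have := Polynomial.natDegree_lt_natDegree hq0 hq
      rwa [Polynomial.natDegree_map_eq_of_injective (Int.castRingHom ℤ_[l]).injective_int] at this
    rw [Polynomial.aeval_eq_sum_range' hlt, Finset.sum_range] at h0
    have hc := Fintype.linearIndependent_iff.1 hind' _ h0
    ext i
    rcases lt_or_ge i P.natDegree with hi | hi
    · simpa using hc ⟨i, hi⟩
    · simpa using Polynomial.coeff_eq_zero_of_natDegree_lt (hlt.trans_le hi)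

end Groth.Agent.AVIdx
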