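import Groth.Agent.AVIdx.EulerHom
import Groth.Agent.Lib.AVPair

/-!
The biadditive pairing `(f, g) ↦ L[f * g] L[f]⁻¹ L[g]⁻¹` on maps to an abelian variety.
-/

set_option linter.style.haveILetI false
set_option linter.unusedSectionVars false
set_option backward.isDefEq.respectTransparency false
set_option backward.isDefEq.respectTransparency.types false

universe u

open CategoryTheory CategoryTheory.Limits MonoidalCategory CartesianMonoidalCategory MonObj GrpObj AlgebraicGeometry

noncomputable section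

namespace Groth.Agent.AVIdx

open Groth.Agent Groth.Agent.H23 Groth.Agent.AVCube
open scoped Groth.Agent.H23.PicMul

namespace PairE

variable {k : Type u} [Field k] {A : Over (Spec (CommRingCat.of k))}
  {L : A.left.Modules} (hL : PicF.IsInvertible L) [GrpObj A]

/-- The pairing attached to an invertible module. -/
def pair {T : Over (Spec (CommRingCat.of k))} (f g : T ⟶ A) : (PicF.Cl T.left)ˣ :=
  pc hL (f * g) / (pc hL f * pc hL g)

theorem pull_pair {T T' : Over (Spec (CommRingCat.of k))} (φ : T' ⟶ T) (f g : T ⟶ A) :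
    Units.map (PicMul.pullHom φ.left : PicF.Cl T.left →* PicF.Cl T'.left) (pair hL f g) =
      pair hL (φ ≫ f) (φ ≫ g) := by
  simp only [pair, map_mul, map_div, pull_pc, MonObj.comp_mul]

/-- The pairing only depends on its value on the two projections. -/
theorem pair_eq_pull {T : Over (Spec (CommRingCat.of k))} (f g : T ⟶ A) :
    pair hL f g = Units.map (PicMul.pullHom (lift f g).left : PicF.Cl (A ⊗ A).left →* PicF.Cl T.left)
      (pair hL (fst A A) (snd A A)) := by
  rw [pull_pair, lift_fst, lift_snd]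

variable [IsProper A.hom] [GeometricallyIntegral A.hom]

theorem pair_comm {T : Over (Spec (CommRingCat.of k))} (f g : T ⟶ A) : pair hL f g = pair hL g f := by
  haveI : IsCommMonObj A := isCommMonObj_of_isProper_of_geometricallyIntegral A
  rw [pair, pair, _root_.mul_comm f g, _root_.mul_comm (pc hL f)]

theorem pair_mul_left {T : Over (Spec (CommRingCat.of k))} (f g h : T ⟶ A) :
    pair hL (f * g) h = pair hL f h * pair hL g h := by
  simp only [pair]
  rw [div_mul_div_comm, div_eq_div_iff_mul_eq_mul]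
  calc pc hL (f * g * h) * (pc hL f * pc hL h * (pc hL g * pc hL h))
      = (pc hL (f * g * h) * pc hL f * pc hL g * pc hL h) * pc hL h := by ac_rfl
    _ = (pc hL (f * g) * pc hL (f * h) * pc hL (g * h)) * pc hL h := by rw [cube_rel hL f g h]
    _ = pc hL (f * h) * pc hL (g * h) * (pc hL (f * g) * pc hL h) := by ac_rfl

theorem pair_mul_right {T : Over (Spec (CommRingCat.of k))} (f g h : T ⟶ A) :
    pair hL f (g * h) = pair hL f g * pair hL f h := by
  rw [pair_comm, pair_mul_left, pair_comm hL g, pair_comm hL h]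

/-- The pairing as a homomorphism in the first variable. -/
def leftHom {T : Over (Spec (CommRingCat.of k))} (g : T ⟶ A) : (T ⟶ A) →* (PicF.Cl T.left)ˣ :=
  MonoidHom.mk' (fun f => pair hL f g) fun _ _ => pair_mul_left hL _ _ g

/-- The pairing as a homomorphism in the second variable. -/
def rightHom {T : Over (Spec (CommRingCat.of k))} (f : T ⟶ A) : (T ⟶ A) →* (PicF.Cl T.left)ˣ :=
  MonoidHom.mk' (fun g => pair hL f g) fun _ _ => pair_mul_right hL f _ _

theorem pair_one_left {T : Over (Spec (CommRingCat.of k))} (g : T ⟶ A) : pair hL 1 g = 1 := (leftHom hL g).map_one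

theorem pair_one_right {T : Over (Spec (CommRingCat.of k))} (f : T ⟶ A) : pair hL f 1 = 1 := (rightHom hL f).map_one

theorem pair_inv_left {T : Over (Spec (CommRingCat.of k))} (f g : T ⟶ A) : pair hL f⁻¹ g = (pair hL f g)⁻¹ :=
  (leftHom hL g).map_inv f

theorem pair_inv_inv {T : Over (Spec (CommRingCat.of k))} (f g : T ⟶ A) : pair hL f⁻¹ g⁻¹ = pair hL f g := by
  rw [pair_inv_left, show pair hL f g⁻¹ = (pair hL f g)⁻¹ from (rightHom hL f).map_inv g, _root_.inv_inv]

theorem pair_pow_left {T : Over (Spec (CommRingCat.of k))} (f g : T ⟶ A) (n : ℕ) :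
    pair hL (f ^ n) g = pair hL f g ^ n :=
  (leftHom hL g).map_pow f n

theorem pair_pow_right {T : Over (Spec (CommRingCat.of k))} (f g : T ⟶ A) (n : ℕ) :
    pair hL f (g ^ n) = pair hL f g ^ n :=
  (rightHom hL f).map_pow g n

theorem pc_mul {T : Over (Spec (CommRingCat.of k))} (f g : T ⟶ A) :
    pc hL (f * g) = pc hL f * pc hL g * pair hL f g :=
  (mul_div_cancel _ _).symm

theorem pair_self {T : Over (Spec (CommRingCat.of k))} (f : T ⟶ A) : pair hL f f = pc hL f * pc hL f⁻¹ := by
  have e := cube_rel hL f f f⁻¹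
  rw [mul_inv_cancel, mul_inv_cancel_right, pc_one, _root_.mul_one, _root_.mul_one] at e
  rw [pair, div_eq_iff_eq_mul, ← e]
  ac_rfl

theorem pc_point (a : 𝟙_ (Over (Spec (CommRingCat.of k))) ⟶ A) (T : Over (Spec (CommRingCat.of k))) :
    pc hL (toUnit T ≫ a) = 1 :=
  Units.ext ((val_pc' hL _).trans (AVPair.pl_const ⟨L, rfl, hL⟩ a))

theorem pair_points (a b : 𝟙_ (Over (Spec (CommRingCat.of k))) ⟶ A) (T : Over (Spec (CommRingCat.of k))) :
    pair hL (toUnit T ≫ a) (toUnit T ≫ b) = 1 := by
  rw [pair, ← MonObj.comp_mul, pc_point, pc_point, pc_point, _root_.mul_one, div_one]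

/-- Translates in terms of the pairing. -/
theorem pl_tr (a : 𝟙_ (Over (Spec (CommRingCat.of k))) ⟶ A) :
    AVPair.pl (𝟙 A * (toUnit A ≫ a)) (PicF.cl L) =
      PicF.cl L * ((pair hL (𝟙 A) (toUnit A ≫ a) : (PicF.Cl A.left)ˣ) : PicF.Cl A.left) := by
  have h := congrArg Units.val (pc_mul hL (𝟙 A) (toUnit A ≫ a))
  rw [pc_point, _root_.mul_one, Units.val_mul, val_pc', val_pc_id] at h
  exact h

end PairE

end Groth.Agent.AVIdx
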