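import Groth.Agent.Lib.AVAmple
import Groth.Agent.DivX.CodimOne
import Groth.Agent.RegUFD.Basic
import Groth.Agent.GrpSchLib.SmoothRegular
import Groth.Agent.H23.PicInv

/-!
Prime divisors on smooth schemes over a field as zero loci of sections of invertible modules.
-/

set_option linter.style.haveILetI false
set_option backward.isDefEq.respectTransparency false
set_option backward.isDefEq.respectTransparency.types false

universe u

open CategoryTheory CategoryTheory.Limits AlgebraicGeometry TopologicalSpace

namespace Groth.Agent.AVIdx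

open Groth.Agent.H23 Groth.Agent.H23.TrivBasic Groth.Agent.InvX
open scoped Groth.Agent.H23.PicMul

/-- An irreducible closed set of codimension one in a smooth variety is the complement of the locus
where a section of an invertible module generates. -/
theorem exists_section_prime_divisor {k : Type u} [Field k] {X : Scheme.{u}}
    (f : X ⟶ Spec (CommRingCat.of k)) [Smooth f] [IsIntegral X] (Δ : Set X) (hΔ : IsClosed Δ) (ξ : X)
    (hξ : closure {ξ} = Δ) (hcodim : ringKrullDim (X.presheaf.stalk ξ) = 1) :
    ∃ L : X.Modules, PicF.IsInvertible L ∧ ∃ s : Γ(L, ⊤), s ≠ 0 ∧ (locus s : Set X) = Δᶜ := by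
  haveI : IsLocallyNoetherian X := LocallyOfFiniteType.isLocallyNoetherian f
  let I : X.IdealSheafData := Scheme.IdealSheafData.vanishingIdeal ⟨Δ, hΔ⟩
  have hrange : Set.range I.subschemeι = Δ := RedSub.range_vanishingIdeal _
  have hirr : IsIrreducible (Set.range I.subschemeι) := by
    rw [hrange, ← hξ]
    exact isIrreducible_singleton.closure
  haveI : IrreducibleSpace ↥I.subscheme := by
    haveI := Subtype.irreducibleSpace hirr
    exact (I.subschemeι.isEmbedding.toHomeomorph).irreducibleSpace_iff.2 inferInstance
  haveI : IsIntegral I.subscheme := isIntegral_of_irreducibleSpace_of_isReduced _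
  have hgen : I.subschemeι (genericPoint ↥I.subscheme) = ξ := by
    have h := (genericPoint_spec ↥I.subscheme).image I.subschemeι.continuous
    rw [Set.image_univ, hrange, hΔ.closure_eq] at h
    exact h.eq hξ
  have hI : BlowUp.IsEffCartierIdeal I := by
    refine DivX.isEffCartier_of_codim_one I (by rw [hgen]; exact hcodim) fun x _ => ?_
    haveI := GrpSchLib.isRegularLocalRing_stalk_of_smooth f x
    exact RegUFD.ufd _
  obtain ⟨L, hL, ⟨e⟩⟩ := PicInv.exists_inverse ((S8914.result I).2 hI)
  have hLI : ClSub.IsInverseOf L (ClSub.idealMod I) :=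
    (PicGrp.cl_eq_cl_iff _ _).1 (by
      rw [PicMul.cl_tensor, mul_comm, ← PicMul.cl_tensor]
      exact (PicGrp.cl_eq_cl_iff _ _).2 ⟨e⟩)
  obtain ⟨s, hs, hmem⟩ := AVAmple.exists_divisor_section_ne_zero I hI hL hLI
  refine ⟨L, hL, s, hs, Set.ext fun x => ?_⟩
  have hsupp : (I.support : Set X) = Δ := by rw [← Scheme.IdealSheafData.range_subschemeι, hrange]
  show x ∈ locus s ↔ x ∉ Δ
  rw [hmem, ← SetLike.mem_coe, hsupp]

end Groth.Agent.AVIdx
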