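import Groth.Agent.AVIdx.SubGen
import Groth.Agent.S12013
import Groth.Agent.Lib.AVAmple

/-!
Effective invertible modules on simple abelian varieties.
-/

set_option linter.style.haveILetI false
set_option linter.unusedSectionVars false
set_option backward.isDefEq.respectTransparency false
set_option backward.isDefEq.respectTransparency.types false

universe u

open CategoryTheory CategoryTheory.Limits MonoidalCategory CartesianMonoidalCategory MonObj GrpObj AlgebraicGeometry TopologicalSpace

namespace Groth.Agent.AVIdx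

open Groth.Agent Groth.Agent.H23 Groth.Agent.H23.TrivBasic Groth.Agent.InvX Groth.Agent.AVAmple Groth.Agent.AVPair
open scoped Groth.Agent.H23.PicMul

variable {k : Type u} [Field k] [IsAlgClosed k] {A : Over (Spec (CommRingCat.of k))} [GrpObj A] [IsProper A.hom]
  [GeometricallyIntegral A.hom]

/-- The stabilizer of a class. -/
noncomputable def fixing {c : PicF.Cl A.left} (hc : PicF.IsInvertibleCl c) :
    Subgroup (𝟙_ (Over (Spec (CommRingCat.of k))) ⟶ A) where
  carrier := {a | pl (tr a) c = c}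
  one_mem' := by
    show pl (tr 1) c = c
    rw [tr_one, pl_id]
  mul_mem' := by
    intro a b ha hb
    show pl (tr (a * b)) c = c
    rw [← tr_tr, ← pl_pl, hb, ha]
  inv_mem' := by
    intro a ha
    show pl (tr a⁻¹) c = c
    calc pl (tr a⁻¹) c = pl (tr a⁻¹) (pl (tr a) c) := by rw [show pl (tr a) c = c from ha]
      _ = c := by rw [pl_pl, tr_tr, inv_mul_cancel, tr_one, pl_id]

/-- An invertible module with nonzero section invariant under all translations is trivial. -/
theorem triv_of_invariant_of_effective {L : A.left.Modules} (hL : PicF.IsInvertible L) {s : Γ(L, ⊤)}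
    (hs : s ≠ 0) (hinv : ∀ a : 𝟙_ (Over (Spec (CommRingCat.of k))) ⟶ A, pl (tr a) (PicF.cl L) = PicF.cl L) :
    Triv L := by
  haveI : IsIntegral A.left := GeometricallyIntegral.isIntegral_of_subsingleton A.hom
  let c : PicF.Cl A.left := PicF.cl L
  have hc : PicF.IsInvertibleCl c := ⟨L, rfl, hL⟩
  have hadd := CubeAb.isAdditive_of_invariant hc hinv
  have h1 : pl ((𝟙 A)⁻¹) c * c = 1 := by
    have := hadd.apply ((𝟙 A)⁻¹) (𝟙 A)
    rw [inv_mul_cancel, CubeAb.F_one hc] at this
    exact (congrArg (pl ((𝟙 A)⁻¹) c * ·) (pl_id c).symm).trans this.symm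
  haveI : IsIso ((𝟙 A)⁻¹ : A ⟶ A).left := by
    refine ⟨((𝟙 A)⁻¹ : A ⟶ A).left, ?_, ?_⟩ <;>
      rw [← Over.comp_left, GrpObj.comp_inv, Category.comp_id, _root_.inv_inv, Over.id_left]
  let ν := ((𝟙 A)⁻¹ : A ⟶ A).left
  let L' := (Scheme.Modules.pullback ν).obj L
  have hL' : PicF.IsInvertible L' := PicClLib.isInvertible_pullback _ hL
  obtain ⟨e⟩ : Nonempty (CohB1.tensorMod L' L ≅ Coh.structureModule A.left) := by
    refine PicMul.cl_eq_iff.1 ?_
    rw [PicMul.cl_tensor]
    exact h1
  let m := mulHom (M := L') (N := L) (ofSect (pullElt ν s)) (ofSect s)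
  have hloc : locus (one m) = ν ⁻¹ᵁ locus s ⊓ locus s := by
    show CohB1.genLocus _ (ofSect (one m)) = _
    rw [ofSect_one, genLocus_mulHom hL' hL]
    congr 1
    exact locus_pullElt hL ν s
  have hne : ν ⁻¹ᵁ locus s ⊓ locus s ≠ ⊥ := inf_ne_bot (locus_ne_bot hL hs) ν (𝟙 A.left)
  obtain ⟨x, hx⟩ := (Opens.ne_bot_iff_nonempty _).1 hne
  have hT : Triv (CohB1.tensorMod L' L) := ⟨e⟩
  have htop : ∀ y, y ∈ locus (one m) := fun y =>
    mem_locus_of_triv A.hom (𝟙 A.left) (isInvertible_tensorMod hL' hL)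
      (Triv.of_iso ((Scheme.Modules.pullbackId _).symm.app _) hT) (one m) (c := x) (hloc ▸ hx) y
  exact triv_of_frame (locus_eq_top_iff.1 (top_le_iff.1 fun y _ => (hloc ▸ htop y).2))

/-- The stabilizer of an effective invertible module on a simple abelian variety is finite or everything. -/
theorem finite_or_invariant_of_simple {L : A.left.Modules} (hL : PicF.IsInvertible L) {s : Γ(L, ⊤)} (hs : s ≠ 0)
    (hsimple : ∀ (B : Over (Spec (CommRingCat.of k))) [GrpObj B] [GeometricallyIntegral B.hom] (i : B ⟶ A)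
      [IsMonHom i] [IsClosedImmersion i.left], Subsingleton ↥B.left ∨ IsIso i) :
    Set.Finite {a : 𝟙_ (Over (Spec (CommRingCat.of k))) ⟶ A | pl (tr a) (PicF.cl L) = PicF.cl L} ∨
      ∀ a : 𝟙_ (Over (Spec (CommRingCat.of k))) ⟶ A, pl (tr a) (PicF.cl L) = PicF.cl L := by
  classical
  haveI : IsIntegral A.left := GeometricallyIntegral.isIntegral_of_subsingleton A.hom
  haveI : IsCommMonObj A := isCommMonObj_of_isProper_of_geometricallyIntegral A
  haveI : JacobsonSpace A.left := LocallyOfFiniteType.jacobsonSpace A.hom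
  haveI : IsLocallyNoetherian A.left := LocallyOfFiniteType.isLocallyNoetherian A.hom
  haveI : CompactSpace A.left := QuasiCompact.compactSpace_of_compactSpace A.hom
  haveI : IsNoetherian A.left := {}
  have hc : PicF.IsInvertibleCl (PicF.cl L) := ⟨L, rfl, hL⟩
  let H := fixing hc
  refine or_iff_not_imp_left.2 fun hinf => ?_
  obtain ⟨Z, hZ, hZiff⟩ := S12013.result k A L hL (ofSect s)
    (fun h => hs (by rw [← one_ofSect s, h]; rfl))
  have hmem : ∀ a, pt a ∈ Z ↔ a ∈ H := fun a => (hZiff a).trans PicMul.cl_eq_iff.symm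
  have hinj : ∀ a b : 𝟙_ (Over (Spec (CommRingCat.of k))) ⟶ A, pt a = pt b → a = b := fun a b h =>
    Over.OverMorphism.ext (congrArg Subtype.val ((pointEquivClosedPoint A.hom).injective
      (a₁ := ⟨a.left, Over.w a⟩) (a₂ := ⟨b.left, Over.w b⟩) (Subtype.ext h)))
  obtain ⟨Y, hY, hYinf⟩ : ∃ Y ∈ irreducibleComponents ↥Z, (Subtype.val '' Y : Set A.left).Infinite := by
    by_contra hall
    push Not at hall
    refine hinf (Set.Finite.of_finite_image (f := fun a => pt a) ?_ (fun a _ b _ h => hinj a b h))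
    refine ((NoetherianSpace.finite_irreducibleComponents (α := ↥Z)).biUnion
      fun Y hY => hall Y hY).subset ?_
    rintro _ ⟨a, ha, rfl⟩
    exact Set.mem_biUnion (irreducibleComponent_mem_irreducibleComponents (⟨pt a, (hmem a).2 ha⟩ : Z))
      ⟨⟨pt a, (hmem a).2 ha⟩, mem_irreducibleComponent, rfl⟩
  let V : Set A.left := Subtype.val '' Y
  have hVc : IsClosed V :=
    hZ.isClosedEmbedding_subtypeVal.isClosedMap _ (isClosed_of_mem_irreducibleComponents _ hY)
  have hVi : IsIrreducible V := hY.1.image _ continuous_subtype_val.continuousOn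
  obtain ⟨y, hy, hyc⟩ := nonempty_inter_closedPoints (Z := V) hVi.nonempty hVc.isLocallyClosed
  obtain ⟨p, rfl⟩ := exists_pt (mem_closedPoints_iff.1 hyc)
  have hVH : ∀ a, pt a ∈ V → a ∈ H := by
    rintro a ⟨z, -, hz⟩
    exact (hmem a).1 (hz ▸ z.2)
  have happ : ∀ a b : 𝟙_ (Over (Spec (CommRingCat.of k))) ⟶ A, (tr b).left (pt a) = pt (a * b) := by
    intro a b
    rw [show a * b = a ≫ tr b by rw [comp_tr, unit_comp]]
    rfl
  let V' : Set A.left := (tr p).left ⁻¹' V
  let e : A.left ≃ₜ A.left := (tr p).left.homeomorph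
  have hV'c : IsClosed V' := hVc.preimage (tr p).left.continuous
  have hV'i : IsIrreducible V' := by
    rw [show V' = e.symm '' V from (Homeomorph.image_symm e ▸ rfl)]
    exact hVi.image _ e.symm.continuous.continuousOn
  have hpt : ∀ (a : 𝟙_ (Over (Spec (CommRingCat.of k))) ⟶ A),
      Set.range a.left ⊆ V' ↔ pt (a * p) ∈ V := by
    intro a
    rw [← happ]
    refine ⟨fun h => h ⟨_, rfl⟩, ?_⟩
    rintro h _ ⟨z, rfl⟩
    rw [show z = IsLocalRing.closedPoint k from
      @Subsingleton.elim (Spec (CommRingCat.of k)) inferInstance z _]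
    exact h
  obtain ⟨B, _, incl, _, _, hBi, -, hsub, hker⟩ := exists_subvariety_in_ker A
    ((𝟙_ (Over (Spec (CommRingCat.of k))) ⟶ A) ⧸ H) (QuotientGroup.mk' H) V' hV'c hV'i
    (by
      rw [show η[A] = (1 : 𝟙_ (Over (Spec (CommRingCat.of k))) ⟶ A) by
        rw [Hom.one_def, toUnit_unique (toUnit _) (𝟙 _), Category.id_comp]]
      exact (hpt 1).2 (by rwa [_root_.one_mul]))
    (fun a ha => (QuotientGroup.eq_one_iff a).2 (by
      have h1 := hVH _ ((hpt a).1 ha)
      have h2 := hVH p hy
      simpa using H.mul_mem h1 (H.inv_mem h2)))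
  rcases hsimple B incl with hB | hB
  · refine absurd hYinf (Set.not_infinite.2 ?_)
    have : (Set.range incl.left).Finite := (Set.subsingleton_of_subsingleton.image _).finite.subset
      (by rw [← Set.image_univ])
    have hV' : V'.Finite := this.subset hsub
    exact (hV'.image fun x => (tr p).left x).subset fun x hx =>
      ⟨e.symm x, by show (tr p).left (e.symm x) ∈ V; rw [show (tr p).left (e.symm x) = x from e.apply_symm_apply x]; exact hx,
        e.apply_symm_apply x⟩
  · intro a
    have := hker (a ≫ inv incl)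
    rw [Category.assoc, IsIso.inv_hom_id, Category.comp_id] at this
    exact (QuotientGroup.eq_one_iff a).1 this

end Groth.Agent.AVIdx
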