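import Groth.Agent.H23.EquidimFibres
import Mathlib.Analysis.Complex.Polynomial.Basic

/-!
Abelian subvarieties generated by irreducible closed sets inside a subgroup of rational points.
-/

set_option linter.style.haveILetI false
set_option linter.unusedSectionVars false
set_option backward.isDefEq.respectTransparency false
set_option backward.isDefEq.respectTransparency.types false

universe u

open CategoryTheory CategoryTheory.Limits MonoidalCategory CartesianMonoidalCategory MonObj GrpObj AlgebraicGeometry TopologicalSpace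

namespace Groth.Agent.AVIdx

open Groth.Agent

theorem exists_subvariety_in_ker {k : Type u} [Field k] [IsAlgClosed k]
    (A : Over (Spec (CommRingCat.of k))) [GrpObj A] [IsProper A.hom] [AlgebraicGeometry.IsIntegral A.left]
    (G : Type*) [Group G] (f : (𝟙_ (Over (Spec (CommRingCat.of k))) ⟶ A) →* G)
    (V : Set ↥A.left) (hVcl : IsClosed V) (hVirr : IsIrreducible V)
    (hV1 : Set.range ⇑(η[A]).left ⊆ V)
    (hVker : ∀ a : 𝟙_ (Over (Spec (CommRingCat.of k))) ⟶ A, Set.range ⇑a.left ⊆ V → f a = 1) :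
    ∃ (B : Over (Spec (CommRingCat.of k))) (_ : GrpObj B) (incl : B ⟶ A), IsMonHom incl ∧ IsClosedImmersion incl.left ∧
      GeometricallyIntegral B.hom ∧ IsProper B.hom ∧ V ⊆ Set.range ⇑incl.left ∧
      ∀ b : 𝟙_ (Over (Spec (CommRingCat.of k))) ⟶ B, f (b ≫ incl) = 1 := by
  let pt := IsLocalRing.closedPoint k
  have hr1 : ∀ a : 𝟙_ (Over (Spec (CommRingCat.of k))) ⟶ A, Set.range a.left = {a.left pt} := fun a =>
    Set.Subset.antisymm (by rintro _ ⟨x, rfl⟩; exact congrArg a.left (@Subsingleton.elim (Spec (CommRingCat.of k)) inferInstance x pt))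
      (Set.singleton_subset_iff.2 ⟨pt, rfl⟩)
  have hlift : ∀ (P : Over (Spec (CommRingCat.of k))) [IsProper P.hom] (ψ : P ⟶ A)
      (a : 𝟙_ (Over (Spec (CommRingCat.of k))) ⟶ A), a.left pt ∈ Set.range ψ.left →
      ∃ p : 𝟙_ _ ⟶ P, p ≫ ψ = a := by
    intro P _ ψ a ha
    have := LocallyOfFiniteType.jacobsonSpace P.hom
    have hc : IsClosed ({a.left pt} : Set A.left) := by
      rw [← hr1]
      have : IsClosedImmersion a.left := isClosedImmersion_of_comp_eq_id (Y := Spec (CommRingCat.of k)) A.hom a.left (Over.w a)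
      exact a.left.isClosedEmbedding.isClosed_range
    obtain ⟨x, hx⟩ := ha
    obtain ⟨y, hy, hyc⟩ := nonempty_inter_closedPoints (X := P.left) (Z := ψ.left ⁻¹' {a.left pt})
      ⟨x, hx⟩ (hc.preimage ψ.left.continuous).isLocallyClosed
    let p : 𝟙_ (Over (Spec (CommRingCat.of k))) ⟶ P :=
      Over.homMk (pointOfClosedPoint P.hom y hyc) (pointOfClosedPoint_comp _ _ _)
    refine ⟨p, Over.OverMorphism.ext (ext_of_apply_closedPoint_eq A.hom (Over.w (p ≫ ψ)) (Over.w a) ?_)⟩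
    exact (congrArg ψ.left (pointOfClosedPoint_apply P.hom y hyc pt)).trans hy
  let S : Set A.left → Prop := fun Z => V ⊆ Z ∧ ∃ (P : Over (Spec (CommRingCat.of k))) (ψ : P ⟶ A),
    IsProper P.hom ∧ GeometricallyIntegral P.hom ∧ Set.range ψ.left = Z ∧
      ∀ p : 𝟙_ _ ⟶ P, f (p ≫ ψ) = 1
  have hS : ∀ Z, S Z → IsIrreducible Z ∧ IsClosed Z ∧ η[A].left pt ∈ Z := by
    rintro Z ⟨hVZ, P, ψ, _, _, rfl, -⟩
    have : IsIntegral P.left := H23.MaxAbelian.isIntegral_of_geometricallyIntegral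
    have : IsProper (ψ.left ≫ A.hom) := by rw [Over.w ψ]; infer_instance
    have := IsProper.of_comp ψ.left A.hom
    refine ⟨?_, ψ.left.isClosedMap.isClosed_range, hVZ (hV1 ⟨pt, rfl⟩)⟩
    rw [← Set.image_univ]
    exact (IrreducibleSpace.isIrreducible_univ _).image _ ψ.left.continuous.continuousOn
  have h0 : ∃ Z, S Z := by
    obtain ⟨P, em, _, hr, hP, hP', _⟩ := H23.EquidimFibres.exists_integral_sub hVcl hVirr
    refine ⟨V, subset_rfl, P, em, hP, hP', hr, fun p => hVker _ ?_⟩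
    rw [← hr, Over.comp_left]
    rintro _ ⟨y, rfl⟩
    exact ⟨_, rfl⟩
  have : IsLocallyNoetherian A.left := LocallyOfFiniteType.isLocallyNoetherian A.hom
  obtain ⟨Z, hZS, hmax⟩ := H23.MaxAbelian.exists_maximal (η[A].left pt) S hS h0
  obtain ⟨hVZ, P, ψ, _, _, hr, hker⟩ := hZS
  obtain ⟨e, he⟩ := hlift P ψ η[A] (by rw [hr]; exact hVZ (hV1 ⟨pt, rfl⟩))
  have hone : (toUnit P ≫ e) ≫ ψ = (1 : P ⟶ A) := by
    rw [Category.assoc, he, MonObj.one_eq_one, MonObj.comp_one]
  have : IsProper (P ⊗ P).hom :=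
    inferInstanceAs (IsProper (Limits.pullback.fst P.hom P.hom ≫ P.hom))
  have := H23.MaxAbelian.geometricallyIntegral_tensor P P
  let ψm : P ⊗ P ⟶ A := (fst P P ≫ ψ) * (snd P P ≫ ψ)
  let ψd : P ⊗ P ⟶ A := (fst P P ≫ ψ) * (snd P P ≫ ψ)⁻¹
  have hl : lift (𝟙 P) (toUnit P ≫ e) ≫ ψm = ψ := by
    simp only [ψm, MonObj.comp_mul, lift_fst_assoc, lift_snd_assoc, Category.id_comp]
    rw [hone, _root_.mul_one]
  have hl' : lift (𝟙 P) (toUnit P ≫ e) ≫ ψd = ψ := by
    simp only [ψd, MonObj.comp_mul, GrpObj.comp_inv, lift_fst_assoc, lift_snd_assoc, Category.id_comp]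
    rw [hone, inv_one, _root_.mul_one]
  have hi : lift (toUnit P ≫ e) (𝟙 P) ≫ ψd = ψ⁻¹ := by
    simp only [ψd, MonObj.comp_mul, GrpObj.comp_inv, lift_fst_assoc, lift_snd_assoc, Category.id_comp]
    rw [hone, _root_.one_mul]
  have key : ∀ φ : P ⊗ P ⟶ A, lift (𝟙 P) (toUnit P ≫ e) ≫ φ = ψ →
      (∀ p, f (p ≫ φ) = 1) → Set.range φ.left = Set.range ψ.left := by
    intro φ hφ hk
    have hsub : Set.range ψ.left ⊆ Set.range φ.left := by
      rintro _ ⟨y, rfl⟩
      exact ⟨_, congrArg (fun χ : P ⟶ A => χ.left y) hφ⟩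
    rw [hr] at hsub ⊢
    exact (hmax _ ⟨hVZ.trans hsub, _, φ, ‹_›, ‹_›, rfl, hk⟩ hsub).symm
  have hm := key ψm hl fun p => by
    simp only [ψm, MonObj.comp_mul, map_mul]
    rw [← Category.assoc p, ← Category.assoc p, hker, hker, _root_.one_mul]
  have hd := key ψd hl' fun p => by
    simp only [ψd, MonObj.comp_mul, GrpObj.comp_inv, map_mul, map_inv]
    rw [← Category.assoc p, ← Category.assoc p, hker, hker, inv_one, _root_.one_mul]
  obtain ⟨N, hN, j, hj, hjc, _, _, hjr⟩ := H23.MaxAbelian.exists_image' ψ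
    (by rw [hr1, Set.singleton_subset_iff, hr]; exact hVZ (hV1 ⟨pt, rfl⟩))
    hm.subset (by
      rw [← hi]
      rintro _ ⟨y, rfl⟩
      exact hd.subset ⟨_, rfl⟩)
  refine ⟨N, hN, j, hj, hjc, ‹_›, ‹_›, ?_, fun b => ?_⟩
  · rw [hjr, hr]; exact hVZ
  · obtain ⟨p, hp⟩ := hlift P ψ (b ≫ j) (hjr.subset ⟨_, rfl⟩)
    rw [← hp, hker]


end Groth.Agent.AVIdx
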