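import Groth.Agent.AVIdx.SubGen
import Groth.Agent.Lib.AVAmple
import Groth.Agent.Lib.AVMulN
import Groth.Agent.H23.TopDim
import Groth.Agent.AVTors.Torsion

/-!
The subvariety carrying the torsion of prime power order of an abelian variety.
-/

set_option linter.style.haveILetI false
set_option linter.unusedSectionVars false
set_option backward.isDefEq.respectTransparency false
set_option backward.isDefEq.respectTransparency.types false

universe u

open CategoryTheory CategoryTheory.Limits MonoidalCategory CartesianMonoidalCategory MonObj GrpObj AlgebraicGeometry TopologicalSpace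

namespace Groth.Agent.AVIdx

open Groth.Agent Groth.Agent.AVAmple

variable {k : Type u} [Field k] [IsAlgClosed k] {A : Over (Spec (CommRingCat.of k))} [GrpObj A] [IsProper A.hom]
  [GeometricallyIntegral A.hom]

theorem pt_injective {a b : 𝟙_ (Over (Spec (CommRingCat.of k))) ⟶ A} (h : pt a = pt b) : a = b :=
  Over.OverMorphism.ext (congrArg Subtype.val ((pointEquivClosedPoint A.hom).injective
    (a₁ := ⟨a.left, Over.w a⟩) (a₂ := ⟨b.left, Over.w b⟩) (Subtype.ext h)))

theorem range_pt (a : 𝟙_ (Over (Spec (CommRingCat.of k))) ⟶ A) : Set.range a.left = {pt a} := by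
  refine Set.Subset.antisymm ?_ (Set.singleton_subset_iff.2 ⟨_, rfl⟩)
  rintro _ ⟨x, rfl⟩
  exact congrArg a.left (@Subsingleton.elim (Spec (CommRingCat.of k)) inferInstance x _)

theorem tr_pt (a b : 𝟙_ (Over (Spec (CommRingCat.of k))) ⟶ A) : (tr b).left (pt a) = pt (a * b) := by
  rw [show a * b = a ≫ tr b by rw [comp_tr, unit_comp]]
  rfl

/-- Rational points lift along surjective maps. -/
theorem exists_pt_lift {P : Over (Spec (CommRingCat.of k))} [LocallyOfFiniteType P.hom] (ψ : P ⟶ A)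
    (a : 𝟙_ (Over (Spec (CommRingCat.of k))) ⟶ A) (h : pt a ∈ Set.range ψ.left) :
    ∃ p : 𝟙_ _ ⟶ P, p ≫ ψ = a := by
  haveI : JacobsonSpace P.left := LocallyOfFiniteType.jacobsonSpace P.hom
  obtain ⟨x, hx⟩ := h
  obtain ⟨y, hy, hyc⟩ := nonempty_inter_closedPoints (X := P.left) (Z := ψ.left ⁻¹' {pt a})
    ⟨x, hx⟩ ((isClosed_pt a).preimage ψ.left.continuous).isLocallyClosed
  let p : 𝟙_ (Over (Spec (CommRingCat.of k))) ⟶ P :=
    Over.homMk (pointOfClosedPoint P.hom y hyc) (pointOfClosedPoint_comp _ _ _)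
  refine ⟨p, pt_injective ?_⟩
  exact (congrArg ψ.left (pointOfClosedPoint_apply P.hom y hyc _)).trans hy

/-- The group of rational points is divisible. -/
theorem exists_pow_eq (n : ℕ) (hn : 1 ≤ n) (a : 𝟙_ (Over (Spec (CommRingCat.of k))) ⟶ A) :
    ∃ b : 𝟙_ (Over (Spec (CommRingCat.of k))) ⟶ A, b ^ n = a := by
  haveI := AVMulN.surjective_pow (A := A) n hn
  obtain ⟨p, hp⟩ := exists_pt_lift (𝟙 A ^ n : A ⟶ A) a ((𝟙 A ^ n : A ⟶ A).left.surjective _)
  exact ⟨p, by rwa [MonObj.comp_pow, Category.comp_id] at hp⟩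

/-- A finite index subgroup containing no less: torsion of `l`-power order lies in some subgroup of finite index
only if it lies in it, the group being divisible. -/
theorem mem_of_index {G : Type*} [CommGroup G] (l : ℕ) [Fact l.Prime] (hdiv : ∀ a : G, ∃ b, b ^ l = a)
    (H K : Subgroup G) (hH : ∀ n (a : G), a ^ (l ^ n) = 1 → a ∈ H) [(K.subgroupOf H).FiniteIndex]
    (n : ℕ) (a : G) (ha : a ^ (l ^ n) = 1) : a ∈ K := by
  let m := (K.subgroupOf H).index
  have hm : m ≠ 0 := Subgroup.FiniteIndex.index_ne_zero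
  obtain ⟨s, m', hm', hmm⟩ := Nat.exists_eq_pow_mul_and_not_dvd hm l (Fact.out : l.Prime).ne_one
  have hroot : ∀ s : ℕ, ∀ a : G, ∃ b, b ^ (l ^ s) = a := by
    intro s
    induction s with
    | zero => exact fun a => ⟨a, by simp⟩
    | succ s ih =>
      intro a
      obtain ⟨b, rfl⟩ := ih a
      obtain ⟨c, rfl⟩ := hdiv b
      exact ⟨c, by rw [← pow_mul, pow_succ']⟩
  obtain ⟨b, hb⟩ := hroot s a
  have hbH : b ∈ H := hH (s + n) b (by rw [pow_add, pow_mul, hb, ha])
  have h1 : a ^ m' ∈ K := by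
    have := Subgroup.pow_index_mem (K.subgroupOf H) ⟨b, hbH⟩
    rw [Subgroup.mem_subgroupOf] at this
    simp only [SubmonoidClass.coe_pow] at this
    rwa [show (K.subgroupOf H).index = l ^ s * m' from hmm, pow_mul, hb] at this
  have h2 : a ^ (l ^ n) ∈ K := ha ▸ K.one_mem
  have hco : Nat.Coprime m' (l ^ n) :=
    ((Fact.out : l.Prime).coprime_iff_not_dvd.2 hm').symm.pow_right n
  have h3 : (a ^ (Nat.gcd m' (l ^ n) : ℤ)) ∈ K := by
    rw [Nat.gcd_eq_gcd_ab, zpow_add, zpow_mul, zpow_mul, zpow_natCast, zpow_natCast]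
    exact K.mul_mem (K.zpow_mem h1 _) (K.zpow_mem h2 _)
  rwa [hco, Nat.cast_one, zpow_one] at h3

theorem isPreirreducible_preimage_val {X : Type*} [TopologicalSpace X] {Z T : Set X} (hTZ : T ⊆ Z)
    (hT : IsPreirreducible T) : IsPreirreducible (Subtype.val ⁻¹' T : Set ↥Z) := by
  intro u v hu hv hu' hv'
  obtain ⟨u₀, hu₀, rfl⟩ := isOpen_induced_iff.1 hu
  obtain ⟨v₀, hv₀, rfl⟩ := isOpen_induced_iff.1 hv
  obtain ⟨a, ha, ha'⟩ := hu'
  obtain ⟨b, hb, hb'⟩ := hv'
  obtain ⟨c, hc, hc'⟩ := hT u₀ v₀ hu₀ hv₀ ⟨a, ha, ha'⟩ ⟨b, hb, hb'⟩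
  exact ⟨⟨c, hTZ hc⟩, hc, hc'⟩

/-- The `l`-power torsion points lie on an abelian subvariety inside their closure. -/
theorem exists_subvariety_torsion (l : ℕ) [Fact l.Prime] :
    ∃ (B : Over (Spec (CommRingCat.of k))) (_ : GrpObj B) (incl : B ⟶ A), IsMonHom incl ∧
      IsClosedImmersion incl.left ∧ IsProper B.hom ∧ GeometricallyIntegral B.hom ∧
      Set.range incl.left ⊆ closure (pt '' {a : 𝟙_ _ ⟶ A | ∃ n, a ^ (l ^ n) = 1}) ∧
      ∀ (n : ℕ) (a : 𝟙_ _ ⟶ A), a ^ (l ^ n) = 1 → ∃ b : 𝟙_ _ ⟶ B, b ≫ incl = a := by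
  classical
  haveI : IsIntegral A.left := GeometricallyIntegral.isIntegral_of_subsingleton A.hom
  haveI : IsCommMonObj A := isCommMonObj_of_isProper_of_geometricallyIntegral A
  haveI : IsLocallyNoetherian A.left := LocallyOfFiniteType.isLocallyNoetherian A.hom
  haveI : CompactSpace A.left := QuasiCompact.compactSpace_of_compactSpace A.hom
  haveI : IsNoetherian A.left := {}
  let tors : Set (𝟙_ (Over (Spec (CommRingCat.of k))) ⟶ A) := {a | ∃ n, a ^ (l ^ n) = 1}
  let Z := closure (pt '' tors)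
  have htm : ∀ a ∈ tors, ∀ b ∈ tors, a * b ∈ tors := by
    rintro a ⟨n, hn⟩ b ⟨m, hm⟩
    exact ⟨n + m, by rw [_root_.mul_pow, pow_add, pow_mul, hn, mul_comm (l ^ n), pow_mul, hm, one_pow, one_pow, _root_.mul_one]⟩
  have hstep : ∀ b, (∀ a ∈ tors, pt (a * b) ∈ Z) → ∀ x ∈ Z, (tr b).left x ∈ Z := fun b hb x hx =>
    (closure_minimal (by rintro _ ⟨a, ha, rfl⟩; show (tr b).left (pt a) ∈ Z; rw [tr_pt]; exact hb a ha)
      (isClosed_closure.preimage (tr b).left.continuous)) hx
  have hmul : ∀ a b, pt a ∈ Z → pt b ∈ Z → pt (a * b) ∈ Z := fun a b ha hb =>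
    tr_pt a b ▸ hstep b (fun c hc => by
      rw [mul_comm c b, ← tr_pt]
      exact hstep c (fun d hd => subset_closure ⟨_, htm d hd c hc, rfl⟩) _ hb) _ ha
  have hinv : ∀ a, pt a ∈ Z → pt a⁻¹ ∈ Z := by
    intro a ha
    have h : pt a⁻¹ = ((𝟙 A)⁻¹ : A ⟶ A).left (pt a) := by
      rw [show a⁻¹ = a ≫ (𝟙 A)⁻¹ by rw [GrpObj.comp_inv, Category.comp_id]]
      rfl
    rw [h]
    refine (closure_minimal ?_ (isClosed_closure.preimage ((𝟙 A)⁻¹ : A ⟶ A).left.continuous)) ha
    rintro _ ⟨c, ⟨n, hn⟩, rfl⟩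
    refine subset_closure ⟨c⁻¹, ⟨n, by rw [inv_pow, hn, inv_one]⟩, ?_⟩
    rw [show c⁻¹ = c ≫ (𝟙 A)⁻¹ by rw [GrpObj.comp_inv, Category.comp_id]]
    rfl
  let H : Subgroup (𝟙_ (Over (Spec (CommRingCat.of k))) ⟶ A) :=
    { carrier := {a | pt a ∈ Z}
      one_mem' := subset_closure ⟨1, ⟨0, one_pow _⟩, rfl⟩
      mul_mem' := fun ha hb => hmul _ _ ha hb
      inv_mem' := fun ha => hinv _ ha }
  -- the component through the origin
  let z₁ : ↥Z := ⟨pt 1, H.one_mem⟩
  let V : Set A.left := Subtype.val '' irreducibleComponent z₁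
  have hZc : IsClosed Z := isClosed_closure
  have hVc : IsClosed V := hZc.isClosedEmbedding_subtypeVal.isClosedMap _ isClosed_irreducibleComponent
  have hVi : IsIrreducible V := isIrreducible_irreducibleComponent.image _ continuous_subtype_val.continuousOn
  have hVZ : V ⊆ Z := by rintro _ ⟨z, -, rfl⟩; exact z.2
  have hmax : ∀ T : Set A.left, IsIrreducible T → T ⊆ Z → V ⊆ T → T ⊆ V := by
    intro T hT hTZ hVT
    have hpre : IsPreirreducible (Subtype.val ⁻¹' T : Set ↥Z) :=
      isPreirreducible_preimage_val hTZ hT.2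
    intro x hx
    have hsub : irreducibleComponent z₁ ⊆ Subtype.val ⁻¹' T := fun z hz => hVT ⟨z, hz, rfl⟩
    exact ⟨⟨x, hTZ hx⟩, (irreducibleComponent_property z₁).2.2 _ hpre hsub ▸ hx, rfl⟩
  obtain ⟨B, _, incl, _, _, hBi, hBp, hsub, hker⟩ := exists_subvariety_in_ker A
    ((𝟙_ (Over (Spec (CommRingCat.of k))) ⟶ A) ⧸ H) (QuotientGroup.mk' H) V hVc hVi
    (by
      rw [show η[A] = (1 : 𝟙_ (Over (Spec (CommRingCat.of k))) ⟶ A) by
        rw [Hom.one_def, toUnit_unique (toUnit _) (𝟙 _), Category.id_comp], range_pt]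
      exact Set.singleton_subset_iff.2 ⟨z₁, mem_irreducibleComponent, rfl⟩)
    (fun a ha => (QuotientGroup.eq_one_iff a).2 (hVZ (ha ⟨_, rfl⟩)))
  haveI : IsIntegral B.left := GeometricallyIntegral.isIntegral_of_subsingleton B.hom
  haveI : JacobsonSpace B.left := LocallyOfFiniteType.jacobsonSpace B.hom
  have hrange : Set.range incl.left ⊆ Z := by
    have hd : Dense (closedPoints B.left) := by
      rw [dense_iff_closure_eq]; exact closure_closedPoints
    rw [← Set.image_univ, ← hd.closure_eq]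
    refine (image_closure_subset_closure_image incl.left.continuous).trans (closure_minimal ?_ hZc)
    rintro _ ⟨y, hy, rfl⟩
    obtain ⟨b, rfl⟩ := (pointEquivClosedPoint B.hom).surjective ⟨y, mem_closedPoints_iff.1 hy⟩ |>.imp
      fun p hp => (show (Over.homMk p.1 p.2 : 𝟙_ (Over (Spec (CommRingCat.of k))) ⟶ B).left
        (IsLocalRing.closedPoint k) = y from congrArg Subtype.val hp)
    exact (QuotientGroup.eq_one_iff _).1 (hker (Over.homMk b.1 b.2))
  have hBV : Set.range incl.left = V := Set.Subset.antisymm (hmax _ (by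
      rw [← Set.image_univ]
      exact (IrreducibleSpace.isIrreducible_univ _).image _ incl.left.continuous.continuousOn) hrange hsub) hsub
  refine ⟨B, ‹_›, incl, ‹_›, ‹_›, hBp, hBi, hrange, fun n a ha => exists_pt_lift incl a (hBV ▸ ?_)⟩
  let K : Subgroup (𝟙_ (Over (Spec (CommRingCat.of k))) ⟶ A) :=
    { carrier := {a | pt a ∈ V}
      one_mem' := ⟨z₁, mem_irreducibleComponent, rfl⟩
      mul_mem' := fun {a b} ha hb => by
        obtain ⟨p, rfl⟩ := exists_pt_lift incl a (hBV ▸ ha)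
        obtain ⟨q, rfl⟩ := exists_pt_lift incl b (hBV ▸ hb)
        rw [← MonObj.mul_comp]
        exact hBV.subset ⟨_, rfl⟩
      inv_mem' := fun {a} ha => by
        obtain ⟨p, rfl⟩ := exists_pt_lift incl a (hBV ▸ ha)
        rw [← GrpObj.inv_comp]
        exact hBV.subset ⟨_, rfl⟩ }
  -- finitely many translates of the component
  haveI : (K.subgroupOf H).FiniteIndex := by
    have hT : ∀ h : H, ∃ C ∈ irreducibleComponents ↥Z, (tr (h : 𝟙_ _ ⟶ A)).left '' V ⊆ Subtype.val '' C := by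
      intro h
      have hi : IsIrreducible ((tr (h : 𝟙_ _ ⟶ A)).left '' V) :=
        hVi.image _ (tr (h : 𝟙_ _ ⟶ A)).left.continuous.continuousOn
      have hs : (tr (h : 𝟙_ _ ⟶ A)).left '' V ⊆ Z := by
        rintro _ ⟨x, hx, rfl⟩
        exact hstep _ (fun c hc => hmul c _ (subset_closure ⟨c, hc, rfl⟩) h.2) x (hVZ hx)
      have hp : IsPreirreducible (Subtype.val ⁻¹' ((tr (h : 𝟙_ _ ⟶ A)).left '' V) : Set ↥Z) :=
        isPreirreducible_preimage_val hs hi.2
      obtain ⟨C, hC, hCsub, hCmax⟩ := exists_preirreducible _ hp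
      refine ⟨C, ⟨⟨?_, hC⟩, fun D hD hCD => (hCmax D hD.2 hCD).le⟩, fun x hx => ⟨⟨x, hs hx⟩, hCsub hx, rfl⟩⟩
      obtain ⟨x, hx⟩ := hi.1
      exact ⟨⟨x, hs hx⟩, hCsub hx⟩
    choose C hC hCs using hT
    haveI : Finite (H ⧸ K.subgroupOf H) := by
      haveI := (NoetherianSpace.finite_irreducibleComponents (α := ↥Z)).to_subtype
      refine Finite.of_injective (fun q => (⟨C q.out, hC q.out⟩ : irreducibleComponents ↥Z)) fun q q' hqq => ?_
      have hCC : C q.out = C q'.out := congrArg Subtype.val hqq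
      rw [← Quotient.out_eq q, ← Quotient.out_eq q']
      refine QuotientGroup.eq.2 ?_
      rw [Subgroup.mem_subgroupOf, Subgroup.coe_mul, Subgroup.coe_inv]
      set h := (q.out : 𝟙_ (Over (Spec (CommRingCat.of k))) ⟶ A)
      set h' := (q'.out : 𝟙_ (Over (Spec (CommRingCat.of k))) ⟶ A)
      let T := (tr h⁻¹).left '' (Subtype.val '' C q.out)
      have hTi : IsIrreducible T :=
        ((hC q.out).1.image _ continuous_subtype_val.continuousOn).image _ (tr h⁻¹).left.continuous.continuousOn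
      have hTZ : T ⊆ Z := by
        rintro _ ⟨_, ⟨z, -, rfl⟩, rfl⟩
        exact hstep _ (fun c hc => hmul c _ (subset_closure ⟨c, hc, rfl⟩) (hinv _ q.out.2)) _ z.2
      have hVT : V ⊆ T := fun x hx => ⟨(tr h).left x, hCs q.out ⟨x, hx, rfl⟩, by
        rw [← Scheme.Hom.comp_apply, ← Over.comp_left, tr_tr, mul_inv_cancel, tr_one]
        rfl⟩
      refine hmax T hTi hTZ hVT ⟨pt h', hCC ▸ hCs q'.out ⟨pt 1, ⟨z₁, mem_irreducibleComponent, rfl⟩, ?_⟩, ?_⟩
      · rw [tr_pt, _root_.one_mul]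
      · rw [tr_pt, mul_comm]
    exact Subgroup.finiteIndex_of_finite_quotient
  exact mem_of_index l (fun a => exists_pow_eq l (Fact.out : l.Prime).one_le a) H K
    (fun n a ha => subset_closure ⟨a, ⟨n, ha⟩, rfl⟩) n a ha

/-- Prime power torsion is dense when the prime is invertible. -/
theorem dense_torsion (l : ℕ) [Fact l.Prime] (hlk : (l : k) ≠ 0) (g : ℕ) (hg : topologicalKrullDim A.left = g) :
    Dense (pt '' {a : 𝟙_ _ ⟶ A | ∃ n, a ^ (l ^ n) = 1}) := by
  haveI : IsIntegral A.left := GeometricallyIntegral.isIntegral_of_subsingleton A.hom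
  obtain ⟨B, _, incl, _, hc, _, _, hrange, hlift⟩ := exists_subvariety_torsion (A := A) l
  haveI : IsIntegral B.left := GeometricallyIntegral.isIntegral_of_subsingleton B.hom
  by_contra hnd
  have hcount : ∀ (B : Over (Spec (CommRingCat.of k))) [GrpObj B] [IsProper B.hom] [GeometricallyIntegral B.hom] (g : ℕ),
      topologicalKrullDim B.left = g → Nat.card {b : 𝟙_ _ ⟶ B // b ^ l = 1} = l ^ (2 * g) := by
    intro B _ _ _ g hg
    haveI : IsCommMonObj B := isCommMonObj_of_isProper_of_geometricallyIntegral B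
    exact (Nat.card_congr (Equiv.subtypeEquivRight fun _ => Iff.rfl)).trans (AVTors.card_tor_of_invertible hg hlk)
  have hne : Set.range incl.left ≠ Set.univ := fun h => hnd (fun x => hrange (h.ge (Set.mem_univ x)))
  have hlt := H23.TopDim.dim_lt_of_ssubset (by rw [hg]; exact fun h => ENat.coe_ne_top g (WithBot.coe_inj.1 h))
    hc.isClosedEmbedding.isClosed_range hne
  rw [← hc.isClosedEmbedding.isEmbedding.toHomeomorph.isHomeomorph.topologicalKrullDim_eq _, hg] at hlt
  obtain ⟨d, hd⟩ : ∃ d : ℕ, topologicalKrullDim B.left = d := by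
    haveI : Nonempty (IrreducibleCloseds B.left) :=
      ⟨⟨Set.univ, IrreducibleSpace.isIrreducible_univ _, isClosed_univ⟩⟩
    generalize hD : topologicalKrullDim B.left = D at hlt
    cases D with
    | bot => exact absurd hD (ne_of_gt (bot_lt_iff_ne_bot.2 fun h => by
        rw [topologicalKrullDim, Order.krullDim_eq_bot_iff] at h
        exact h.false (Classical.arbitrary _)))
    | coe d =>
      cases d with
      | top => exact absurd hlt (by simp)
      | coe d => exact ⟨d, rfl⟩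
  rw [hd] at hlt
  have hdg : d < g := by exact_mod_cast hlt
  let F : {a : 𝟙_ _ ⟶ A // a ^ l = 1} → {b : 𝟙_ _ ⟶ B // b ^ l = 1} := fun a =>
    ⟨(hlift 1 a.1 (by rw [pow_one]; exact a.2)).choose, by
      have h := (hlift 1 a.1 (by rw [pow_one]; exact a.2)).choose_spec
      haveI : Mono incl := (Over.forget _).mono_of_mono_map (by
        show Mono incl.left; infer_instance)
      rw [← cancel_mono incl, MonObj.pow_comp, h, a.2, MonObj.one_comp]⟩
  have hF : Function.Injective F := fun a a' h => by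
    refine Subtype.ext ?_
    rw [← (hlift 1 a.1 (by rw [pow_one]; exact a.2)).choose_spec,
      ← (hlift 1 a'.1 (by rw [pow_one]; exact a'.2)).choose_spec]
    exact congrArg (fun b => b.1 ≫ incl) h
  have hl := (Fact.out : l.Prime)
  haveI : Finite {b : 𝟙_ _ ⟶ B // b ^ l = 1} :=
    Nat.finite_of_card_ne_zero (by rw [hcount B d hd]; exact pow_ne_zero _ hl.ne_zero)
  have := Nat.card_le_card_of_injective F hF
  rw [hcount A g hg, hcount B d hd] at this
  exact absurd ((Nat.pow_le_pow_iff_right hl.one_lt).1 this) (by omega)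

end Groth.Agent.AVIdx
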