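import Groth.Agent.AVIdx.LocalAcyclic
import Groth.Agent.AVIdx.LerayCorner
import Groth.Agent.AVIdx.BoxProduct
import Groth.Agent.AVIdx.NondegEuler
import Groth.Agent.S0354
import Groth.Agent.S7795
import Groth.Agent.GrpSchLib.SmoothRegular

/-!
The vanishing theorem: the cohomology of a non-degenerate invertible module sits in one degree `i`,
that of its inverse in degree `g - i`.
-/

set_option linter.style.haveILetI false
set_option linter.unusedSectionVars false
set_option backward.isDefEq.respectTransparency false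
set_option backward.isDefEq.respectTransparency.types false
set_option autoImplicit false
set_option maxHeartbeats 800000

universe u

open CategoryTheory CategoryTheory.Limits MonoidalCategory CartesianMonoidalCategory MonObj AlgebraicGeometry
open TopologicalSpace

namespace Groth.Agent.AVIdx

open Groth.Agent.H23 Groth.Agent.H23.TrivBasic Groth.Agent.InvX Groth.Agent.AVPair Groth.Agent.AVAmple
open scoped Groth.Agent.H23.PicMul

variable {k : Type u} [Field k] [IsAlgClosed k] {A : Over (Spec (CommRingCat.of k))} [GrpObj A] [IsProper A.hom]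
  [GeometricallyIntegral A.hom]

/-- The module `(p₁ + p₂)^*L ⊗ p₁^*L⁻¹` only has cohomology in degree `g`. -/
theorem subsingleton_HH_diff {g : ℕ} (hg : topologicalKrullDim A.left = g) {c d : PicF.Cl A.left}
    (hc : PicF.IsInvertibleCl c) (hcd : c * d = 1)
    (hnd : Set.Finite {a : 𝟙_ (Over (Spec (CommRingCat.of k))) ⟶ A | pl (tr a) c = c})
    (K : (A ⊗ A).left.Modules) (hK : PicF.IsInvertible K)
    (hKc : PicF.cl K = pl (fst A A * snd A A) c * pl (fst A A) d) (n : ℕ) (hn : n ≠ g) :
    Subsingleton (Coh.HH (A ⊗ A).left K n) := by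
  classical
  haveI : IsCommMonObj A := isCommMonObj_of_isProper_of_geometricallyIntegral A
  haveI : IsIntegral A.left := GeometricallyIntegral.isIntegral_of_subsingleton A.hom
  haveI : IsLocallyNoetherian A.left := LocallyOfFiniteType.isLocallyNoetherian A.hom
  haveI : CompactSpace A.left := QuasiCompact.compactSpace_of_compactSpace A.hom
  haveI : AlgebraicGeometry.IsNoetherian A.left := { }
  haveI : A.left.IsSeparated := ⟨by rw [← Limits.terminal.comp_from A.hom]; infer_instance⟩
  haveI : Smooth A.hom := Groth.Agent.S7795.result A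
  haveI : IsProper (snd A A).left := inferInstanceAs (IsProper (pullback.snd A.hom A.hom))
  haveI : Flat (snd A A).left := inferInstanceAs (Flat (pullback.snd A.hom A.hom))
  haveI : IsLocallyNoetherian (A ⊗ A).left := LocallyOfFiniteType.isLocallyNoetherian (snd A A).left
  haveI : HasInjectiveResolutions (A ⊗ A).left.Modules := KFlatLib.hasInjectiveResolutions_modules
  have hKq : Coh.IsQCoh K := ProjUPX.isQCoh_of_isInvertible hK
  let T : Set A.left := (fun a : 𝟙_ (Over (Spec (CommRingCat.of k))) ⟶ A => a.left (IsLocalRing.closedPoint k)) ''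
    {a | pl (tr a) c = c}
  have hT : T.Finite := hnd.image _
  have hTc : ∀ y ∈ T, IsClosed ({y} : Set A.left) := by
    rintro _ ⟨a, -, rfl⟩
    exact isClosed_pt a
  have hsl : ∀ a : 𝟙_ (Over (Spec (CommRingCat.of k))) ⟶ A, a.left (IsLocalRing.closedPoint k) ∉ T →
      ∀ i, Subsingleton (Coh.HH A.left ((Scheme.Modules.pullback (AVPhi.slice A A a).left).obj K) i) := by
    intro a ha i
    have he : PicF.cl ((Scheme.Modules.pullback (AVPhi.slice A A a).left).obj K) = pl (tr a) c * d := by
      show pl (AVPhi.slice A A a) (PicF.cl K) = _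
      rw [hKc, map_mul, pl_pl, pl_pl, AVPhi.comp_braiding, lift_fst, pl_id]
    refine AVPhi.subsingleton_HH_of_invariant (PicClLib.isInvertible_pullback _ hK) (fun b => ?_) (fun ht => ?_) i
    · rw [he]
      simpa only [_root_.mul_one] using AVPhi.invariant_diff hc hcd (m := 1) (fun _ => map_one _) a b
    · rw [← CubeAb.cl_eq_one_iff, he] at ht
      refine ha ⟨a, ?_, rfl⟩
      calc pl (tr a) c = pl (tr a) c * (d * c) := by rw [mul_comm d c, hcd, _root_.mul_one]
        _ = c := by rw [← _root_.mul_assoc, ht, _root_.one_mul]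
  have hoff : ∀ p, ∀ y ∉ T, Subsingleton (((Coh.Rpush (snd A A).left p).obj K).presheaf.stalk y) :=
    fun p y hy => AVPhi.subsingleton_stalk_Rpush_of_slices A A K hK hT hTc hsl p y hy
  have hzero : ∀ p, p ≠ g → IsZero ((Coh.Rpush (snd A A).left p).obj K) := by
    intro p hp
    refine AVPhi.isZero_of_stalks fun y => ?_
    rcases lt_or_gt_of_ne hp with h | h
    · by_cases hy : y ∈ T
      · haveI := GrpSchLib.isRegularLocalRing_stalk_of_smooth A.hom y
        exact subsingleton_stalk_Rpush_of_lt (snd A A).left K (CurveDeg.isCoh_of_isInvertible hK)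
          (H23.Seesaw.isFlatOver_of_isInvertible _ hK) hT hTc
          ((Groth.Agent.S0354.result k A y (hTc y hy)).trans hg) (fun p _ z hz => hoff p z hz) h
      · exact hoff p y hy
    · exact AVPhi.subsingleton_stalk_Rpush_of_slice A A K hK Set.finite_empty (fun x hx => hx.elim) p
        (fun a _ => Snapper.subsingleton_HH_of_dim_le hg.le (QCoh.isQCoh_pullback _ hKq) h) y
        (Set.notMem_empty y)
  refine subsingleton_HH_of_terms (snd A A).left n K fun a b hab => ?_
  by_cases hb : b = g
  · obtain ⟨a, rfl⟩ : ∃ a', a = a' + 1 := ⟨a - 1, by omega⟩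
    exact CurveVanish.subsingleton_HH_of_finite hT hTc (hoff b) a
  · exact AVPhi.subsingleton_HH_of_isZero (hzero b hb) a

/-- An external product of a non-degenerate module and its inverse only has cohomology in degree `g`. -/
theorem subsingleton_HH_box {g : ℕ} (hg : topologicalKrullDim A.left = g) {L M : A.left.Modules}
    (hL : PicF.IsInvertible L) (hM : PicF.IsInvertible M) (hLM : PicF.cl L * PicF.cl M = 1)
    (hnd : Set.Finite {a : 𝟙_ (Over (Spec (CommRingCat.of k))) ⟶ A | pl (tr a) (PicF.cl L) = PicF.cl L})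
    (n : ℕ) (hn : n ≠ g) :
    Subsingleton (Coh.HH (A ⊗ A).left (CohB1.tensorMod ((Scheme.Modules.pullback (snd A A).left).obj M)
      ((Scheme.Modules.pullback (fst A A).left).obj L)) n) := by
  haveI : IsCommMonObj A := isCommMonObj_of_isProper_of_geometricallyIntegral A
  haveI : IsIntegral A.left := GeometricallyIntegral.isIntegral_of_subsingleton A.hom
  have hc : PicF.IsInvertibleCl (PicF.cl L) := ⟨L, rfl, hL⟩
  have hd : PicF.IsInvertibleCl (PicF.cl M) := ⟨M, rfl, hM⟩
  obtain ⟨K, hKc, hK⟩ : PicF.IsInvertibleCl (pl (fst A A * snd A A) (PicF.cl L) * pl (fst A A) (PicF.cl M)) :=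
    PicMul.isInvertibleCl_mul (isInv_pl _ hc) (isInv_pl _ hd)
  let h : A ⊗ A ⟶ A ⊗ A := lift (snd A A) ((snd A A)⁻¹ * fst A A)
  let h' : A ⊗ A ⟶ A ⊗ A := lift (fst A A * snd A A) (fst A A)
  have h1 : h ≫ h' = 𝟙 _ := by
    refine CartesianMonoidalCategory.hom_ext _ _ ?_ ?_
    · rw [Category.assoc, lift_fst, MonObj.comp_mul, lift_fst, lift_snd, mul_inv_cancel_left, Category.id_comp]
    · rw [Category.assoc, lift_snd, lift_fst, Category.id_comp]
  have h2 : h' ≫ h = 𝟙 _ := by
    refine CartesianMonoidalCategory.hom_ext _ _ ?_ ?_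
    · rw [Category.assoc, lift_fst, lift_snd, Category.id_comp]
    · rw [Category.assoc, lift_snd, MonObj.comp_mul, GrpObj.comp_inv, lift_snd, lift_fst, inv_mul_cancel_left,
        Category.id_comp]
  let hi : A ⊗ A ≅ A ⊗ A := ⟨h, h', h1, h2⟩
  haveI : IsIso h.left := ((Over.forget _).mapIso hi).isIso_hom
  have e : (Scheme.Modules.pullback h.left).obj K ≅
      CohB1.tensorMod ((Scheme.Modules.pullback (snd A A).left).obj M) ((Scheme.Modules.pullback (fst A A).left).obj L) := by
    refine (PicMul.cl_eq_iff.1 ?_).some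
    rw [PicMul.cl_tensor]
    show pl h (PicF.cl K) = pl (snd A A) (PicF.cl M) * pl (fst A A) (PicF.cl L)
    rw [hKc, map_mul, pl_pl, pl_pl, MonObj.comp_mul, lift_fst, lift_snd, mul_inv_cancel_left, mul_comm]
  exact QCoh.subsingleton_HH_of_iso e n ((AVPhi.subsingleton_HH_iff_pullback h.left
    (ProjUPX.isQCoh_of_isInvertible hK) n).2 (subsingleton_HH_diff hg hc hLM hnd K hK hKc n hn))

/-- A module with non-zero Euler characteristic has some non-zero cohomology. -/
theorem exists_not_subsingleton_of_euler_ne_zero {X : Scheme.{u}} [X.Over (Spec (CommRingCat.of k))]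
    {M : X.Modules} (h : Curv2.euler k X M ≠ 0) : ∃ p, ¬ Subsingleton (Coh.HH X M p) := by
  by_contra hno
  push Not at hno
  refine h (finsum_eq_zero_of_forall_eq_zero fun i => ?_)
  haveI := hno i
  rw [Module.finrank_zero_of_subsingleton, Nat.cast_zero, mul_zero]

/-- The vanishing theorem, with the index of the inverse. -/
theorem exists_index_pair {g : ℕ} (hg : topologicalKrullDim A.left = g) {L M : A.left.Modules}
    (hL : PicF.IsInvertible L) (hM : PicF.IsInvertible M) (hLM : PicF.cl L * PicF.cl M = 1)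
    (hnd : Set.Finite {a : 𝟙_ (Over (Spec (CommRingCat.of k))) ⟶ A | pl (tr a) (PicF.cl L) = PicF.cl L}) :
    ∃ i ≤ g, (∀ j, j ≠ i → Subsingleton (Coh.HH A.left L j)) ∧ ¬ Subsingleton (Coh.HH A.left L i) ∧
      (∀ j, j ≠ g - i → Subsingleton (Coh.HH A.left M j)) ∧ ¬ Subsingleton (Coh.HH A.left M (g - i)) := by
  haveI : IsCommMonObj A := isCommMonObj_of_isProper_of_geometricallyIntegral A
  letI : A.left.Over (Spec (CommRingCat.of k)) := ⟨A.hom⟩
  haveI : Nonempty A.left := ⟨η[A].left (IsLocalRing.closedPoint k)⟩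
  have hndM : Set.Finite {a : 𝟙_ (Over (Spec (CommRingCat.of k))) ⟶ A | pl (tr a) (PicF.cl M) = PicF.cl M} := by
    refine hnd.subset fun a (ha : pl (tr a) (PicF.cl M) = PicF.cl M) => ?_
    have h := congrArg (pl (tr a)) hLM
    rw [map_mul, map_one, ha] at h
    exact left_inv_eq_right_inv (a := PicF.cl M) h ((mul_comm _ _).trans hLM)
  obtain ⟨p, q, hpq, hp, -, hLp, hMq, hL0, hM0⟩ := concentrated_of_box A A (g := g) hg.le hg.le hL hM
    (exists_not_subsingleton_of_euler_ne_zero (euler_ne_zero_of_finite hL hnd))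
    (exists_not_subsingleton_of_euler_ne_zero (euler_ne_zero_of_finite hM hndM))
    (fun n hn => subsingleton_HH_box hg hL hM hLM hnd n hn)
  obtain rfl : q = g - p := by omega
  exact ⟨p, hp, hL0, hLp, hM0, hMq⟩

end Groth.Agent.AVIdx
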